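import Groth.Agent.H25Cubic.Tri
import Mathlib.Analysis.Complex.Polynomial.Basic
import Mathlib.LinearAlgebra.FiniteDimensional.Lemmas

/-! Eckardt points of smooth cubic surfaces and their involutions. -/

set_option autoImplicit false

namespace Groth.Agent.H25Cubic
open MvPolynomial

abbrev V4 := Fin 4 → ℂ

abbrev IsSmooth (f : MvPolynomial (Fin 4) ℂ) : Prop :=
  ∀ v : V4, v ≠ 0 → eval v f = 0 → ∃ i : Fin 4, eval v (pderiv i f) ≠ 0

abbrev IsEck (f : MvPolynomial (Fin 4) ℂ) (e : V4) : Prop :=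
  ∃ U : Fin 3 → Submodule ℂ (Fin 4 → ℂ), Function.Injective U ∧
    ∀ i : Fin 3, Module.finrank ℂ ↥(U i) = 2 ∧ e ∈ U i ∧ ∀ u ∈ U i, eval u f = 0

abbrev IsInv (f : MvPolynomial (Fin 4) ℂ) (e : V4) (A : Matrix (Fin 4) (Fin 4) ℂ) : Prop :=
  A * A = 1 ∧ Module.finrank ℂ ↥(LinearMap.ker (Matrix.toLin' A - LinearMap.id)) = 3 ∧
    A.mulVec e = -e ∧ ∃ c : ℂ, aeval (fun i : Fin 4 => ∑ j : Fin 4, C (A i j) * X j) f = C c * f

variable {f : MvPolynomial (Fin 4) ℂ}

lemma span_pair_eq {U : Submodule ℂ V4} (h : Module.finrank ℂ U = 2) {a b : V4} (ha : a ∈ U)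
    (hb : b ∈ U) (ha0 : a ≠ 0) (hab : b ∉ Submodule.span ℂ {a}) : Submodule.span ℂ {a, b} = U := by
  refine Submodule.eq_of_le_of_finrank_eq (Submodule.span_le.2 ?_) ?_
  · intro x hx
    rcases hx with rfl | rfl
    exacts [ha, hb]
  · have hli : LinearIndependent ℂ ![a, b] := by
      rw [LinearIndependent.pair_iff' ha0]
      exact fun s hs => hab (Submodule.mem_span_singleton.2 ⟨s, hs⟩)
    rw [h, ← Matrix.range_cons_cons_empty a b (![] : Fin 0 → V4), finrank_span_eq_card hli]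
    simp

lemma exists_other {U : Submodule ℂ V4} (h : Module.finrank ℂ U = 2) (a : V4) :
    ∃ b ∈ U, b ∉ Submodule.span ℂ {a} := by
  by_contra! hc
  have := Submodule.finrank_mono (show U ≤ Submodule.span ℂ {a} from hc)
  have := finrank_span_le_card (R := ℂ) ({a} : Set V4)
  simp at this
  omega

lemma finrank_ker_dual {φ : V4 →ₗ[ℂ] ℂ} (h : φ ≠ 0) : Module.finrank ℂ (LinearMap.ker φ) = 3 := by
  have := LinearMap.finrank_range_add_finrank_ker φ
  rw [LinearMap.range_eq_top.2 (LinearMap.surjective h)] at this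
  simp at this
  omega

/-- The linear form `ℓ(y) = T(e,e,y)`. -/
noncomputable abbrev lin (f : MvPolynomial (Fin 4) ℂ) (e : V4) : V4 →ₗ[ℂ] ℂ := tri f e e

lemma lin_ne_zero (hf : f.IsHomogeneous 3) (hsm : IsSmooth f) {e : V4} (he : e ≠ 0)
    (hfe : eval e f = 0) : lin f e ≠ 0 := by
  obtain ⟨y, hy⟩ := exists_tri_ne_zero hf (hsm e he hfe)
  exact fun h => hy (by rw [tri_rot]; exact DFunLike.congr_fun h y)

lemma IsEck.eval_eq_zero {e : V4} (h : IsEck f e) : eval e f = 0 := by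
  obtain ⟨U, -, hU⟩ := h
  exact (hU 0).2.2 e (hU 0).2.1

lemma eval_pair (hf : f.IsHomogeneous 3) {e u : V4} (he : eval e f = 0) (hu : eval u f = 0)
    (h1 : tri f e e u = 0) (h2 : tri f e u u = 0) {x : V4} (hx : x ∈ Submodule.span ℂ {e, u}) :
    eval x f = 0 := by
  obtain ⟨a, b, rfl⟩ := Submodule.mem_span_pair.1 hx
  rw [eval_eq_tri hf] at he hu
  rw [eval_eq_tri hf]
  simp only [map_add, map_smul, LinearMap.add_apply, LinearMap.smul_apply, smul_eq_mul]
  simp only [tri_rot f u e e, tri_swap23 f e u e, tri_rot f u u e, tri_rot f u e u, he, hu, h1, h2]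
  ring

lemma line_rel (hf : f.IsHomogeneous 3) {e u : V4} (he : eval e f = 0) (hu : eval u f = 0)
    (h1 : eval (u + e) f = 0) (h2 : eval (u + (-1 : ℂ) • e) f = 0) :
    tri f e e u = 0 ∧ tri f e u u = 0 := by
  rw [eval_eq_tri hf] at he hu
  rw [← one_smul ℂ e, eval_add_smul hf, he, hu] at h1
  rw [eval_add_smul hf, he, hu] at h2
  exact ⟨by linear_combination (1/6 : ℂ) * h1 + (1/6 : ℂ) * h2,
    by linear_combination (1/6 : ℂ) * h1 - (1/6 : ℂ) * h2⟩

lemma span_triple_ker (hf : f.IsHomogeneous 3) (hsm : IsSmooth f) {e a b : V4} (he : e ≠ 0)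
    (hfe : eval e f = 0) (ha : lin f e a = 0) (hb : lin f e b = 0)
    (ha' : a ∉ Submodule.span ℂ {e}) (hb' : b ∉ Submodule.span ℂ {e, a}) {x : V4}
    (hx : lin f e x = 0) : ∃ r s t : ℂ, x = r • e + s • a + t • b := by
  have hli : LinearIndependent ℂ ![e, a, b] := by
    rw [Fintype.linearIndependent_iff]
    intro g hg
    simp only [Fin.sum_univ_three, Matrix.cons_val_zero, Matrix.cons_val_one, Matrix.cons_val] at hg
    have g2 : g 2 = 0 := by
      by_contra h
      refine hb' (Submodule.mem_span_pair.2 ⟨-(g 0 / g 2), -(g 1 / g 2), ?_⟩)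
      have := congrArg (fun v => (g 2)⁻¹ • v) hg
      simp only [smul_add, smul_smul, inv_mul_cancel₀ h, one_smul, smul_zero] at this
      rw [← sub_eq_zero, ← neg_eq_zero, ← this]
      module
    rw [g2, zero_smul, add_zero] at hg
    have g1 : g 1 = 0 := by
      by_contra h
      refine ha' (Submodule.mem_span_singleton.2 ⟨-(g 0 / g 1), ?_⟩)
      have := congrArg (fun v => (g 1)⁻¹ • v) hg
      simp only [smul_add, smul_smul, inv_mul_cancel₀ h, one_smul, smul_zero] at this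
      rw [← sub_eq_zero, ← neg_eq_zero, ← this]
      module
    rw [g1, zero_smul, add_zero] at hg
    have g0 : g 0 = 0 := (smul_eq_zero.1 hg).resolve_right he
    intro i; fin_cases i <;> assumption
  have heq : Submodule.span ℂ (Set.range ![e, a, b]) = LinearMap.ker (lin f e) := by
    refine Submodule.eq_of_le_of_finrank_eq (Submodule.span_le.2 ?_) ?_
    · rintro _ ⟨i, rfl⟩
      fin_cases i
      · exact (eval_eq_tri hf e).symm.trans hfe
      · exact ha
      · exact hb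
    · rw [finrank_span_eq_card hli, finrank_ker_dual (lin_ne_zero hf hsm he hfe)]; simp
  have hx' : x ∈ LinearMap.ker (lin f e) := hx
  rw [← heq, Submodule.mem_span_range_iff_exists_fun] at hx'
  obtain ⟨c, rfl⟩ := hx'
  exact ⟨c 0, c 1, c 2, by simp [Fin.sum_univ_three]⟩

lemma IsEck.tri_ker (hf : f.IsHomogeneous 3) (hsm : IsSmooth f) {e : V4} (he : e ≠ 0)
    (h : IsEck f e) {x y : V4} (hx : lin f e x = 0) (hy : lin f e y = 0) : tri f e x y = 0 := by
  have hfe := h.eval_eq_zero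
  obtain ⟨U, hinj, hU⟩ := h
  choose u hu hu' using fun i => exists_other (hU i).1 e
  have hsp : ∀ i, Submodule.span ℂ {e, u i} = U i := fun i =>
    span_pair_eq (hU i).1 (hU i).2.1 (hu i) he (hu' i)
  have hrel : ∀ i, tri f e e (u i) = 0 ∧ tri f e (u i) (u i) = 0 := fun i =>
    line_rel hf hfe ((hU i).2.2 _ (hu i)) ((hU i).2.2 _ (add_mem (hu i) (hU i).2.1))
      ((hU i).2.2 _ (add_mem (hu i) (Submodule.smul_mem _ _ (hU i).2.1)))
  have hne : ∀ i j, i ≠ j → u j ∉ U i := fun i j hij hmem => by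
    have := span_pair_eq (hU i).1 (hU i).2.1 hmem he (hu' j)
    exact hij (hinj (this.symm.trans (hsp j)))
  have h01 : u 1 ∉ Submodule.span ℂ {e, u 0} := by rw [hsp 0]; exact hne 0 1 (by decide)
  have hfee : tri f e e e = 0 := (eval_eq_tri hf e).symm.trans hfe
  have hcomb := fun x hx => span_triple_ker hf hsm he hfe (hrel 0).1 (hrel 1).1 (hu' 0) h01 (x := x) hx
  obtain ⟨r, s, t, h2⟩ := hcomb (u 2) (hrel 2).1
  have hs : s ≠ 0 := fun h0 => hne 1 2 (by decide) (by
    rw [h2, h0, zero_smul, add_zero]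
    exact add_mem (Submodule.smul_mem _ _ (hU 1).2.1) (Submodule.smul_mem _ _ (hu 1)))
  have ht : t ≠ 0 := fun h0 => hne 0 2 (by decide) (by
    rw [h2, h0, zero_smul, add_zero]
    exact add_mem (Submodule.smul_mem _ _ (hU 0).2.1) (Submodule.smul_mem _ _ (hu 0)))
  have key : tri f e (u 0) (u 1) = 0 := by
    have h3 := (hrel 2).2
    rw [h2] at h3
    simp only [map_add, map_smul, LinearMap.add_apply, LinearMap.smul_apply, smul_eq_mul,
      tri_swap23 f e (u 0) e, tri_swap23 f e (u 1) e, tri_swap23 f e (u 1) (u 0),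
      hfee, (hrel 0).1, (hrel 0).2, (hrel 1).1, (hrel 1).2] at h3
    have h4 : (2 * s * t) * tri f e (u 0) (u 1) = 0 := by linear_combination h3
    exact (mul_eq_zero.1 h4).resolve_left (by simp [hs, ht])
  obtain ⟨a, b, c, rfl⟩ := hcomb x hx
  obtain ⟨a', b', c', rfl⟩ := hcomb y hy
  simp only [map_add, map_smul, LinearMap.add_apply, LinearMap.smul_apply, smul_eq_mul,
    tri_swap23 f e (u 0) e, tri_swap23 f e (u 1) e, tri_swap23 f e (u 1) (u 0),
    hfee, (hrel 0).1, (hrel 0).2, (hrel 1).1, (hrel 1).2, key]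
  ring

lemma IsEck.exists_form (hf : f.IsHomogeneous 3) (hsm : IsSmooth f) {e : V4} (he : e ≠ 0)
    (h : IsEck f e) : ∃ m : V4 →ₗ[ℂ] ℂ, m e = 2 ∧
      ∀ x y, 2 * tri f e x y = lin f e x * m y + lin f e y * m x := by
  obtain ⟨z, hz⟩ := LinearMap.surjective (lin_ne_zero hf hsm he h.eval_eq_zero) 1
  refine ⟨(2 : ℂ) • tri f e z - tri f e z z • lin f e, ?_, fun x y => ?_⟩
  · simp only [LinearMap.sub_apply, LinearMap.smul_apply, smul_eq_mul,
      tri_swap23 f e z e, hz, lin, show tri f e e e = 0 from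
        (eval_eq_tri hf e).symm.trans h.eval_eq_zero]
    ring
  · have h0 := h.tri_ker hf hsm he (x := x - lin f e x • z) (y := y - lin f e y • z)
      (by simp [hz]) (by simp [hz])
    simp only [map_sub, map_smul, LinearMap.sub_apply, LinearMap.smul_apply, smul_eq_mul] at h0 ⊢
    rw [tri_swap23 f e x z] at h0
    linear_combination (2 : ℂ) * h0

/-- The matrix of `x ↦ x - m(x)•e`. -/
noncomputable def reflMat (m : V4 →ₗ[ℂ] ℂ) (e : V4) : Matrix (Fin 4) (Fin 4) ℂ :=
  LinearMap.toMatrix' (LinearMap.id - m.smulRight e)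

lemma reflMat_mulVec (m : V4 →ₗ[ℂ] ℂ) (e x : V4) : (reflMat m e).mulVec x = x - m x • e := by
  show Matrix.toLin' (LinearMap.toMatrix' _) x = _
  rw [Matrix.toLin'_toMatrix']
  simp

lemma matrix_ext {A B : Matrix (Fin 4) (Fin 4) ℂ} (h : ∀ x, A.mulVec x = B.mulVec x) : A = B :=
  Matrix.toLin'.injective (LinearMap.ext fun x => by simp [h x])

lemma isInv_reflMat (hf : f.IsHomogeneous 3) (hsm : IsSmooth f) {e : V4} (he : e ≠ 0)
    (hfe : eval e f = 0) {m : V4 →ₗ[ℂ] ℂ} (hme : m e = 2)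
    (hm : ∀ x y, 2 * tri f e x y = lin f e x * m y + lin f e y * m x) :
    IsInv f e (reflMat m e) := by
  refine ⟨matrix_ext fun x => ?_, ?_, ?_, 1, (subst_eq_iff _ _ _ _).2 fun x => ?_⟩
  · rw [← Matrix.mulVec_mulVec, Matrix.one_mulVec, reflMat_mulVec, reflMat_mulVec, map_sub,
      map_smul, hme, smul_eq_mul]
    module
  · have : LinearMap.ker (Matrix.toLin' (reflMat m e) - LinearMap.id) = LinearMap.ker m := by
      ext x
      simp [reflMat_mulVec, he]
    rw [this, finrank_ker_dual]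
    exact fun h => by simp [h] at hme
  · rw [reflMat_mulVec, hme]; module
  · have h3 := hm x x
    have h0 := (eval_eq_tri hf e).symm.trans hfe
    rw [reflMat_mulVec, sub_eq_add_neg, ← neg_smul, eval_add_smul hf, eval_eq_tri hf x, h0]
    simp only [lin] at h3
    linear_combination (-3/2 : ℂ) * m x * h3

lemma IsInv.decomp {e : V4} {A : Matrix (Fin 4) (Fin 4) ℂ} (he : e ≠ 0) (h : IsInv f e A) (x : V4) :
    ∃ (w : V4) (t : ℂ), A.mulVec w = w ∧ x = w + t • e := by
  have hW : e ∉ LinearMap.ker (Matrix.toLin' A - LinearMap.id) := by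
    simp only [LinearMap.mem_ker, LinearMap.sub_apply, Matrix.toLin'_apply, h.2.2.1, LinearMap.id_apply]
    intro h0
    apply he
    have : (-2 : ℂ) • e = 0 := by rw [← h0]; module
    simpa using this
  have hlt : LinearMap.ker (Matrix.toLin' A - LinearMap.id) <
      LinearMap.ker (Matrix.toLin' A - LinearMap.id) ⊔ Submodule.span ℂ {e} :=
    left_lt_sup.2 fun hle => hW (hle (Submodule.mem_span_singleton_self e))
  have h4 := Submodule.finrank_lt_finrank_of_lt hlt
  have h5 := Submodule.finrank_le (LinearMap.ker (Matrix.toLin' A - LinearMap.id) ⊔ Submodule.span ℂ {e})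
  have htop : LinearMap.ker (Matrix.toLin' A - LinearMap.id) ⊔ Submodule.span ℂ {e} = ⊤ := by
    apply Submodule.eq_top_of_finrank_eq
    rw [h.2.1] at h4
    simp only [Module.finrank_fin_fun] at h5 ⊢
    omega
  obtain ⟨w, hw, v, hv, rfl⟩ := Submodule.mem_sup.1 (htop.ge (Submodule.mem_top (x := x)))
  obtain ⟨t, rfl⟩ := Submodule.mem_span_singleton.1 hv
  exact ⟨w, t, by simpa [sub_eq_zero] using hw, rfl⟩

lemma IsInv.props (hf : f.IsHomogeneous 3) (hf0 : f ≠ 0) (hsm : IsSmooth f) {e : V4}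
    {A : Matrix (Fin 4) (Fin 4) ℂ} (he : e ≠ 0) (hfe : eval e f = 0) (h : IsInv f e A) :
    (∀ x y, A.mulVec x = x → A.mulVec y = y → tri f e x y = 0) ∧
      ∃ w, A.mulVec w = w ∧ lin f e w = 1 := by
  obtain ⟨c, hc⟩ := h.2.2.2
  rw [subst_eq_iff] at hc
  have hT := fun x y z => tri_map hf hf hc x y z
  obtain ⟨x0, hx0⟩ : ∃ x, eval x f ≠ 0 := by
    by_contra! h0
    exact hf0 (MvPolynomial.funext fun x => by simp [h0 x])
  have hcc : c * c = 1 := by
    have := hc (A.mulVec x0)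
    rw [Matrix.mulVec_mulVec, h.1, Matrix.one_mulVec, hc] at this
    exact mul_right_cancel₀ hx0 (by linear_combination -this)
  have hee := (eval_eq_tri hf e).symm.trans hfe
  obtain ⟨z, hz⟩ := LinearMap.surjective (lin_ne_zero hf hsm he hfe) 1
  obtain ⟨w, t, hw, rfl⟩ := h.decomp he z
  simp only [lin, map_add, map_smul, hee, smul_eq_mul, mul_zero, add_zero] at hz
  have hc1 : c = 1 := by
    have := hT e e w
    rw [h.2.2.1, hw] at this
    simp only [map_neg, LinearMap.neg_apply, neg_neg, hz, mul_one] at this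
    exact this.symm
  refine ⟨fun x y hx hy => ?_, w, hw, hz⟩
  have := hT e x y
  rw [h.2.2.1, hx, hy, hc1] at this
  simp only [map_neg, LinearMap.neg_apply, one_mul] at this
  linear_combination (-1/2 : ℂ) * this

lemma IsInv.eq_reflMat (hf : f.IsHomogeneous 3) (hf0 : f ≠ 0) (hsm : IsSmooth f) {e : V4}
    {A : Matrix (Fin 4) (Fin 4) ℂ} (he : e ≠ 0) (hfe : eval e f = 0) (h : IsInv f e A)
    {m : V4 →ₗ[ℂ] ℂ} (hme : m e = 2)
    (hm : ∀ x y, 2 * tri f e x y = lin f e x * m y + lin f e y * m x) : A = reflMat m e := by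
  obtain ⟨hQ, w0, hw0, hl0⟩ := h.props hf hf0 hsm he hfe
  have hmW : ∀ w, A.mulVec w = w → m w = 0 := by
    intro w hw
    have h00 := hm w0 w0
    rw [hQ w0 w0 hw0 hw0, hl0] at h00
    have h0 : m w0 = 0 := by linear_combination (-1/2 : ℂ) * h00
    have h01 := hm w0 w
    rw [hQ w0 w hw0 hw, hl0, h0] at h01
    linear_combination -h01
  refine matrix_ext fun x => ?_
  obtain ⟨w, t, hw, rfl⟩ := h.decomp he x
  rw [reflMat_mulVec, Matrix.mulVec_add, Matrix.mulVec_smul, hw, h.2.2.1, map_add, map_smul,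
    hmW w hw, hme, smul_eq_mul]
  module

theorem existsUnique_isInv (hf : f.IsHomogeneous 3) (hf0 : f ≠ 0) (hsm : IsSmooth f) {e : V4}
    (he : e ≠ 0) (hE : IsEck f e) : ∃! A, IsInv f e A := by
  obtain ⟨m, hme, hm⟩ := hE.exists_form hf hsm he
  exact ⟨_, isInv_reflMat hf hsm he hE.eval_eq_zero hme hm,
    fun A hA => hA.eq_reflMat hf hf0 hsm he hE.eval_eq_zero hme hm⟩

lemma exists_root_cubic (a b c d : ℂ) (h : a ≠ 0) :
    ∃ t : ℂ, a * t ^ 3 + b * t ^ 2 + c * t + d = 0 := by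
  obtain ⟨t, ht⟩ := IsAlgClosed.exists_root
    (Polynomial.C a * Polynomial.X ^ 3 + Polynomial.C b * Polynomial.X ^ 2 +
      Polynomial.C c * Polynomial.X + Polynomial.C d)
    (by rw [Polynomial.degree_cubic h]; decide)
  exact ⟨t, by simpa [Polynomial.IsRoot] using ht⟩

theorem isEck_of_isInv (hf : f.IsHomogeneous 3) (hf0 : f ≠ 0) (hsm : IsSmooth f) {p : V4}
    {A : Matrix (Fin 4) (Fin 4) ℂ} (hp : p ≠ 0) (hfp : eval p f = 0) (h : IsInv f p A) :
    IsEck f p := by
  obtain ⟨hQ, z, hz, hlz⟩ := h.props hf hf0 hsm hp hfp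
  have hppp := (eval_eq_tri hf p).symm.trans hfp
  set W := LinearMap.ker (Matrix.toLin' A - LinearMap.id) with hWdef
  have memW : ∀ x, x ∈ W ↔ A.mulVec x = x := fun x => by simp [hWdef, sub_eq_zero]
  -- the kernel of `lin` in `W`
  let φ : W →ₗ[ℂ] ℂ := (lin f p).comp W.subtype
  have hφ : φ ≠ 0 := fun h0 => by
    have h9 : lin f p z = 0 := DFunLike.congr_fun h0 (⟨z, (memW z).2 hz⟩ : W)
    exact one_ne_zero (α := ℂ) (hlz.symm.trans h9)
  have hK : Module.finrank ℂ (LinearMap.ker φ) = 2 := by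
    have := LinearMap.finrank_range_add_finrank_ker φ
    rw [LinearMap.range_eq_top.2 (LinearMap.surjective hφ), h.2.1] at this
    simp at this
    omega
  let Wl : Submodule ℂ V4 := (LinearMap.ker φ).map W.subtype
  have hWl : Module.finrank ℂ Wl = 2 := by
    rw [← hK]; exact Submodule.finrank_map_subtype_eq _ _
  have memWl : ∀ x ∈ Wl, A.mulVec x = x ∧ lin f p x = 0 := by
    rintro _ ⟨⟨x, hx⟩, hx', rfl⟩
    exact ⟨(memW x).1 hx, hx'⟩
  -- no double zero
  have nodouble : ∀ u ∈ Wl, u ≠ 0 → ¬ ∀ y ∈ Wl, tri f y u u = 0 := by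
    intro u hu hu0 hall
    obtain ⟨hAu, hlu⟩ := memWl u hu
    obtain ⟨s, hs⟩ := IsAlgClosed.exists_pow_nat_eq (-tri f z u u) zero_lt_two
    have hv0 : u + s • p ≠ 0 := by
      intro h0
      have h1 := congrArg A.mulVec h0
      rw [Matrix.mulVec_add, Matrix.mulVec_smul, hAu, h.2.2.1, Matrix.mulVec_zero] at h1
      have : (2 : ℂ) • u = 0 := by rw [← add_zero (0 : V4)]; nth_rewrite 1 [← h0]; rw [← h1]; module
      exact hu0 (by simpa using this)
    have key : ∀ y, tri f y (u + s • p) (u + s • p) = 0 := by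
      intro y
      obtain ⟨w, t, hw, rfl⟩ := h.decomp hp y
      have hy' : w - lin f p w • z ∈ Wl :=
        ⟨⟨w - lin f p w • z, sub_mem ((memW w).2 hw) (W.smul_mem _ ((memW z).2 hz))⟩,
          by simp [φ, hlz], rfl⟩
      have h1 := hall _ hy'
      simp only [map_sub, map_smul, LinearMap.sub_apply, LinearMap.smul_apply, smul_eq_mul] at h1
      have h2 : tri f p u u = 0 := hQ u u hAu hAu
      have h3 : tri f p w u = 0 := hQ w u hw hAu
      simp only [lin] at hlu hlz h1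
      simp only [map_add, map_smul, LinearMap.add_apply, LinearMap.smul_apply, smul_eq_mul,
        tri_swap12 f w p u, tri_swap13 f w u p, tri_swap23 f p u w, tri_rot f w p p, tri_swap23 f p u p]
      simp only [hppp, hlu, h2, h3]
      linear_combination h1 + tri f p p w * hs
    obtain ⟨y, hy⟩ := exists_tri_ne_zero hf
      (hsm _ hv0 ((eval_eq_tri hf _).trans (key _)))
    exact hy (key y)
  -- basis and first zero
  obtain ⟨a, ha, ha0⟩ := exists_other hWl 0
  obtain ⟨b, hb, hb0⟩ := exists_other hWl a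
  simp only [Submodule.span_zero_singleton, Submodule.mem_bot] at ha0
  obtain ⟨u1, hu1, hu10, hfu1⟩ : ∃ u ∈ Wl, u ≠ 0 ∧ tri f u u u = 0 := by
    by_cases h0 : tri f a a a = 0
    · exact ⟨a, ha, ha0, h0⟩
    obtain ⟨t, ht⟩ := exists_root_cubic (tri f a a a) (3 * tri f a a b) (3 * tri f a b b)
      (tri f b b b) h0
    refine ⟨b + t • a, add_mem hb (Wl.smul_mem _ ha), fun h' => hb0 ?_, ?_⟩
    · exact Submodule.mem_span_singleton.2 ⟨-t, by rw [← sub_eq_zero, ← neg_eq_zero, ← h']; module⟩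
    · rw [← eval_eq_tri hf, eval_add_smul hf]
      linear_combination ht
  obtain ⟨u2, hu2, hu20⟩ := exists_other hWl u1
  have hspan := span_pair_eq hWl hu1 hu2 hu10 hu20
  have hA2 : tri f u1 u1 u2 ≠ 0 := by
    intro h0
    refine nodouble u1 hu1 hu10 fun y hy => ?_
    rw [← hspan] at hy
    obtain ⟨r, s, rfl⟩ := Submodule.mem_span_pair.1 hy
    simp [hfu1, tri_rot f u2 u1 u1, h0]
  set B := tri f u1 u2 u2
  set A2 := tri f u1 u1 u2
  set C0 := tri f u2 u2 u2
  obtain ⟨d, hd⟩ := IsAlgClosed.exists_pow_nat_eq (9 * B ^ 2 - 12 * A2 * C0) zero_lt_two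
  have hne : ∀ t : ℂ, u2 + t • u1 ≠ 0 := fun t h' =>
    hu20 (Submodule.mem_span_singleton.2 ⟨-t, by rw [← sub_eq_zero, ← neg_eq_zero, ← h']; module⟩)
  have hroot : ∀ t, 6 * A2 * t + 3 * B = d ∨ 6 * A2 * t + 3 * B = -d →
      tri f (u2 + t • u1) (u2 + t • u1) (u2 + t • u1) = 0 := by
    intro t ht
    rw [← eval_eq_tri hf, eval_add_smul hf, hfu1]
    have hq : (6 * A2 * t + 3 * B) ^ 2 = 9 * B ^ 2 - 12 * A2 * C0 := by
      rcases ht with ht | ht <;> rw [ht, ← hd] <;> ring
    have : 12 * A2 * (C0 + 3 * t * B + 3 * t ^ 2 * A2 + t ^ 3 * 0) = 0 := by linear_combination hq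
    exact (mul_eq_zero.1 this).resolve_left (mul_ne_zero (by norm_num) hA2)
  have hd0 : d ≠ 0 := by
    intro h0
    set t := -B / (2 * A2)
    have ht : 6 * A2 * t + 3 * B = d := by simp only [t, h0]; field_simp; ring
    have hv := hroot t (Or.inl ht)
    refine nodouble _ (add_mem hu2 (Wl.smul_mem t hu1)) (hne t) fun y hy => ?_
    have h1 : tri f u1 (u2 + t • u1) (u2 + t • u1) = 0 := by
      simp only [map_add, map_smul, LinearMap.add_apply, LinearMap.smul_apply, smul_eq_mul,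
        tri_swap23 f u1 u2 u1, hfu1]
      linear_combination (1/3 : ℂ) * ht + (1/3 : ℂ) * h0
    have h2 : tri f u2 (u2 + t • u1) (u2 + t • u1) = 0 := by
      have h3 := hv
      rw [map_add (tri f), map_smul (tri f)] at h3
      simpa [h1, -map_add, -map_smul] using h3
    rw [← hspan] at hy
    obtain ⟨r, s, rfl⟩ := Submodule.mem_span_pair.1 hy
    simp [h1, h2, -map_add, map_add (tri f)]
  let w : Fin 3 → V4 := ![u1, u2 + ((d - 3 * B) / (6 * A2)) • u1, u2 + ((-d - 3 * B) / (6 * A2)) • u1]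
  have hw : ∀ i, w i ∈ Wl ∧ tri f (w i) (w i) (w i) = 0 ∧ w i ≠ 0 := by
    intro i
    fin_cases i
    · exact ⟨hu1, hfu1, hu10⟩
    · exact ⟨add_mem hu2 (Wl.smul_mem _ hu1), hroot _ (Or.inl (by field_simp; ring)), hne _⟩
    · exact ⟨add_mem hu2 (Wl.smul_mem _ hu1), hroot _ (Or.inr (by field_simp; ring)), hne _⟩
  have hprop : ∀ i j (c : ℂ), w i = c • w j → i = j := by
    have e1 : ∀ (c r : ℂ), u2 + r • u1 ≠ c • u1 := fun c r he =>
      hu20 (Submodule.mem_span_singleton.2 ⟨c - r, by rw [sub_smul, ← he]; module⟩)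
    have e2 : ∀ c r r' : ℂ, u2 + r • u1 = c • (u2 + r' • u1) → r = r' := by
      intro c r r' he
      have hz0 : (1 - c) • u2 + (r - c * r') • u1 = 0 := by rw [← sub_eq_zero.2 he]; module
      have hc : c = 1 := by
        by_contra hc
        apply hu20
        refine Submodule.mem_span_singleton.2 ⟨-((r - c * r') / (1 - c)), ?_⟩
        have h9 := congrArg (fun v => (1 - c)⁻¹ • v) hz0
        simp only [smul_add, smul_smul, inv_mul_cancel₀ (sub_ne_zero.2 (Ne.symm hc)), one_smul,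
          smul_zero] at h9
        rw [← sub_eq_zero, ← neg_eq_zero, ← h9]
        module
      subst hc
      simpa [hu10, sub_eq_zero] using hz0
    have e3 : (d - 3 * B) / (6 * A2) ≠ (-d - 3 * B) / (6 * A2) := by
      rw [Ne, div_left_inj' (mul_ne_zero (by norm_num) hA2)]
      exact fun h' => hd0 (by linear_combination (1/2 : ℂ) * h')
    intro i j c he
    have key : ∀ (r : ℂ), u1 ≠ c • (u2 + r • u1) := fun r he => by
      rcases eq_or_ne c 0 with rfl | hc
      · exact hu10 (by simpa using he)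
      · exact e1 c⁻¹ r (by rw [eq_comm, inv_smul_eq_iff₀ hc]; exact he)
    fin_cases i <;> fin_cases j <;> simp [w, -smul_add] at he ⊢
    · exact key _ he
    · exact key _ he
    · exact e1 _ _ he
    · exact e3 (e2 _ _ _ he)
    · exact e1 _ _ he
    · exact e3 (e2 _ _ _ he).symm
  have hnot : ∀ i, w i ∉ Submodule.span ℂ {p} := by
    intro i hi
    obtain ⟨c, hc⟩ := Submodule.mem_span_singleton.1 hi
    have h1 := (memWl _ (hw i).1).1
    rw [← hc, Matrix.mulVec_smul, h.2.2.1, hc] at h1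
    have : (2 : ℂ) • w i = 0 := by
      rw [two_smul]; nth_rewrite 2 [← h1]; rw [← hc]; module
    exact (hw i).2.2 (by simpa using this)
  refine ⟨fun i => Submodule.span ℂ {p, w i}, fun i j hij => ?_, fun i => ⟨?_, ?_, ?_⟩⟩
  · have : w i ∈ Submodule.span ℂ {p, w j} :=
      (show Submodule.span ℂ {p, w i} = Submodule.span ℂ {p, w j} from hij).le
        (Submodule.mem_span_pair.2 ⟨0, 1, by simp⟩)
    obtain ⟨r, c, hrc⟩ := Submodule.mem_span_pair.1 this
    have h1 := congrArg A.mulVec hrc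
    rw [Matrix.mulVec_add, Matrix.mulVec_smul, Matrix.mulVec_smul, h.2.2.1,
      (memWl _ (hw i).1).1, (memWl _ (hw j).1).1] at h1
    refine hprop i j c ?_
    have : (2 : ℂ) • w i = (2 : ℂ) • (c • w j) := by
      rw [two_smul]; nth_rewrite 1 [← hrc]; rw [← h1]; module
    exact smul_right_injective V4 (two_ne_zero (α := ℂ)) this
  · have hli : LinearIndependent ℂ ![p, w i] := by
      rw [LinearIndependent.pair_iff' hp]
      exact fun s hs => hnot i (Submodule.mem_span_singleton.2 ⟨s, hs⟩)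
    show Module.finrank ℂ (Submodule.span ℂ {p, w i}) = 2
    rw [← Matrix.range_cons_cons_empty p (w i) (![] : Fin 0 → V4), finrank_span_eq_card hli]
    simp
  · exact Submodule.subset_span (by simp)
  · intro x hx
    exact eval_pair hf hfp ((eval_eq_tri hf _).trans (hw i).2.1) (memWl _ (hw i).1).2
      (hQ _ _ (memWl _ (hw i).1).1 (memWl _ (hw i).1).1) hx

/-- Linear automorphisms of the surface map Eckardt points to Eckardt points. -/
lemma IsEck.map {e : V4} {A : Matrix (Fin 4) (Fin 4) ℂ} (hA : A * A = 1) {c : ℂ}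
    (hc : ∀ x, eval (A.mulVec x) f = c * eval x f) (h : IsEck f e) : IsEck f (A.mulVec e) := by
  obtain ⟨U, hinj, hU⟩ := h
  have hi : Function.Injective (Matrix.toLin' A) := fun x y hxy => by
    simpa [Matrix.mulVec_mulVec, hA] using congrArg A.mulVec (show A.mulVec x = A.mulVec y from hxy)
  refine ⟨fun i => (U i).map (Matrix.toLin' A), fun i j hij => hinj (Submodule.map_injective_of_injective hi hij),
    fun i => ⟨?_, ⟨e, (hU i).2.1, rfl⟩, ?_⟩⟩
  · rw [← LinearEquiv.finrank_eq (Submodule.equivMapOfInjective _ hi (U i))]; exact (hU i).1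
  · rintro _ ⟨u, hu, rfl⟩
    rw [Matrix.toLin'_apply, hc, (hU i).2.2 u hu, mul_zero]

section two
variable (hf : f.IsHomogeneous 3) (hsm : IsSmooth f) {e e' : V4} (he : e ≠ 0)
  (he' : e' ∉ Submodule.span ℂ {e}) (hE : IsEck f e) (hE' : IsEck f e')
include hf hsm he he' hE hE'

omit he' in
lemma lin_ne_zero_of_not_subset (hL : ¬ ∀ u ∈ Submodule.span ℂ {e, e'}, eval u f = 0) :
    lin f e e' ≠ 0 := fun h0 => hL fun _ hu =>
  eval_pair hf hE.eval_eq_zero hE'.eval_eq_zero h0 (hE.tri_ker hf hsm he h0 h0) hu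

lemma third_point {m : V4 →ₗ[ℂ] ℂ}
    (hm : ∀ x y, 2 * tri f e x y = lin f e x * m y + lin f e y * m x)
    (hL : ¬ ∀ u ∈ Submodule.span ℂ {e, e'}, eval u f = 0) :
    m e' ≠ 0 ∧ ∀ u ∈ Submodule.span ℂ {e, e'}, eval u f = 0 →
      u ∈ Submodule.span ℂ {e} ∨ u ∈ Submodule.span ℂ {e'} ∨
        u ∈ Submodule.span ℂ {e' - m e' • e} := by
  have hl := lin_ne_zero_of_not_subset hf hsm he hE hE' hL
  have he'0 : e' ≠ 0 := fun h0 => he' (h0 ▸ Submodule.zero_mem _)
  have hL' : ¬ ∀ u ∈ Submodule.span ℂ {e', e}, eval u f = 0 := by rwa [Set.pair_comm]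
  have hQ : tri f e e' e' ≠ 0 := by
    rw [tri_rot]
    exact lin_ne_zero_of_not_subset hf hsm he'0 hE' hE hL'
  have h2 := hm e' e'
  refine ⟨fun h0 => hQ (by rw [h0] at h2; linear_combination (1/2 : ℂ) * h2), fun u hu hfu => ?_⟩
  obtain ⟨a, b, rfl⟩ := Submodule.mem_span_pair.1 hu
  have h3 : eval (a • e + b • e') f = 0 := hfu
  rw [eval_add_smul hf, ← eval_eq_tri hf, eval_smul_vec hf, hE.eval_eq_zero, ← eval_eq_tri hf,
    hE'.eval_eq_zero] at h3
  simp only [map_smul, LinearMap.smul_apply, smul_eq_mul, tri_swap13 f e' e' e, tri_rot f e' e e] at h3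
  simp only [lin] at h2
  have h4 : (3 * a * b * lin f e e') * (a + b * m e') = 0 := by
    simp only [lin]; linear_combination h3 - (3/2 : ℂ) * a * b ^ 2 * h2
  rcases mul_eq_zero.1 h4 with h5 | h5
  · rcases mul_eq_zero.1 h5 with h6 | h6
    · rcases mul_eq_zero.1 h6 with h7 | h7
      · refine Or.inr (Or.inl (Submodule.mem_span_singleton.2 ⟨b, ?_⟩))
        simp [(mul_eq_zero.1 h7).resolve_left (by norm_num)]
      · exact Or.inl (Submodule.mem_span_singleton.2 ⟨a, by simp [h7]⟩)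
    · exact absurd h6 hl
  · refine Or.inr (Or.inr (Submodule.mem_span_singleton.2 ⟨b, ?_⟩))
    rw [show a = -(b * m e') by linear_combination h5]
    module

theorem line_through_two (hf0 : f ≠ 0) :
    Xor (∀ u ∈ Submodule.span ℂ {e, e'}, eval u f = 0)
      (∃ e'' : V4, e'' ∈ Submodule.span ℂ {e, e'} ∧ e'' ∉ Submodule.span ℂ {e} ∧
        e'' ∉ Submodule.span ℂ {e'} ∧ IsEck f e'' ∧
        ∀ u ∈ Submodule.span ℂ {e, e'}, eval u f = 0 →
          u ∈ Submodule.span ℂ {e} ∨ u ∈ Submodule.span ℂ {e'} ∨ u ∈ Submodule.span ℂ {e''}) := by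
  obtain ⟨m, hme, hm⟩ := hE.exists_form hf hsm he
  by_cases hL : ∀ u ∈ Submodule.span ℂ {e, e'}, eval u f = 0
  · refine Or.inl ⟨hL, ?_⟩
    rintro ⟨e'', -, -, -, -, hall⟩
    have key : ∀ t : ℂ, t ≠ 0 → e + t • e' ∈ Submodule.span ℂ {e''} := by
      intro t ht
      have hmem : e + t • e' ∈ Submodule.span ℂ {e, e'} :=
        Submodule.mem_span_pair.2 ⟨1, t, by simp⟩
      rcases hall _ hmem (hL _ hmem) with h | h | h
      · refine absurd ?_ he'
        have h' := (Submodule.add_mem_iff_right _ (Submodule.mem_span_singleton_self e)).1 h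
        exact (Submodule.smul_mem_iff _ ht).1 h'
      · refine absurd ?_ he'
        have h' := (Submodule.add_mem_iff_left _
          (Submodule.smul_mem _ t (Submodule.mem_span_singleton_self e'))).1 h
        obtain ⟨c, hc⟩ := Submodule.mem_span_singleton.1 h'
        refine Submodule.mem_span_singleton.2 ⟨c⁻¹, ?_⟩
        have hc0 : c ≠ 0 := fun h0 => he (by rw [← hc, h0, zero_smul])
        rw [← hc, inv_smul_smul₀ hc0]
      · exact h
    obtain ⟨a, ha⟩ := Submodule.mem_span_singleton.1 (key 1 one_ne_zero)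
    obtain ⟨b, hb⟩ := Submodule.mem_span_singleton.1 (key 2 two_ne_zero)
    have h0 : (b - a) • e + (b - 2 * a) • e' = 0 := by
      have : b • (e + (1 : ℂ) • e') = a • (e + (2 : ℂ) • e') := by
        rw [← ha, ← hb, smul_smul, smul_smul, mul_comm]
      rw [← sub_eq_zero] at this
      rw [← this]; module
    by_cases hba : b - 2 * a = 0
    · rw [hba, zero_smul, add_zero] at h0
      have : b - a = 0 := (smul_eq_zero.1 h0).resolve_right he
      have ha0 : a = 0 := by linear_combination this - hba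
      rw [ha0, zero_smul] at ha
      refine he' (Submodule.mem_span_singleton.2 ⟨-1, ?_⟩)
      rw [← sub_eq_zero, ← neg_eq_zero, ha]; module
    · refine he' (Submodule.mem_span_singleton.2 ⟨-((b - a) / (b - 2 * a)), ?_⟩)
      have h9 := congrArg (fun v => (b - 2 * a)⁻¹ • v) h0
      simp only [smul_add, smul_smul, inv_mul_cancel₀ hba, one_smul, smul_zero] at h9
      rw [← sub_eq_zero, ← neg_eq_zero, ← h9]
      module
  · refine Or.inr ⟨⟨e' - m e' • e, Submodule.mem_span_pair.2 ⟨-m e', 1, by module⟩, fun h => ?_,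
      fun h => ?_, ?_, (third_point hf hsm he he' hE hE' hm hL).2⟩, hL⟩
    · exact he' (by simpa using add_mem h (Submodule.smul_mem _ (m e') (Submodule.mem_span_singleton_self e)))
    · have h' := sub_mem (Submodule.mem_span_singleton_self e') h
      rw [sub_sub_cancel, Submodule.smul_mem_iff _ (third_point hf hsm he he' hE hE' hm hL).1] at h'
      obtain ⟨c, hc⟩ := Submodule.mem_span_singleton.1 h'
      have hc0 : c ≠ 0 := fun h0 => he (by rw [← hc, h0, zero_smul])
      exact he' (Submodule.mem_span_singleton.2 ⟨c⁻¹, by rw [← hc, inv_smul_smul₀ hc0]⟩)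
    · obtain ⟨h1, -, -, c, hc⟩ := isInv_reflMat hf hsm he hE.eval_eq_zero hme hm
      rw [← reflMat_mulVec]
      exact hE'.map h1 ((subst_eq_iff _ _ _ _).1 hc)

theorem commute_of_subset (hf0 : f ≠ 0) (hL : ∀ u ∈ Submodule.span ℂ {e, e'}, eval u f = 0)
    {A A' : Matrix (Fin 4) (Fin 4) ℂ} (hA : IsInv f e A) (hA' : IsInv f e' A') :
    (∃ c : ℂ, A * A' = c • (A' * A)) ∧ (∃ d : ℂ, A.mulVec e' = d • e') ∧
      (∃ d : ℂ, A'.mulVec e = d • e) := by
  have he'0 : e' ≠ 0 := fun h0 => he' (h0 ▸ Submodule.zero_mem _)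
  obtain ⟨m, hme, hm⟩ := hE.exists_form hf hsm he
  obtain ⟨m', hme', hm'⟩ := hE'.exists_form hf hsm he'0
  have hA0 := hA.eq_reflMat hf hf0 hsm he hE.eval_eq_zero hme hm
  have hA0' := hA'.eq_reflMat hf hf0 hsm he'0 hE'.eval_eq_zero hme' hm'
  have hz : ∀ a b : ℂ, eval (a • e + b • e') f = 0 := fun a b =>
    hL _ (Submodule.mem_span_pair.2 ⟨a, b, rfl⟩)
  obtain ⟨hl, hQ⟩ := line_rel hf hE.eval_eq_zero hE'.eval_eq_zero
    (by simpa [add_comm] using hz 1 1) (by simpa [add_comm] using hz (-1) 1)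
  have hl' : lin f e' e = 0 := (tri_rot f e e' e').symm.trans hQ
  have hrel : ∀ x, lin f e x * m e' = lin f e' x * m' e := fun x => by
    have h1 := hm x e'
    have h2 := hm' e x
    rw [hl'] at h2
    simp only [lin] at h1 h2 ⊢
    rw [hl, tri_swap23 f e x e'] at h1
    rw [tri_swap12 f e' e x] at h2
    linear_combination h2 - h1
  have hm0 : m e' = 0 := by
    by_contra hne
    have hne' : m' e ≠ 0 := by
      intro h0
      apply lin_ne_zero hf hsm he hE.eval_eq_zero
      refine LinearMap.ext fun x => ?_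
      have := hrel x
      rw [h0, mul_zero] at this
      exact (mul_eq_zero.1 this).resolve_right hne
    obtain ⟨a, ha⟩ : ∃ a : ℂ, a ^ 2 + m e' * a + m e' / m' e = 0 := by
      obtain ⟨s, hs⟩ := IsAlgClosed.exists_pow_nat_eq (m e' ^ 2 / 4 - m e' / m' e) zero_lt_two
      exact ⟨s - m e' / 2, by linear_combination hs⟩
    have key : ∀ y, tri f y (a • e + e') (a • e + e') = 0 := by
      intro y
      have h1 := hm y e'
      have h2 : lin f e' y = lin f e y * (m e' / m' e) := by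
        rw [← mul_div_assoc, eq_div_iff hne', hrel]
      simp only [lin] at h1 h2
      rw [hl] at h1
      simp only [map_add, map_smul, LinearMap.add_apply, LinearMap.smul_apply, smul_eq_mul,
        tri_rot f y e e, tri_rot f y e' e', tri_swap23 f y e' e, tri_swap12 f y e e', h2]
      linear_combination a * h1 + tri f e e y * ha
    have hv0 : a • e + e' ≠ 0 := fun h0 =>
      he' (Submodule.mem_span_singleton.2 ⟨-a, by rw [← sub_eq_zero, ← neg_eq_zero, ← h0]; module⟩)
    obtain ⟨y, hy⟩ := exists_tri_ne_zero hf (hsm _ hv0 ((eval_eq_tri hf _).trans (key _)))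
    exact hy (key y)
  have hm0' : m' e = 0 := by
    by_contra hne
    apply lin_ne_zero hf hsm he'0 hE'.eval_eq_zero
    refine LinearMap.ext fun x => ?_
    have := hrel x
    rw [hm0, mul_zero] at this
    exact (mul_eq_zero.1 this.symm).resolve_right hne
  refine ⟨⟨1, ?_⟩, ⟨1, ?_⟩, ⟨1, ?_⟩⟩
  · rw [one_smul]
    refine matrix_ext fun x => ?_
    simp only [← Matrix.mulVec_mulVec, hA0, hA0', reflMat_mulVec, map_sub, map_smul, hm0, hm0',
      smul_zero, sub_zero]
    module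
  · rw [hA0, reflMat_mulVec, hm0]; simp
  · rw [hA0', reflMat_mulVec, hm0']; simp

lemma conj_eq (hf0 : f ≠ 0) (hL : ¬ ∀ u ∈ Submodule.span ℂ {e, e'}, eval u f = 0) {e'' : V4}
    (he''1 : e'' ∉ Submodule.span ℂ {e}) (he''2 : e'' ∉ Submodule.span ℂ {e'})
    (he''L : e'' ∈ Submodule.span ℂ {e, e'}) (hE'' : IsEck f e'')
    {A A' A'' : Matrix (Fin 4) (Fin 4) ℂ} (hA : IsInv f e A) (hA' : IsInv f e' A')
    (hA'' : IsInv f e'' A'') :
    A'' = A * A' * A ∧ ¬ ∃ c : ℂ, A * A' = c • (1 : Matrix (Fin 4) (Fin 4) ℂ) := by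
  obtain ⟨m, hme, hm⟩ := hE.exists_form hf hsm he
  have hA0 := hA.eq_reflMat hf hf0 hsm he hE.eval_eq_zero hme hm
  obtain ⟨hne, hall⟩ := third_point hf hsm he he' hE hE' hm hL
  obtain ⟨b, hb⟩ := Submodule.mem_span_singleton.1
    (((hall e'' he''L hE''.eval_eq_zero).resolve_left he''1).resolve_left he''2)
  have hAe' : A.mulVec e' = e' - m e' • e := by rw [hA0, reflMat_mulVec]
  have he''0 : e'' ≠ 0 := fun h0 => he''1 (h0 ▸ Submodule.zero_mem _)
  obtain ⟨c, hc⟩ := hA.2.2.2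
  obtain ⟨c', hc'⟩ := hA'.2.2.2
  rw [subst_eq_iff] at hc hc'
  have hB : IsInv f e'' (A * A' * A) := by
    refine ⟨?_, ?_, ?_, c * c' * c, (subst_eq_iff _ _ _ _).2 fun x => ?_⟩
    · calc A * A' * A * (A * A' * A) = A * A' * (A * A) * A' * A := by simp [Matrix.mul_assoc]
        _ = A * (A' * A') * A := by rw [hA.1, Matrix.mul_one]; simp [Matrix.mul_assoc]
        _ = 1 := by rw [hA'.1, Matrix.mul_one, hA.1]
    · have hi : Function.Injective (Matrix.toLin' A) := fun x y hxy => by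
        simpa [Matrix.mulVec_mulVec, hA.1] using
          congrArg A.mulVec (show A.mulVec x = A.mulVec y from hxy)
      have : LinearMap.ker (Matrix.toLin' (A * A' * A) - LinearMap.id) =
          (LinearMap.ker (Matrix.toLin' A' - LinearMap.id)).map (Matrix.toLin' A) := by
        ext x
        simp only [LinearMap.mem_ker, LinearMap.sub_apply, LinearMap.id_apply, Matrix.toLin'_apply,
          sub_eq_zero, Submodule.mem_map, ← Matrix.mulVec_mulVec]
        constructor
        · intro hx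
          refine ⟨A.mulVec x, ?_, by rw [Matrix.mulVec_mulVec, hA.1, Matrix.one_mulVec]⟩
          have := congrArg A.mulVec hx
          rwa [Matrix.mulVec_mulVec, hA.1, Matrix.one_mulVec] at this
        · rintro ⟨y, hy, rfl⟩
          rw [Matrix.mulVec_mulVec y A A, hA.1, Matrix.one_mulVec, hy]
      rw [this, ← LinearEquiv.finrank_eq (Submodule.equivMapOfInjective _ hi _)]
      exact hA'.2.1
    · rw [← hb, ← hAe', Matrix.mulVec_smul, ← Matrix.mulVec_mulVec, ← Matrix.mulVec_mulVec,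
        Matrix.mulVec_mulVec e' A A, hA.1, Matrix.one_mulVec, hA'.2.2.1, Matrix.mulVec_neg, smul_neg]
    · rw [← Matrix.mulVec_mulVec, ← Matrix.mulVec_mulVec, hc, hc', hc]; ring
  refine ⟨(existsUnique_isInv hf hf0 hsm he''0 hE'').unique hA'' hB, ?_⟩
  rintro ⟨k, hk⟩
  have hA'eq : A' = k • A := by
    calc A' = A * (A * A') := by rw [← Matrix.mul_assoc, hA.1, Matrix.one_mul]
      _ = k • A := by rw [hk, Matrix.mul_smul, Matrix.mul_one]
  have h1 := hA'.2.2.1
  rw [hA'eq, Matrix.smul_mulVec, hAe'] at h1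
  have h2 : (k + 1) • e' - (k * m e') • e = 0 := by
    rw [sub_eq_zero, ← sub_eq_zero, ← sub_eq_zero.2 h1]; module
  by_cases hk1 : k + 1 = 0
  · rw [hk1, zero_smul, zero_sub, neg_eq_zero, smul_eq_zero] at h2
    rcases h2 with h2 | h2
    · rcases mul_eq_zero.1 h2 with h3 | h3
      · simp [h3] at hk1
      · exact hne h3
    · exact he h2
  · refine he' (Submodule.mem_span_singleton.2 ⟨(k + 1)⁻¹ * (k * m e'), ?_⟩)
    rw [mul_smul, inv_smul_eq_iff₀ hk1, eq_comm, ← sub_eq_zero, h2]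

theorem dihedral (hf0 : f ≠ 0) (hL : ¬ ∀ u ∈ Submodule.span ℂ {e, e'}, eval u f = 0) {e'' : V4}
    (he''1 : e'' ∉ Submodule.span ℂ {e}) (he''2 : e'' ∉ Submodule.span ℂ {e'})
    (he''L : e'' ∈ Submodule.span ℂ {e, e'}) (hE'' : IsEck f e'')
    {A A' A'' : Matrix (Fin 4) (Fin 4) ℂ} (hA : IsInv f e A) (hA' : IsInv f e' A')
    (hA'' : IsInv f e'' A'') :
    (¬ ∃ c : ℂ, A * A' = c • (1 : Matrix (Fin 4) (Fin 4) ℂ)) ∧
      (∃ c : ℂ, (A * A') ^ 3 = c • (1 : Matrix (Fin 4) (Fin 4) ℂ)) ∧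
      ∃ c : ℂ, A'' = c • (A * A' * A) := by
  obtain ⟨h1, h2⟩ := conj_eq hf hsm he he' hE hE' hf0 hL he''1 he''2 he''L hE'' hA hA' hA''
  have he'0 : e' ≠ 0 := fun h0 => he' (h0 ▸ Submodule.zero_mem _)
  have heS : e ∉ Submodule.span ℂ {e'} := fun h => by
    obtain ⟨c, hc⟩ := Submodule.mem_span_singleton.1 h
    have hc0 : c ≠ 0 := fun h0 => he (by rw [← hc, h0, zero_smul])
    exact he' (Submodule.mem_span_singleton.2 ⟨c⁻¹, by rw [← hc, inv_smul_smul₀ hc0]⟩)
  obtain ⟨h1', -⟩ := conj_eq hf hsm he'0 heS hE' hE hf0 (e'' := e'')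
    (by rwa [Set.pair_comm]) he''2 he''1 (by rwa [Set.pair_comm]) hE'' hA' hA hA''
  refine ⟨h2, ⟨1, ?_⟩, ⟨1, by rw [one_smul, h1]⟩⟩
  calc (A * A') ^ 3 = (A * A' * A) * (A' * A * A') := by
        simp only [pow_succ, pow_zero, Matrix.one_mul, Matrix.mul_assoc]
    _ = A'' * A'' := by rw [← h1, ← h1']
    _ = (1 : ℂ) • 1 := by rw [hA''.1, one_smul]

end two

end Groth.Agent.H25Cubic
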