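import Groth.Agent.H25Cubic.Residual
import Groth.Agent.H25Cubic.Node
import Groth.Agent.H25Cubic.TwentySeven
import Groth.Agent.H25Line.Main

/-! Existence of non-T points: singular lines or finitely many lines. -/

set_option autoImplicit false

namespace Groth.Agent.H25Cubic
open MvPolynomial

variable {K : Type*} [Field K] [CharZero K] [IsAlgClosed K]
variable {f : MvPolynomial (Fin 4) K}

/-- The surface contains no plane. -/
lemma no_plane_of_irreducible (hf : f.IsHomogeneous 3) (hirr : Irreducible f)
    {P : Submodule K (Fin 4 → K)} (hP : Module.finrank K P = 3) (h : ∀ x ∈ P, eval x f = 0) : False := by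
  obtain ⟨x, hx⟩ : ∃ x, x ∉ P := by
    by_contra! h'
    rw [Submodule.eq_top_iff'.mpr h', finrank_top, Module.finrank_fin_fun] at hP
    omega
  obtain ⟨φ, hφx, hle⟩ := Submodule.exists_le_ker_of_notMem hx
  have hφ : φ ≠ 0 := fun e => hφx (by rw [e]; rfl)
  have heq := Submodule.eq_of_le_of_finrank_eq hle (hP.trans (ker_three hφ).symm)
  obtain ⟨g, hg⟩ := Ideal.mem_span_singleton.mp
    (mem_span_of_vanish f φ hφ (lf φ) (eval_lf φ) fun y hy => h y (heq ▸ LinearMap.mem_ker.mpr hy))
  refine not_irreducible_of_factor (g := lf φ) (h := g) (by rw [eval_lf, map_zero]) ?_ (hg ▸ hirr)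
  obtain ⟨z, hz⟩ : ∃ z, φ z = 1 := LinearMap.surjective hφ 1
  haveI : Infinite K := Infinite.of_injective ((↑) : ℕ → K) Nat.cast_injective
  let G : Polynomial K := aeval (fun i => Polynomial.C (z i) * Polynomial.X) g
  have hG : ∀ t, G.eval t = eval (t • z) g := fun t => by
    rw [show G.eval t = (Polynomial.evalRingHom t).comp (aeval (R := K)
      fun i => Polynomial.C (z i) * Polynomial.X).toRingHom g from rfl]
    congr 1
    refine MvPolynomial.ringHom_ext (fun y => by simp) fun y => ?_
    simp only [RingHom.comp_apply, AlgHom.toRingHom_eq_coe, RingHom.coe_coe, aeval_X, eval_X,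
      Polynomial.coe_evalRingHom, Polynomial.eval_mul, Polynomial.eval_C, Polynomial.eval_X,
      Pi.smul_apply, smul_eq_mul]
    rw [mul_comm]
  have hGX : G * Polynomial.X = Polynomial.C (eval z f) * Polynomial.X ^ 3 := Polynomial.funext fun t => by
    have := eval_smul_vec hf z t
    nth_rw 1 [hg] at this
    rw [map_mul, eval_lf, map_smul, hz, smul_eq_mul, mul_one] at this
    simp only [Polynomial.eval_mul, Polynomial.eval_X, Polynomial.eval_C, Polynomial.eval_pow, hG]
    linear_combination this
  have h1 := congrArg (fun p => Polynomial.coeff p 1) hGX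
  rw [Polynomial.coeff_mul_X, Polynomial.coeff_C_mul, Polynomial.coeff_X_pow,
    Polynomial.coeff_zero_eq_eval_zero, hG, zero_smul] at h1
  simpa using h1

/-- All points of `U` are singular. -/
def SingLine (f : MvPolynomial (Fin 4) K) (U : Submodule K (Fin 4 → K)) : Prop :=
  Module.finrank K U = 2 ∧ ∀ b ∈ U, ∀ x, tri f x b b = 0

/-- Lines off a singular point are finite in number, unless there is a singular line. -/
theorem finite_lines_of_singular (hf : f.IsHomogeneous 3) (hirr : Irreducible f)
    (hcone : ∀ x : Fin 4 → K, x ≠ 0 → ∃ y, tri f x y y ≠ 0) {a : Fin 4 → K} (ha : a ≠ 0)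
    (hs : ∀ y, tri f y a a = 0) :
    {U : Submodule K (Fin 4 → K) | IsLine f U}.Finite ∨ ∃ U, SingLine f U := by
  classical
  by_contra hcon
  push Not at hcon
  obtain ⟨hinf, hns⟩ := hcon
  have hthr : {U : Submodule K (Fin 4 → K) | a ∈ U ∧ IsLine f U}.Finite :=
    Set.finite_of_encard_le_coe (k := 6) (lines_through_le_six hf hirr hcone ha hs)
  have haaa : eval a f = 0 := by rw [eval_eq_tri hf]; exact hs a
  -- kernels of the tangency functionals of a line through `a`
  let ker₂ : Submodule K (Fin 4 → K) → Submodule K (Fin 4 → K) := fun M =>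
    ⨅ y ∈ M, LinearMap.ker (grad f y)
  let planes : Set (Submodule K (Fin 4 → K)) :=
    (Set.image2 (fun M N => M ⊔ N) {U | a ∈ U ∧ IsLine f U} {U | a ∈ U ∧ IsLine f U}) ∪
      ker₂ '' {U | a ∈ U ∧ IsLine f U}
  have hplanes : planes.Finite := (hthr.image2 _ hthr).union (hthr.image _)
  refine hinf (Set.Finite.subset (hthr.union
    (hplanes.biUnion (t := fun P => {U | IsLine f U ∧ a ∉ U ∧ U ⊔ K ∙ a = P}) fun P _ => ?_)) ?_)
  · -- at most one line off `a` in each plane
    refine Set.Subsingleton.finite ?_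
    rintro U ⟨hU, haU, hUP⟩ V ⟨hV, haV, hVP⟩
    by_contra hne
    have hP3 : Module.finrank K ↥(U ⊔ K ∙ a) = 3 := by
      have h := Submodule.finrank_sup_add_finrank_inf_eq U (K ∙ a)
      have h0 : U ⊓ K ∙ a = ⊥ := eq_bot_iff.mpr fun x hx => by
        obtain ⟨hxU, hxa⟩ := Submodule.mem_inf.mp hx
        obtain ⟨c, rfl⟩ := Submodule.mem_span_singleton.mp hxa
        by_cases hc : c = 0
        · simp [hc]
        · exact absurd ((U.smul_mem_iff hc).mp hxU) haU
      rw [h0, finrank_bot, hU.1, finrank_span_singleton ha] at h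
      omega
    refine no_plane_of_irreducible hf hirr hP3 ?_
    have key : ∀ u ∈ U, ∀ r : K, eval (u + r • a) f = 3 * r * tri f a u u := fun u hu r => by
      rw [eval_add_smul hf, ← eval_eq_tri hf, hU.2 u hu, (sing_radical hs u).1,
        (sing_radical hs a).1]
      ring
    obtain ⟨w, hw, hwU⟩ := SetLike.not_le_iff_exists.mp (show ¬ V ≤ U from fun h =>
      hne (Submodule.eq_of_le_of_finrank_eq h (hV.1.trans hU.1.symm)).symm)
    -- decompose `V` over `U`
    have hdec : ∀ v ∈ V, ∃ u ∈ U, ∃ r : K, v = u + r • a := fun v hv => by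
      have : v ∈ U ⊔ K ∙ a := by rw [hUP, ← hVP]; exact Submodule.mem_sup_left hv
      obtain ⟨u, hu, z, hz, rfl⟩ := Submodule.mem_sup.mp this
      obtain ⟨r, rfl⟩ := Submodule.mem_span_singleton.mp hz
      exact ⟨u, hu, r, rfl⟩
    obtain ⟨u₁, hu₁, r₁, rfl⟩ := hdec w hw
    have hr₁ : r₁ ≠ 0 := fun h => hwU (by simpa [h] using hu₁)
    have hz : ∀ u ∈ U, tri f a u u = 0 := by
      intro u hu
      obtain ⟨v, hv, z, hz, he⟩ := Submodule.mem_sup.mp (show u ∈ V ⊔ K ∙ a by
        rw [hVP, ← hUP]; exact Submodule.mem_sup_left hu)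
      obtain ⟨r, rfl⟩ := Submodule.mem_span_singleton.mp hz
      have e1 : eval (u + (-r) • a) f = 0 := by
        rw [← he, neg_smul, add_neg_cancel_right]; exact hV.2 v hv
      rw [key u hu] at e1
      have e2 : eval (u + u₁ + (-r + r₁) • a) f = 0 := by
        rw [← he, show v + r • a + u₁ + (-r + r₁) • a = v + (u₁ + r₁ • a) by module]
        exact hV.2 _ (add_mem hv hw)
      have e3 := hV.2 _ hw
      rw [key _ (add_mem hu hu₁)] at e2
      rw [key u₁ hu₁] at e3
      have h11 : tri f a u₁ u₁ = 0 := by simpa [hr₁] using e3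
      by_cases hr : r = 0
      · subst hr
        have e4 : eval (u + u + u₁ + r₁ • a) f = 0 := by
          rw [← he, show v + (0 : K) • a + (v + (0 : K) • a) + u₁ + r₁ • a = v + v + (u₁ + r₁ • a) by module]
          exact hV.2 _ (add_mem (add_mem hv hv) hw)
        rw [key _ (add_mem (add_mem hu hu) hu₁)] at e4
        simp [h11, hr₁, tri_swap23 f a u₁ u] at e2 e4
        linear_combination (1 / 2 : K) * e4 - e2
      · simpa [hr] using e1
    intro x hx
    obtain ⟨u, hu, z, hz', rfl⟩ := Submodule.mem_sup.mp hx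
    obtain ⟨r, rfl⟩ := Submodule.mem_span_singleton.mp hz'
    rw [key u hu, hz u hu, mul_zero]
  · intro U hU
    by_cases haU : a ∈ U
    · exact Or.inl ⟨haU, hU⟩
    refine Or.inr (Set.mem_biUnion (x := U ⊔ K ∙ a) ?_ ⟨hU, haU, rfl⟩)
    let g := Module.finBasisOfFinrankEq K U hU.1
    have hgU : ∀ i, (g i : Fin 4 → K) ∈ U := fun i => (g i).2
    have hline : ∀ y ∈ U, y ≠ 0 → tri f a y y = 0 → IsLine f (Submodule.span K {a, y}) := by
      intro y hy hy0 hq
      refine ⟨?_, fun z hz => ?_⟩
      · rw [← Matrix.range_cons_cons_empty a y (![] : Fin 0 → Fin 4 → K), finrank_span_eq_card]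
        · simp
        · rw [LinearIndependent.pair_iff' ha]
          intro c hc
          by_cases hc0 : c = 0
          · exact hy0 (by rw [← hc, hc0, zero_smul])
          · exact haU ((U.smul_mem_iff hc0).mp (hc ▸ hy))
      · obtain ⟨r, s, rfl⟩ := Submodule.mem_span_pair.mp hz
        rw [add_comm, eval_add_smul hf, ← eval_eq_tri hf, eval_smul_vec hf, hU.2 y hy]
        simp [hq, (sing_radical hs (s • y)).1, hs a]
    have hgen : ∀ z ∈ U, ∃ r s : K, z = r • (g 0 : Fin 4 → K) + s • (g 1 : Fin 4 → K) := fun z hz => by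
      refine ⟨g.repr ⟨z, hz⟩ 0, g.repr ⟨z, hz⟩ 1, ?_⟩
      have := congrArg Subtype.val (g.sum_repr ⟨z, hz⟩)
      simp only [Fin.sum_univ_two, Submodule.coe_add, Submodule.coe_smul] at this
      exact this.symm
    obtain ⟨i, j, hij, hq⟩ := binary_isotropic (tri f a (g 0 : Fin 4 → K) (g 0 : Fin 4 → K))
      (2 * tri f a (g 0 : Fin 4 → K) (g 1 : Fin 4 → K)) (tri f a (g 1 : Fin 4 → K) (g 1 : Fin 4 → K))
    set y : Fin 4 → K := i • (g 0 : Fin 4 → K) + j • (g 1 : Fin 4 → K) with hy
    have hyU : y ∈ U := add_mem (U.smul_mem i (hgU 0)) (U.smul_mem j (hgU 1))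
    have hy0 : y ≠ 0 := fun h => by
      have := Fintype.linearIndependent_iff.mp g.linearIndependent ![i, j]
        (by rw [Fin.sum_univ_two]; exact Subtype.ext (by simpa using h))
      rcases hij with h | h
      · exact h (this 0)
      · exact h (this 1)
    have hyy : tri f a y y = 0 := by
      simp [hy, tri_swap23 f a (g 1 : Fin 4 → K) (g 0 : Fin 4 → K)]
      linear_combination hq
    obtain ⟨z, hz, hzy⟩ : ∃ z ∈ U, z ∉ K ∙ y := by
      by_contra! h
      have := Submodule.finrank_mono (show U ≤ K ∙ y from h)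
      rw [hU.1, finrank_span_singleton hy0] at this
      omega
    have hM := hline y hyU hy0 hyy
    set M := Submodule.span K ({a, y} : Set (Fin 4 → K)) with hMdef
    have haM : a ∈ M := Submodule.subset_span (by simp)
    have hspanU : U = Submodule.span K {y, z} := by
      refine (Submodule.eq_of_le_of_finrank_eq
        (Submodule.span_le.mpr (by rintro x (rfl | rfl) <;> assumption)) ?_).symm
      rw [hU.1, ← Matrix.range_cons_cons_empty y z (![] : Fin 0 → Fin 4 → K), finrank_span_eq_card]
      · simp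
      · rw [LinearIndependent.pair_iff' hy0]
        exact fun c hc => hzy (hc ▸ Submodule.smul_mem _ c (Submodule.mem_span_singleton_self y))
    by_cases hb : tri f a y z = 0
    · -- tangent plane along `M`
      refine Or.inr ⟨M, ⟨haM, hM⟩, ?_⟩
      have hkerle : U ⊔ K ∙ a ≤ ker₂ M := by
        simp only [ker₂, le_iInf_iff]
        intro m hm
        obtain ⟨r, s, rfl⟩ := Submodule.mem_span_pair.mp hm
        refine sup_le (hspanU.le.trans (Submodule.span_le.mpr ?_)) ((Submodule.span_singleton_le_iff_mem _ _).mpr ?_)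
        · have e0 := tri_eq_zero_of_eval hf hU.2 hz hyU hyU
          have e1 := tri_eq_zero_of_eval hf hU.2 hyU hyU hyU
          rintro x (hx | hx)
          · rw [hx]
            show tri f y _ _ = 0
            simp [(show tri f y a a = 0 from hs y), e1, tri_swap12 f y a y, hyy, tri_swap13 f y y a]
          · rw [Set.mem_singleton_iff.mp hx]
            show tri f z _ _ = 0
            simp [(show tri f z a a = 0 from hs z), e0, tri_swap13 f z a y, tri_swap12 f y a z,
              tri_rot f z y a, tri_swap13 f y a z, hb, tri_swap23 f a z y]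
        · show tri f a _ _ = 0
          simp [(show tri f a a a = 0 from hs a), hyy, (sing_radical hs y).1, (sing_radical hs y).2]
      have hP3 : 3 ≤ Module.finrank K ↥(U ⊔ K ∙ a) := by
        have h := Submodule.finrank_sup_add_finrank_inf_eq U (K ∙ a)
        have h0 : U ⊓ K ∙ a = ⊥ := eq_bot_iff.mpr fun x hx => by
          obtain ⟨hxU, hxa⟩ := Submodule.mem_inf.mp hx
          obtain ⟨c, rfl⟩ := Submodule.mem_span_singleton.mp hxa
          by_cases hc : c = 0
          · simp [hc]
          · exact absurd ((U.smul_mem_iff hc).mp hxU) haU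
        rw [h0, finrank_bot, hU.1, finrank_span_singleton ha] at h
        omega
      obtain ⟨m, hm, hm0⟩ : ∃ m ∈ M, grad f m ≠ 0 := by
        by_contra! h
        exact hns M ⟨hM.1, fun b hb x => by rw [← grad_apply, h b hb]; rfl⟩
      refine (Submodule.eq_of_le_of_finrank_le hkerle ?_).symm
      refine le_trans ?_ hP3
      rw [← ker_three hm0]
      exact Submodule.finrank_mono (iInf₂_le m hm)
    · -- two lines through `a`
      set d := -tri f a z z / (2 * tri f a y z) with hd
      set z' := z + d • y with hz'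
      have hz'U : z' ∈ U := add_mem hz (U.smul_mem d hyU)
      have hz'0 : z' ≠ 0 := fun h => hzy (Submodule.mem_span_singleton.mpr
        ⟨-d, by rw [neg_smul]; exact (eq_neg_of_add_eq_zero_left h).symm⟩)
      have hzz' : tri f a z' z' = 0 := by
        simp [hz', hyy, tri_swap23 f a z y, hd]; field_simp; ring
      refine Or.inl ⟨M, ⟨haM, hM⟩, _, ⟨Submodule.subset_span (by simp), hline z' hz'U hz'0 hzz'⟩, ?_⟩
      refine le_antisymm (sup_le ?_ ?_) (sup_le ?_ ?_)
      · refine Submodule.span_le.mpr ?_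
        rintro x (rfl | rfl)
        exacts [Submodule.mem_sup_right (Submodule.mem_span_singleton_self _), Submodule.mem_sup_left hyU]
      · refine Submodule.span_le.mpr ?_
        rintro x (rfl | rfl)
        exacts [Submodule.mem_sup_right (Submodule.mem_span_singleton_self _), Submodule.mem_sup_left hz'U]
      · rw [hspanU]
        refine Submodule.span_le.mpr ?_
        rintro x (rfl | rfl)
        · exact Submodule.mem_sup_left (Submodule.subset_span (by simp))
        · have : x = z' - d • y := by rw [hz']; module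
          rw [this]
          exact sub_mem (Submodule.mem_sup_right (Submodule.subset_span (by simp)))
            (Submodule.mem_sup_left (Submodule.smul_mem _ d (Submodule.subset_span (by simp))))
      · rw [Submodule.span_singleton_le_iff_mem]
        exact Submodule.mem_sup_left haM

/-- A singular locus containing a line is that line. -/
theorem SingLine.mem (hf : f.IsHomogeneous 3) (hirr : Irreducible f) {U : Submodule K (Fin 4 → K)}
    (hU : SingLine f U) {b : Fin 4 → K} (hb : ∀ x, tri f x b b = 0) : b ∈ U := by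
  by_contra hbU
  have hb0 : b ≠ 0 := fun h => hbU (h ▸ zero_mem U)
  refine no_plane_of_irreducible hf hirr (P := U ⊔ K ∙ b) ?_ ?_
  · have h := Submodule.finrank_sup_add_finrank_inf_eq U (K ∙ b)
    have h0 : U ⊓ K ∙ b = ⊥ := eq_bot_iff.mpr fun x hx => by
      obtain ⟨hxU, hxb⟩ := Submodule.mem_inf.mp hx
      obtain ⟨c, rfl⟩ := Submodule.mem_span_singleton.mp hxb
      by_cases hc : c = 0
      · simp [hc]
      · exact absurd ((U.smul_mem_iff hc).mp hxU) hbU
    rw [h0, finrank_bot, hU.1, finrank_span_singleton hb0] at h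
    omega
  · intro x hx
    obtain ⟨u, hu, z, hz, rfl⟩ := Submodule.mem_sup.mp hx
    obtain ⟨c, rfl⟩ := Submodule.mem_span_singleton.mp hz
    rw [eval_add_smul hf]
    simp [hU.2 u hu, (sing_radical hb u).1, hb b]

/-- **A non-T point, unless there is a singular line.** -/
theorem exists_nonT_or_singLine (hf : f.IsHomogeneous 3) (hirr : Irreducible f)
    (hcone : ∀ x : Fin 4 → K, x ≠ 0 → ∃ y, tri f x y y ≠ 0) :
    (∃ b, eval b f = 0 ∧ grad f b ≠ 0 ∧ ¬ Split f (grad f b)) ∨ ∃ U, SingLine f U := by
  classical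
  haveI : Infinite K := Infinite.of_injective ((↑) : ℕ → K) Nat.cast_injective
  refine or_iff_not_imp_right.mpr fun hns => ?_
  push Not at hns
  -- finitely many lines, and all singular points on them or on one ray
  obtain ⟨N, hN, hNS⟩ : ∃ N : Set (Submodule K (Fin 4 → K)), N.Finite ∧
      (∀ U ∈ N, Module.finrank K U ≤ 2) ∧ ∀ b, eval b f = 0 →
        ((∀ x, tri f x b b = 0) ∨ ∃ U, IsLine f U ∧ b ∈ U) → ∃ U ∈ N, b ∈ U := by
    by_cases hsing : ∃ a : Fin 4 → K, a ≠ 0 ∧ ∀ x, tri f x a a = 0
    · obtain ⟨a, ha, hs⟩ := hsing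
      have hfin := (finite_lines_of_singular hf hirr hcone ha hs).resolve_right (fun ⟨U, hU⟩ => hns U hU)
      refine ⟨insert (K ∙ a) {U | IsLine f U}, hfin.insert _, ?_, fun b hb h => ?_⟩
      · rintro U (rfl | hU)
        · exact (finrank_span_singleton ha).le.trans (by omega)
        · exact hU.1.le
      rcases h with h | ⟨U, hU, hbU⟩
      · by_cases hba : b ∈ K ∙ a
        · exact ⟨_, Set.mem_insert _ _, hba⟩
        refine ⟨Submodule.span K {a, b}, Set.mem_insert_of_mem _ ⟨?_, fun z hz => ?_⟩,
          Submodule.subset_span (by simp)⟩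
        · rw [← Matrix.range_cons_cons_empty a b (![] : Fin 0 → Fin 4 → K), finrank_span_eq_card]
          · simp
          · rw [LinearIndependent.pair_iff' ha]
            exact fun c hc => hba (hc ▸ Submodule.smul_mem _ c (Submodule.mem_span_singleton_self a))
        · obtain ⟨r, s, rfl⟩ := Submodule.mem_span_pair.mp hz
          rw [eval_add_smul hf]
          simp [hs a, h b, (sing_radical h a).1, hs b]
      · exact ⟨U, Set.mem_insert_of_mem _ hU, hbU⟩
    · push Not at hsing
      have hsm : ∀ v : Fin 4 → K, v ≠ 0 → eval v f = 0 → ∃ i, eval v (pderiv i f) ≠ 0 := fun v hv _ => by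
        obtain ⟨x, hx⟩ := hsing v hv
        by_contra! h0
        have := sum_eval_pderiv hf x v
        simp [h0] at this
        exact hx this
      obtain ⟨L, hL, hLf⟩ := H25Line.exists_line (n := 3) (d := 3) (by omega) (by omega) ⟨f, hf⟩
      have h27 := twentySeven hf hsm (L := L) ⟨hL, hLf⟩
      refine ⟨insert ⊥ {U | IsLine f U}, (Set.finite_of_ncard_pos (by omega)).insert _, ?_, fun b hb h => ?_⟩
      · rintro U (rfl | hU)
        · simp
        · exact hU.1.le
      rcases h with h | ⟨U, hU, hbU⟩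
      · by_cases hb0 : b = 0
        · exact ⟨⊥, Set.mem_insert _ _, by simp [hb0]⟩
        · obtain ⟨x, hx⟩ := hsing b hb0
          exact absurd (h x) hx
      · exact ⟨U, Set.mem_insert_of_mem _ hU, hbU⟩
  by_contra! hall
  -- every point of the surface is then on finitely many lines
  obtain ⟨w, hw⟩ : ∃ w : Fin 4 → K, eval w f ≠ 0 := by
    by_contra! h; exact hirr.ne_zero (MvPolynomial.funext fun x => by rw [h x, map_zero])
  have hcov : ∀ b, eval b f = 0 → ∃ U ∈ N, b ∈ U := by
    intro b hb
    refine hNS.2 b hb ?_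
    by_cases hg : grad f b = 0
    · exact Or.inl fun x => by rw [← grad_apply, hg]; rfl
    right
    obtain ⟨l₁, l₂, l₃, hl⟩ := hall b hb hg
    have hbbb : grad f b b = 0 := by show tri f b b b = 0; rw [← eval_eq_tri hf, hb]
    have hb0 : b ≠ 0 := fun h => hg (LinearMap.ext fun x => by simp [h])
    have hex : ∀ l : (Fin 4 → K) →ₗ[K] K, l b = 0 → (∀ x, grad f b x = 0 → l x = 0 → eval x f = 0) →
        ∃ U, IsLine f U ∧ b ∈ U := by
      intro l hlb h0
      obtain ⟨u, v, hu, hv, hli, -⟩ := basis_ker hg hb0 hbbb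
      obtain ⟨s, t, hst, hl0⟩ : ∃ s t : K, (s ≠ 0 ∨ t ≠ 0) ∧ s * l u + t * l v = 0 := by
        by_cases hlu : l u = 0
        · exact ⟨1, 0, Or.inl one_ne_zero, by rw [hlu]; ring⟩
        · exact ⟨-l v, l u, Or.inr hlu, by ring⟩
      refine ⟨Submodule.span K {b, s • u + t • v}, ⟨?_, fun x hx => ?_⟩, Submodule.subset_span (by simp)⟩
      · rw [← Matrix.range_cons_cons_empty b (s • u + t • v) (![] : Fin 0 → Fin 4 → K), finrank_span_eq_card]
        · simp
        · rw [LinearIndependent.pair_iff' hb0]
          intro c hc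
          obtain ⟨-, h1, h2⟩ := hli c (-s) (-t) (by rw [hc]; module)
          rcases hst with h | h
          · exact h (neg_eq_zero.mp h1)
          · exact h (neg_eq_zero.mp h2)
      · obtain ⟨p, q, rfl⟩ := Submodule.mem_span_pair.mp hx
        refine h0 _ (by simp only [map_add, map_smul, hu, hv, hbbb]; simp) ?_
        simp only [map_add, map_smul, hlb, smul_eq_mul, hl0]; ring
    have h := hl b hbbb
    rw [hb] at h
    rcases mul_eq_zero.mp h.symm with h' | h'
    · rcases mul_eq_zero.mp h' with h'' | h''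
      · exact hex l₁ h'' fun x hx hlx => by rw [hl x hx, hlx]; ring
      · exact hex l₂ h'' fun x hx hlx => by rw [hl x hx, hlx]; ring
    · exact hex l₃ h' fun x hx hlx => by rw [hl x hx, hlx]; ring
  have hall' : ∀ u : Fin 4 → K, ∃ U ∈ N, u ∈ U ⊔ K ∙ w := by
    intro u
    obtain ⟨r, hr⟩ := IsAlgClosed.exists_root
      (Polynomial.C (eval w f) * Polynomial.X ^ 3 + Polynomial.C (3 * tri f w w u) * Polynomial.X ^ 2 +
        Polynomial.C (3 * tri f w u u) * Polynomial.X + Polynomial.C (eval u f))
      (by rw [Polynomial.degree_cubic hw]; decide)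
    simp [Polynomial.IsRoot] at hr
    obtain ⟨U, hU, hmem⟩ := hcov (u + r • w) (by
      rw [eval_add_smul hf, ← eval_eq_tri hf, ← eval_eq_tri hf]; linear_combination hr)
    refine ⟨U, hU, ?_⟩
    rw [show u = (u + r • w) + (-r) • w by module]
    exact add_mem (Submodule.mem_sup_left hmem)
      (Submodule.mem_sup_right (Submodule.smul_mem _ _ (Submodule.mem_span_singleton_self w)))
  have hne : ∀ U ∈ N, U ⊔ K ∙ w ≠ ⊤ := fun U hU h => by
    have h1 := Submodule.finrank_add_le_finrank_add_finrank U (K ∙ w)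
    rw [h, finrank_top, Module.finrank_fin_fun, finrank_span_singleton (fun h0 => hw (by
      rw [h0, eval_eq_tri hf]; simp))] at h1
    have := hNS.1 U hU
    omega
  haveI := hN.to_subtype
  have hu : (⋃ U : N, ((U.1 ⊔ K ∙ w : Submodule K (Fin 4 → K)) : Set (Fin 4 → K))) = Set.univ := by
    refine Set.eq_univ_of_forall fun u => ?_
    obtain ⟨U, hU, hu⟩ := hall' u
    exact Set.mem_iUnion.mpr ⟨⟨U, hU⟩, hu⟩
  obtain ⟨U, hU⟩ := Subspace.exists_eq_top_of_iUnion_eq_univ hu
  exact hne U.1 U.2 hU

end Groth.Agent.H25Cubic
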