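import Groth.Agent.H25Cubic.Tri

/-! Pfaffian representation of a cubic through five points in general position. -/

set_option autoImplicit false

namespace Groth.Agent.H25Cubic
open MvPolynomial

/-- The bordered skew matrix. -/
def borderM {R : Type*} [CommRing R] (x : Fin 4 → R) (l : Fin 5 → R) : Matrix (Fin 6) (Fin 6) R :=
  !![0, x 3, -x 2, -x 3, x 2, l 0;
     -x 3, 0, x 1, x 3, 0, l 1;
     x 2, -x 1, 0, 0, -x 2, l 2;
     x 3, -x 3, 0, 0, -x 0, l 3;
     -x 2, 0, x 2, x 0, 0, l 4;
     -l 0, -l 1, -l 2, -l 3, -l 4, 0]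

set_option maxHeartbeats 4000000 in
lemma det_borderM {R : Type*} [CommRing R] (x : Fin 4 → R) (l : Fin 5 → R) :
    (borderM x l).det = (l 0 * (x 0 * x 1 - x 2 * x 3) + l 1 * (x 0 * x 2 - x 2 * x 3) +
      l 2 * (x 0 * x 3 - x 2 * x 3) + l 3 * (x 1 * x 2 - x 2 * x 3) +
      l 4 * (x 1 * x 3 - x 2 * x 3)) ^ 2 := by
  simp [borderM, Matrix.det_succ_row_zero, Fin.sum_univ_succ, Fin.succAbove]
  ring

lemma borderM_transpose {R : Type*} [CommRing R] (x : Fin 4 → R) (l : Fin 5 → R) :
    (borderM x l).transpose = -borderM x l := by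
  ext i j
  fin_cases i <;> fin_cases j <;> simp [borderM]

lemma borderM_diag {R : Type*} [CommRing R] (x : Fin 4 → R) (l : Fin 5 → R) (i : Fin 6) :
    borderM x l i i = 0 := by
  fin_cases i <;> simp [borderM]

lemma borderM_mem {R : Type*} [CommRing R] (S : AddSubgroup R) {x : Fin 4 → R} {l : Fin 5 → R}
    (hx : ∀ i, x i ∈ S) (hl : ∀ i, l i ∈ S) (i j : Fin 6) : borderM x l i j ∈ S := by
  fin_cases i <;> fin_cases j <;> simp [borderM, hx, hl]

variable {K : Type*} [Field K] [CharZero K]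

lemma eval_lin (a : Fin 4 → K) (x : Fin 4 → K) :
    eval x (∑ i : Fin 4, C (a i) * X i) = ∑ i : Fin 4, a i * x i := by simp

lemma lin_hom (a : Fin 4 → K) : (∑ i : Fin 4, C (a i) * X i).IsHomogeneous 1 :=
  IsHomogeneous.sum _ _ _ fun i _ => isHomogeneous_C_mul_X (a i) i

/-- Five points in the standard position. -/
theorem pfaffian_standard {G : MvPolynomial (Fin 4) K} (hG : G.IsHomogeneous 3)
    (he : ∀ i, eval (Pi.single i 1) G = 0) (h1 : eval (fun _ => 1) G = 0) :
    ∃ M : Matrix (Fin 6) (Fin 6) (MvPolynomial (Fin 4) K), (∀ i j, (M i j).IsHomogeneous 1) ∧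
      M.transpose = -M ∧ (∀ i, M i i = 0) ∧ M.det = G ^ 2 := by
  classical
  let T : Fin 4 → Fin 4 → Fin 4 → K := fun i j m =>
    tri G (Pi.single i 1) (Pi.single j 1) (Pi.single m 1)
  let c001 := 3 * T 0 0 1
  let c002 := 3 * T 0 0 2
  let c003 := 3 * T 0 0 3
  let c011 := 3 * T 0 1 1
  let c112 := 3 * T 1 1 2
  let c113 := 3 * T 1 1 3
  let c022 := 3 * T 0 2 2
  let c122 := 3 * T 1 2 2
  let c223 := 3 * T 2 2 3
  let c033 := 3 * T 0 3 3
  let c133 := 3 * T 1 3 3
  let c233 := 3 * T 2 3 3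
  let c013 := 6 * T 0 1 3
  let c023 := 6 * T 0 2 3
  let c123 := 6 * T 1 2 3
  let a : Fin 5 → Fin 4 → K := ![
    ![c001, c011, -c022 - c122 - c223, -c001 - c002 - c003 - c023 - c033 - c133 - c233],
    ![c002, -c001 - c002 - c003 - c011 - c013 - c023 - c033 - c112 - c113 - c123 - c133 - c233,
      c022, c001 + c002 + c003 + c023],
    ![c003, c001 + c002 + c003 + c013 + c023 + c033 + c133 + c233, 0, c033],
    ![0, c112, c122, 0],
    ![0, c113, 0, c133]]
  refine ⟨borderM X fun m => ∑ i : Fin 4, C (a m i) * X i, fun i j => ?_, borderM_transpose _ _,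
    borderM_diag _ _, ?_⟩
  · exact (mem_homogeneousSubmodule 1 _).mp (borderM_mem (homogeneousSubmodule (Fin 4) K 1).toAddSubgroup
      (fun m => (mem_homogeneousSubmodule 1 _).mpr (isHomogeneous_X K m))
      (fun m => (mem_homogeneousSubmodule 1 _).mpr (lin_hom _)) i j)
  · rw [det_borderM]
    congr 1
    haveI : Infinite K := Infinite.of_injective ((↑) : ℕ → K) Nat.cast_injective
    refine MvPolynomial.funext fun x => ?_
    simp only [map_add, map_mul, map_sub, eval_X, eval_C, map_sum, Fin.sum_univ_four]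
    have hx : x = x 0 • Pi.single (0 : Fin 4) 1 + x 1 • Pi.single (1 : Fin 4) 1 +
        x 2 • Pi.single (2 : Fin 4) 1 + x 3 • Pi.single (3 : Fin 4) 1 := by
      funext i; fin_cases i <;> simp
    have expand : ∀ y : Fin 4 → K, eval y G =
        c001 * (y 0 * y 0 * y 1) + c002 * (y 0 * y 0 * y 2) + c003 * (y 0 * y 0 * y 3) +
        c011 * (y 0 * y 1 * y 1) + c112 * (y 1 * y 1 * y 2) + c113 * (y 1 * y 1 * y 3) +
        c022 * (y 0 * y 2 * y 2) + c122 * (y 1 * y 2 * y 2) + c223 * (y 2 * y 2 * y 3) +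
        c033 * (y 0 * y 3 * y 3) + c133 * (y 1 * y 3 * y 3) + c233 * (y 2 * y 3 * y 3) +
        c013 * (y 0 * y 1 * y 3) + c023 * (y 0 * y 2 * y 3) + c123 * (y 1 * y 2 * y 3) +
        6 * T 0 1 2 * (y 0 * y 1 * y 2) := by
      intro y
      have hd : ∀ i, T i i i = 0 := fun i => (eval_eq_tri hG _).symm.trans (he i)
      have hy : y = y 0 • Pi.single (0 : Fin 4) 1 + y 1 • Pi.single (1 : Fin 4) 1 +
          y 2 • Pi.single (2 : Fin 4) 1 + y 3 • Pi.single (3 : Fin 4) 1 := by
        funext i; fin_cases i <;> simp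
      conv_lhs => rw [eval_eq_tri hG, hy]
      simp only [map_add, map_smul, LinearMap.add_apply, LinearMap.smul_apply, smul_eq_mul]
      have p12 : ∀ i j m, T i j m = T j i m := fun i j m => tri_swap12 G _ _ _
      have p23 : ∀ i j m, T i j m = T i m j := fun i j m => tri_swap23 G _ _ _
      have p13 : ∀ i j m, T i j m = T m j i := fun i j m => tri_swap13 G _ _ _
      have pr : ∀ i j m, T i j m = T m i j := fun i j m => (tri_rot G _ _ _).symm
      have pr' : ∀ i j m, T i j m = T j m i := fun i j m => tri_rot G _ _ _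
      simp only [show ∀ i j m, tri G (Pi.single i 1) (Pi.single j 1) (Pi.single m 1) = T i j m from
        fun _ _ _ => rfl]
      simp only [hd, p12 1 0 0, p13 1 0 0, p23 0 1 0, p12 2 0 0, p13 2 0 0, p23 0 2 0,
        p12 3 0 0, p13 3 0 0, p23 0 3 0, p12 1 0 1, p13 1 1 0, p12 2 1 1, p23 1 2 1, p12 3 1 1,
        p23 1 3 1, p12 2 0 2, p13 2 2 0, p12 2 1 2, p13 2 2 1, p12 3 2 2, p23 2 3 2, p12 3 0 3,
        p13 3 3 0, p12 3 1 3, p13 3 3 1, p12 3 2 3, p13 3 3 2,
        p12 1 0 2, p23 0 2 1, p13 2 1 0, pr 1 2 0, pr' 2 0 1,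
        p12 1 0 3, p23 0 3 1, p13 3 1 0, pr 1 3 0, pr' 3 0 1,
        p12 2 0 3, p23 0 3 2, p13 3 2 0, pr 2 3 0, pr' 3 0 2,
        p12 2 1 3, p23 1 3 2, p13 3 2 1, pr 2 3 1, pr' 3 1 2]
      simp only [c001, c002, c003, c011, c112, c113, c022, c122, c223, c033, c133, c233, c013, c023, c123]
      ring
    have h1' := h1
    rw [expand] at h1'
    rw [expand]
    simp only [a, Matrix.cons_val', Matrix.cons_val, Matrix.cons_val_zero, Matrix.cons_val_one,
      Matrix.empty_val', Matrix.cons_val_fin_one]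
    linear_combination -(x 0 * x 1 * x 2) * h1'

/-- **Pfaffian representation from five points in general position.** -/
theorem pfaffian_of_five {F : MvPolynomial (Fin 4) K} (hF : F.IsHomogeneous 3)
    (p : Fin 5 → (Fin 4 → K)) (hp : ∀ j, eval (p j) F = 0)
    (hli : ∀ j : Fin 5, LinearIndependent K (fun i : Fin 4 => p (j.succAbove i))) :
    ∃ M : Matrix (Fin 6) (Fin 6) (MvPolynomial (Fin 4) K), (∀ i j, (M i j).IsHomogeneous 1) ∧
      M.transpose = -M ∧ (∀ i, M i i = 0) ∧ ∃ c : K, c ≠ 0 ∧ M.det = C c * F ^ 2 := by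
  classical
  have hb := hli (Fin.last 4)
  simp only [Fin.succAbove_last] at hb
  let b : Module.Basis (Fin 4) K (Fin 4 → K) := basisOfLinearIndependentOfCardEqFinrank hb (by simp)
  have hbv : ∀ i, b i = p i.castSucc := fun i => by simp [b]
  set lam : Fin 4 → K := fun i => b.repr (p (Fin.last 4)) i with hlam
  have hlam0 : ∀ i, lam i ≠ 0 := by
    intro i hi
    have hj := (hli i.castSucc).span_eq_top_of_card_eq_finrank (by simp)
    have hle : Submodule.span K (Set.range fun l : Fin 4 => p (i.castSucc.succAbove l)) ≤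
        LinearMap.ker (b.coord i) := by
      rw [Submodule.span_le]
      rintro _ ⟨l, rfl⟩
      show b.repr (p (i.castSucc.succAbove l)) i = 0
      have hne := Fin.succAbove_ne i.castSucc l
      induction h : i.castSucc.succAbove l using Fin.lastCases with
      | last => exact hi
      | cast m =>
        rw [← hbv, b.repr_self]
        refine Finsupp.single_eq_of_ne fun e => hne (by rw [h, e])
    have := hle (hj ▸ Submodule.mem_top (x := b i))
    simp at this
  let A : (Fin 4 → K) →ₗ[K] (Fin 4 → K) := (Fintype.linearCombination K fun i => lam i • b i)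
  let Ai : (Fin 4 → K) →ₗ[K] (Fin 4 → K) := LinearMap.pi fun i => (lam i)⁻¹ • b.coord i
  have hAA : ∀ x, A (Ai x) = x := fun x => by
    simp only [A, Ai, Fintype.linearCombination_apply, LinearMap.pi_apply, LinearMap.smul_apply,
      Module.Basis.coord_apply, smul_eq_mul]
    conv_rhs => rw [← b.sum_repr x]
    refine Finset.sum_congr rfl fun i _ => ?_
    rw [smul_smul]
    congr 1
    field_simp [hlam0 i]
  let sub (B : (Fin 4 → K) →ₗ[K] (Fin 4 → K)) : MvPolynomial (Fin 4) K →ₐ[K] MvPolynomial (Fin 4) K :=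
    aeval fun i => ∑ j, C (LinearMap.toMatrix' B i j) * X j
  have hsub : ∀ B x g, eval x (sub B g) = eval (B x) g := fun B x g => by
    simp only [sub]
    rw [eval_subst, LinearMap.toMatrix'_mulVec]
  have hhom : ∀ B {g : MvPolynomial (Fin 4) K} {n : ℕ}, g.IsHomogeneous n → (sub B g).IsHomogeneous n :=
    fun B {g n} hg => by
      have := MvPolynomial.IsHomogeneous.aeval hg (fun i => ∑ j, C (LinearMap.toMatrix' B i j) * X j)
        (n := 1) fun i => lin_hom _
      simpa [sub] using this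
  set G := sub A F with hG
  have he : ∀ i, eval (Pi.single i 1) G = 0 := fun i => by
    rw [hG, hsub]
    have : A (Pi.single i 1) = lam i • b i := by
      simp [A, Fintype.linearCombination_apply, Pi.single_apply]
    rw [this, eval_smul_vec hF, hbv, hp, mul_zero]
  have h1 : eval (fun _ => 1) G = 0 := by
    rw [hG, hsub]
    have : A (fun _ => 1) = p (Fin.last 4) := by
      simp only [A, Fintype.linearCombination_apply, one_smul]
      exact b.sum_repr _
    rw [this, hp]
  obtain ⟨M, hM1, hMt, hMd, hdet⟩ := pfaffian_standard (hhom A hF) he h1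
  refine ⟨M.map (sub Ai), fun i j => hhom Ai (hM1 i j), ?_, fun i => by simp [hMd], 1, one_ne_zero, ?_⟩
  · ext i j : 2
    have := congrFun (congrFun hMt i) j
    simp only [Matrix.transpose_apply, Matrix.neg_apply] at this
    simp [Matrix.map_apply, this]
  · rw [← AlgHom.mapMatrix_apply, ← AlgHom.map_det, hdet, map_pow, map_one, one_mul]
    congr 1
    haveI : Infinite K := Infinite.of_injective ((↑) : ℕ → K) Nat.cast_injective
    refine MvPolynomial.funext fun x => ?_
    rw [hsub, hsub, hAA]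

end Groth.Agent.H25Cubic
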