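import Groth.Agent.H25Cubic.RatPoints
import Groth.Agent.H25Cubic.NonT
import Groth.Agent.H25Cubic.Pfaff
import Mathlib.FieldTheory.Galois.Infinite
import Mathlib.FieldTheory.IntermediateField.Adjoin.Basic

/-! A line over `k` meeting the cubic surface in a point fit for a Pfaffian representation. -/

set_option autoImplicit false
universe u

namespace Groth.Agent.H25Cubic
open MvPolynomial

section General
variable {K : Type u} [Field K] [CharZero K] [IsAlgClosed K] {f : MvPolynomial (Fin 4) K}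

/-- Polynomial functions on `K⁴`. -/
noncomputable def mpolys (K : Type*) [Field K] : Subalgebra K ((Fin 4 → K) → K) :=
  (aeval (fun i (b : Fin 4 → K) => b i)).range

omit [CharZero K] [IsAlgClosed K] in
lemma exists_of_mem_mpolys {h : (Fin 4 → K) → K} (hh : h ∈ mpolys K) :
    ∃ P : MvPolynomial (Fin 4) K, ∀ b, eval b P = h b := by
  obtain ⟨P, rfl⟩ := hh
  refine ⟨P, fun b => ?_⟩
  change eval b P = Pi.evalAlgHom K (fun _ : Fin 4 → K => K) b (aeval (fun i (b : Fin 4 → K) => b i) P)
  rw [← AlgHom.comp_apply, comp_aeval]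
  simp [aeval_eq_eval]

omit [CharZero K] [IsAlgClosed K] in
lemma tri_mem_mpolys {A B C : (Fin 4 → K) → Fin 4 → K} (hA : ∀ i, (fun b => A b i) ∈ mpolys K)
    (hB : ∀ i, (fun b => B b i) ∈ mpolys K) (hC : ∀ i, (fun b => C b i) ∈ mpolys K) :
    (fun b => tri f (A b) (B b) (C b)) ∈ mpolys K := by
  have e : (fun b => tri f (A b) (B b) (C b)) = ∑ i, ∑ j, ∑ l, coef f i j l •
      ((fun b => A b i) * ((fun b => B b j) * fun b => C b l)) := by
    funext t; simp [tri_apply, Finset.sum_apply]
  rw [e]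
  exact sum_mem fun i _ => sum_mem fun j _ => sum_mem fun l _ =>
    Subalgebra.smul_mem _ (mul_mem (hA i) (mul_mem (hB j) (hC l))) _

/-- A polynomial detecting non-T points. -/
lemma exists_detector (hf : f.IsHomogeneous 3) {b₀ : Fin 4 → K} (hg : grad f b₀ ≠ 0)
    (hns : ¬ Split f (grad f b₀)) :
    ∃ P : MvPolynomial (Fin 4) K, eval b₀ P ≠ 0 ∧ ∀ b, Split f (grad f b) → eval b P = 0 := by
  have hH : ¬ HessProp f (grad f b₀) := fun H => hns (H.split hf hg)
  simp only [HessProp, not_forall] at hH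
  obtain ⟨y, x, x', hy, hx, hx', hne⟩ := hH
  obtain ⟨v, hv⟩ : ∃ v, grad f b₀ v ≠ 0 := by
    by_contra! h; exact hg (LinearMap.ext h)
  let π : (Fin 4 → K) → (Fin 4 → K) → Fin 4 → K := fun z b => tri f v b b • z - tri f z b b • v
  have hπ0 : ∀ z b, grad f b (π z b) = 0 := fun z b => by simp [π]; ring
  have hc : ∀ c : K, (fun _ : Fin 4 → K => c) ∈ mpolys K := fun c => Subalgebra.algebraMap_mem (mpolys K) c
  have hid : ∀ i, (fun b : Fin 4 → K => b i) ∈ mpolys K := fun i => ⟨X i, aeval_X _ i⟩
  have hπ : ∀ z i, (fun b => π z b i) ∈ mpolys K := fun z i => by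
    have e : (fun b => π z b i) = (fun b => tri f v b b) * (fun _ => z i) -
        (fun b => tri f z b b) * fun _ => v i := by funext b; simp [π]
    rw [e]
    exact sub_mem (mul_mem (tri_mem_mpolys (fun i => hc _) hid hid) (hc _))
      (mul_mem (tri_mem_mpolys (fun i => hc _) hid hid) (hc _))
  let h : (Fin 4 → K) → K := fun b =>
    hdet f (fun i => π (y i) b) (π x b) * tri f (π x' b) (π x' b) (π x' b) -
      hdet f (fun i => π (y i) b) (π x' b) * tri f (π x b) (π x b) (π x b)
  have hh : h ∈ mpolys K := by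
    have hd : ∀ z, (fun b => hdet f (fun i => π (y i) b) (π z b)) ∈ mpolys K := fun z => by
      let m : Fin 3 → Fin 3 → (Fin 4 → K) → K := fun i j b => tri f (π (y i) b) (π (y j) b) (π z b)
      have hm : ∀ i j, m i j ∈ mpolys K := fun i j => tri_mem_mpolys (hπ _) (hπ _) (hπ _)
      have e : (fun b => hdet f (fun i => π (y i) b) (π z b)) = m 0 0 * m 1 1 * m 2 2
          + (2 : K) • (m 0 1 * m 0 2 * m 1 2) - m 0 0 * (m 1 2) ^ 2 - m 1 1 * (m 0 2) ^ 2
          - m 2 2 * (m 0 1) ^ 2 := by
        funext t; simp [hdet_eq, m]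
      rw [e]
      exact sub_mem (sub_mem (sub_mem (add_mem (mul_mem (mul_mem (hm _ _) (hm _ _)) (hm _ _))
        (Subalgebra.smul_mem _ (mul_mem (mul_mem (hm _ _) (hm _ _)) (hm _ _)) _))
        (mul_mem (hm _ _) (pow_mem (hm _ _) 2))) (mul_mem (hm _ _) (pow_mem (hm _ _) 2)))
        (mul_mem (hm _ _) (pow_mem (hm _ _) 2))
    exact sub_mem (mul_mem (hd x) (tri_mem_mpolys (hπ _) (hπ _) (hπ _)))
      (mul_mem (hd x') (tri_mem_mpolys (hπ _) (hπ _) (hπ _)))
  obtain ⟨P, hP⟩ := exists_of_mem_mpolys hh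
  refine ⟨P, fun h0 => hne ?_, fun b hb => ?_⟩
  · rw [hP] at h0
    set c := tri f v b₀ b₀ with hc'
    have hc0 : c ≠ 0 := hv
    have hπx : ∀ z, grad f b₀ z = 0 → π z b₀ = c • z := fun z hz => by
      simp [π, ← hc', show tri f z b₀ b₀ = 0 from hz]
    simp only [h, hπx _ hx, hπx _ hx', hπx _ (hy _), hdet_eq, map_smul, LinearMap.smul_apply,
      smul_eq_mul] at h0
    rw [eval_eq_tri hf, eval_eq_tri hf, hdet_eq, hdet_eq]
    refine mul_left_cancel₀ (pow_ne_zero 12 hc0) ?_
    linear_combination h0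
  · rw [hP]
    have := HessProp.of_split hf hb (fun i => π (y i) b) (π x b) (π x' b) (fun i => hπ0 _ b) (hπ0 _ b) (hπ0 _ b)
    simp only [h]
    rw [← eval_eq_tri hf, ← eval_eq_tri hf, this, sub_self]

/-- **Lines from a Zariski dense box see non-T points.** -/
theorem exists_good_root (hf : f.IsHomogeneous 3) {b₀ : Fin 4 → K} (hb₀ : eval b₀ f = 0)
    (hg : grad f b₀ ≠ 0) (hns : ¬ Split f (grad f b₀)) {w : Fin 4 → K} (hw : eval w f ≠ 0)
    (s : Fin 4 → Set K) (hs : ∀ i, (s i).Infinite) :
    ∃ u : Fin 4 → K, (∀ i, u i ∈ s i) ∧ ∃ θ : K, eval (u + θ • w) f = 0 ∧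
      (grad f (u + θ • w) = 0 ∨ ¬ Split f (grad f (u + θ • w))) := by
  classical
  by_contra! hcon
  obtain ⟨P, hP0, hP⟩ := exists_detector hf hg hns
  -- substitution `u + T w`
  let S : MvPolynomial (Fin 4) K →ₐ[K] Polynomial (MvPolynomial (Fin 4) K) :=
    aeval fun i => Polynomial.C (X i) + Polynomial.C (C (w i)) * Polynomial.X
  let ev : (Fin 4 → K) → MvPolynomial (Fin 4) K → Polynomial K := fun u g => (S g).map (eval u)
  have hev : ∀ u g t, (ev u g).eval t = eval (u + t • w) g := fun u g t => by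
    show ((S g).map (eval u)).eval t = _
    induction g using MvPolynomial.induction_on with
    | C c => simp [S, IsScalarTower.algebraMap_eq K (MvPolynomial (Fin 4) K) (Polynomial (MvPolynomial (Fin 4) K))]
    | add p q hp hq => rw [map_add, Polynomial.map_add, Polynomial.eval_add, hp, hq, map_add]
    | mul_X p i hp =>
      rw [map_mul, Polynomial.map_mul, Polynomial.eval_mul, hp, map_mul]
      simp [S, mul_comm t]
  haveI : Infinite K := Infinite.of_injective ((↑) : ℕ → K) Nat.cast_injective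
  let G : Polynomial (MvPolynomial (Fin 4) K) := Polynomial.C (C (eval w f)⁻¹) * S f
  have hGe : ∀ u, G.map (eval u) = Polynomial.C (eval w f)⁻¹ * ev u f := fun u => by
    simp only [G, Polynomial.map_mul, Polynomial.map_C, eval_C, ev]
  have hGev : ∀ u t, (G.map (eval u)).eval t = t ^ 3 + (eval w f)⁻¹ *
      (tri f u u u + 3 * t * tri f w u u + 3 * t ^ 2 * tri f w w u) := fun u t => by
    rw [hGe, Polynomial.eval_mul, Polynomial.eval_C, hev, eval_add_smul hf, ← eval_eq_tri hf w]
    field_simp; ring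
  have hGu : ∀ u, G.map (eval u) = Polynomial.X ^ 3 + Polynomial.C (eval w f)⁻¹ *
      (Polynomial.C (tri f u u u) + Polynomial.C (3 * tri f w u u) * Polynomial.X +
        Polynomial.C (3 * tri f w w u) * Polynomial.X ^ 2) := fun u =>
    Polynomial.funext fun t => by
      rw [hGev]
      simp only [Polynomial.eval_add, Polynomial.eval_mul, Polynomial.eval_pow, Polynomial.eval_X, Polynomial.eval_C]
      ring
  have hdegu : ∀ u, (G.map (eval u)).natDegree = 3 := fun u => by
    rw [hGu]
    refine Polynomial.natDegree_eq_of_le_of_coeff_ne_zero (by compute_degree) ?_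
    simp only [Polynomial.coeff_add, Polynomial.coeff_C_mul, Polynomial.coeff_X_pow, Polynomial.coeff_X,
      Polynomial.coeff_C]
    norm_num
  have hdegle : G.natDegree ≤ 3 := by
    rw [Polynomial.natDegree_le_iff_coeff_eq_zero]
    intro n hn
    refine MvPolynomial.funext fun u => ?_
    rw [← Polynomial.coeff_map, Polynomial.coeff_eq_zero_of_natDegree_lt (by rw [hdegu]; exact hn), map_zero]
  have hmonic : G.Monic := by
    refine Polynomial.monic_of_natDegree_le_of_coeff_eq_one 3 hdegle ?_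
    refine MvPolynomial.funext fun u => ?_
    rw [← Polynomial.coeff_map, hGu, map_one]
    simp only [Polynomial.coeff_add, Polynomial.coeff_C_mul, Polynomial.coeff_X_pow, Polynomial.coeff_X,
      Polynomial.coeff_C]
    norm_num
  set R := (S P ^ 3) %ₘ G with hR
  have hR0 : R = 0 := by
    refine Polynomial.ext fun n => ?_
    rw [Polynomial.coeff_zero]
    refine MvPolynomial.funext_set s hs fun u hu => ?_
    rw [map_zero, ← Polynomial.coeff_map, hR, Polynomial.map_modByMonic _ hmonic]
    have hu' : ∀ i, u i ∈ s i := fun i => hu i (Set.mem_univ i)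
    have hdvd : G.map (eval u) ∣ ((S P ^ 3).map (eval u)) := by
      have hm := hmonic.map (eval u)
      rw [(IsAlgClosed.splits (G.map (eval u))).eq_prod_roots, hm.leadingCoeff, map_one, one_mul]
      have hcard : (G.map (eval u)).roots.card = 3 := by
        rw [IsAlgClosed.card_roots_eq_natDegree, hdegu]
      have hroot : ∀ r ∈ (G.map (eval u)).roots, (Polynomial.X - Polynomial.C r) ∣ ev u P := fun r hr => by
        rw [Polynomial.dvd_iff_isRoot, Polynomial.IsRoot, hev]
        have h0 := (Polynomial.mem_roots'.mp hr).2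
        rw [Polynomial.IsRoot, hGe, Polynomial.eval_mul, Polynomial.eval_C, hev] at h0
        exact hP _ (hcon u hu' r ((mul_eq_zero.mp h0).resolve_left (inv_ne_zero hw))).2
      rw [Polynomial.map_pow, show ev u P = (S P).map (eval u) from rfl] at *
      refine (Multiset.prod_dvd_prod_of_dvd _ (fun _ => (S P).map (eval u)) hroot).trans ?_
      rw [Multiset.map_const', Multiset.prod_replicate, hcard]
    rw [(Polynomial.modByMonic_eq_zero_iff_dvd (hmonic.map _)).mpr hdvd, Polynomial.coeff_zero]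
  obtain ⟨Q, hQ⟩ := (Polynomial.modByMonic_eq_zero_iff_dvd hmonic).mp hR0
  refine hP0 ?_
  have h1 := congrArg (fun g => ((g.map (eval b₀)).eval 0)) hQ
  simp only [Polynomial.map_pow, Polynomial.map_mul, Polynomial.eval_pow, Polynomial.eval_mul] at h1
  simp only [hGe, Polynomial.eval_mul, Polynomial.eval_C,
    show (S P).map (eval b₀) = ev b₀ P from rfl, hev, zero_smul, add_zero, hb₀, mul_zero, zero_mul] at h1
  simpa using h1

/-- A non-vertex condition descends from the base field. -/
lemma cone_of_base {k : Type u} [Field k] [CharZero k] [Algebra k K] {F : MvPolynomial (Fin 4) k}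
    (hF : F.IsHomogeneous 3)
    (hcone : ¬ ∃ v : Fin 4 → k, v ≠ 0 ∧ ∑ i : Fin 4, v i • pderiv i F = 0)
    (x : Fin 4 → K) (hx : x ≠ 0) : ∃ y, tri (map (algebraMap k K) F) x y y ≠ 0 := by
  classical
  by_contra! h
  obtain ⟨i₀, hi₀⟩ : ∃ i, x i ≠ 0 := by
    by_contra! h0; exact hx (funext h0)
  obtain ⟨lam, hlam, -⟩ := Submodule.exists_le_ker_of_notMem
    (show x i₀ ∉ (⊥ : Submodule k K) by simpa using hi₀)
  refine hcone ⟨fun i => lam (x i), fun h0 => hlam (congrFun h0 i₀), ?_⟩
  haveI : Infinite k := Infinite.of_injective ((↑) : ℕ → k) Nat.cast_injective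
  refine MvPolynomial.funext fun y => ?_
  have e := sum_eval_pderiv (hF.map (algebraMap k K)) x (iv K y)
  rw [h, mul_zero] at e
  have e' := congrArg lam e
  simp only [map_sum, map_zero, pderiv_map, eval_iv] at e'
  simp only [map_sum, MvPolynomial.smul_eval, map_zero]
  rw [← e']
  refine Finset.sum_congr rfl fun i _ => ?_
  rw [mul_comm (x i), ← Algebra.smul_def, map_smul, smul_eq_mul, mul_comm]

end General

variable {k : Type u} [Field k] [CharZero k] {F : MvPolynomial (Fin 4) k}

local notation "𝕂" => AlgebraicClosure k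

/-- A singular line gives a rational singular point. -/
lemma exists_ratSing (hF : F.IsHomogeneous 3) [CharZero 𝕂]
    (hirr : Irreducible (map (algebraMap k 𝕂) F)) {U : Submodule 𝕂 (Fin 4 → 𝕂)}
    (hU : SingLine (map (algebraMap k 𝕂) F) U) :
    ∃ a : Fin 4 → k, a ≠ 0 ∧ eval a F = 0 ∧ grad (map (algebraMap k 𝕂) F) (iv 𝕂 a) = 0 := by
  classical
  set f := map (algebraMap k 𝕂) F with hf'
  have hf : f.IsHomogeneous 3 := hF.map _
  obtain ⟨v, hv, hv0⟩ := Submodule.exists_mem_ne_zero_of_ne_bot (p := U) fun e => by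
    have := hU.1; rw [e, finrank_bot] at this; omega
  obtain ⟨j, hj⟩ : ∃ j, v j ≠ 0 := by
    by_contra! h; exact hv0 (funext h)
  obtain ⟨y, hy, hyv⟩ : ∃ y ∈ U, y ∉ 𝕂 ∙ v := by
    by_contra! h
    have := Submodule.finrank_mono (show U ≤ 𝕂 ∙ v from h)
    rw [hU.1, finrank_span_singleton hv0] at this
    omega
  set u := y - (y j / v j) • v with hu
  have hu0 : u ≠ 0 := fun h => hyv (Submodule.mem_span_singleton.mpr ⟨_, (sub_eq_zero.mp h).symm⟩)
  obtain ⟨l, hl⟩ : ∃ l, u l ≠ 0 := by
    by_contra! h; exact hu0 (funext h)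
  set e := (u l)⁻¹ • u with he
  have heU : e ∈ U := U.smul_mem _ (sub_mem hy (U.smul_mem _ hv))
  have hej : e j = 0 := by simp [he, hu, div_mul_cancel₀ _ hj]
  have hel : e l = 1 := by simp [he, inv_mul_cancel₀ hl]
  have huniq : ∀ z ∈ U, z j = 0 → z l = 1 → z = e := by
    intro z hz hzj hzl
    have hspan : U = Submodule.span 𝕂 {v, e} := by
      refine (Submodule.eq_of_le_of_finrank_eq
        (Submodule.span_le.mpr (by rintro x (rfl | rfl) <;> assumption)) ?_).symm
      rw [hU.1, ← Matrix.range_cons_cons_empty v e (![] : Fin 0 → Fin 4 → 𝕂), finrank_span_eq_card]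
      · simp
      · rw [LinearIndependent.pair_iff' hv0]
        intro c hc
        have h1 := congrFun hc j
        simp [hej, hj] at h1
        have h2 := congrFun hc l
        simp [h1, hel] at h2
    obtain ⟨p, q, hpq⟩ := Submodule.mem_span_pair.mp (hspan ▸ hz)
    have h1 := congrFun hpq j
    simp [hej, hzj, hj] at h1
    have h2 := congrFun hpq l
    simp [h1, hel, hzl] at h2
    rw [← hpq, h1, h2]; simp
  have hfix : ∀ σ : 𝕂 ≃ₐ[k] 𝕂, ∀ i, σ (e i) = e i := by
    intro σ
    have hcomm : ∀ (g : MvPolynomial (Fin 4) k) (z : Fin 4 → 𝕂),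
        eval (fun i => σ (z i)) (map (algebraMap k 𝕂) g) = σ (eval z (map (algebraMap k 𝕂) g)) := fun g z => by
      rw [eval_map, eval_map, ← aeval_def, ← aeval_def]
      exact (congrArg (fun φ : MvPolynomial (Fin 4) k →ₐ[k] 𝕂 => φ g)
        (comp_aeval z σ.toAlgHom)).symm
    have hz : (fun i => σ (e i)) ∈ U := by
      refine hU.mem hf hirr fun x => ?_
      have h3 : ∀ i, eval (fun i => σ (e i)) (pderiv i f) = 0 := fun i => by
        rw [hf', pderiv_map, hcomm]
        have := sum_eval_pderiv hf (Pi.single i 1) e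
        rw [hU.2 e heU, mul_zero] at this
        simp only [Pi.single_apply, ite_mul, one_mul, zero_mul, Finset.sum_ite_eq', Finset.mem_univ,
          if_true, hf', pderiv_map] at this
        rw [this, map_zero]
      have := sum_eval_pderiv hf x fun i => σ (e i)
      simp [h3] at this
      exact this
    exact congrFun (huniq _ hz (by simp [hej]) (by simp [hel]))
  haveI : IsGalois k 𝕂 := inferInstance
  have hbot : ∀ i, ∃ c : k, algebraMap k 𝕂 c = e i := fun i => by
    have := (InfiniteGalois.mem_bot_iff_fixed (k := k) (K := 𝕂) (e i)).mpr fun σ => hfix σ i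
    exact IntermediateField.mem_bot.mp this
  choose a ha using hbot
  have hae : iv 𝕂 a = e := funext ha
  refine ⟨a, fun h => ?_, ?_, ?_⟩
  · have := ha l
    rw [h, hel] at this
    simp at this
  · refine (algebraMap k 𝕂).injective ?_
    rw [← eval_iv, hae, map_zero, eval_eq_tri hf]
    exact hU.2 e heU e
  · rw [hae]; exact LinearMap.ext fun x => hU.2 e heU x

/-- Geometric data for a cubic with no singular line, or a rational singular point. -/
lemma exists_start (hF : F.IsHomogeneous 3) [CharZero 𝕂]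
    (hirr : Irreducible (map (algebraMap k 𝕂) F))
    (hcone : ¬ ∃ v : Fin 4 → k, v ≠ 0 ∧ ∑ i : Fin 4, v i • pderiv i F = 0) :
    (∃ b, eval b (map (algebraMap k 𝕂) F) = 0 ∧ grad (map (algebraMap k 𝕂) F) b ≠ 0 ∧
      ¬ Split (map (algebraMap k 𝕂) F) (grad (map (algebraMap k 𝕂) F) b)) ∨
    ∃ a : Fin 4 → k, a ≠ 0 ∧ eval a F = 0 ∧ grad (map (algebraMap k 𝕂) F) (iv 𝕂 a) = 0 :=
  (exists_nonT_or_singLine (hF.map _) hirr (cone_of_base hF hcone)).imp_right
    fun ⟨_, hU⟩ => exists_ratSing hF hirr hU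

/-- A Pfaffian representation over a field containing a good point. -/
theorem pfaffian_of_good (hF : F.IsHomogeneous 3) [CharZero 𝕂]
    (hirr : Irreducible (map (algebraMap k 𝕂) F))
    (hcone : ¬ ∃ v : Fin 4 → k, v ≠ 0 ∧ ∑ i : Fin 4, v i • pderiv i F = 0)
    (E : IntermediateField k 𝕂) (a : Fin 4 → E) (ha : a ≠ 0)
    (hFa : eval (fun i => (a i : 𝕂)) (map (algebraMap k 𝕂) F) = 0)
    (hgood : grad (map (algebraMap k 𝕂) F) (fun i => (a i : 𝕂)) = 0 ∨
      ¬ Split (map (algebraMap k 𝕂) F) (grad (map (algebraMap k 𝕂) F) fun i => (a i : 𝕂))) :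
    ∃ M : Matrix (Fin 6) (Fin 6) (MvPolynomial (Fin 4) E), (∀ i j, (M i j).IsHomogeneous 1) ∧
      M.transpose = -M ∧ (∀ i, M i i = 0) ∧
        ∃ c : E, c ≠ 0 ∧ M.det = C c * (map (algebraMap k E) F) ^ 2 := by
  have hmap : map (algebraMap E 𝕂) (map (algebraMap k E) F) = map (algebraMap k 𝕂) F := by
    rw [map_map, ← IsScalarTower.algebraMap_eq]
  haveI : CharZero E := charZero_of_injective_algebraMap (algebraMap k E).injective
  have hv : ∀ v : Fin 4 → E, v ≠ 0 → ∃ y, tri (map (algebraMap k E) F) v y y ≠ 0 := by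
    intro v hv
    by_contra! h
    refine hv ?_
    by_contra hv0
    obtain ⟨Y, hY⟩ := cone_of_base (K := 𝕂) hF hcone (iv 𝕂 v) (fun h0 => hv0 (funext fun i =>
      (algebraMap E 𝕂).injective (by simpa [iv] using congrFun h0 i)))
    haveI : Infinite E := Infinite.of_injective ((↑) : ℕ → E) Nat.cast_injective
    have hzero : ∑ i : Fin 4, v i • pderiv i (map (algebraMap k E) F) = 0 := MvPolynomial.funext fun z => by
      simp [MvPolynomial.smul_eval, sum_eval_pderiv (hF.map _) v z, h z]
    refine hY ?_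
    have := congrArg (fun g => eval Y (map (algebraMap E 𝕂) g)) hzero
    simp only [map_sum, MvPolynomial.smul_eq_C_mul, map_mul, map_C, eval_C, ← pderiv_map, hmap, map_zero] at this
    have e := sum_eval_pderiv (hF.map (algebraMap k 𝕂)) (iv 𝕂 v) Y
    simp only [iv] at e
    rw [this] at e
    simpa [iv] using e.symm
  obtain ⟨p, -, hp, hli⟩ := exists_five (k := E) (K := 𝕂) (hF.map (algebraMap k E)) (by rw [hmap]; exact hirr)
    hv ha (by
      refine (algebraMap E 𝕂).injective ?_
      rw [← eval_iv, hmap, map_zero]; exact hFa)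
    (by rw [hmap]; exact fun hg => hgood.resolve_left hg)
  exact pfaffian_of_five (hF.map _) p hp hli

end Groth.Agent.H25Cubic
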