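import Groth.Agent.H25Cubic.Tri
import Mathlib.LinearAlgebra.Matrix.DotProduct
import Groth.Agent.H29Ci.Zero
import Groth.Prelude.Def_W4c5monodromycubicsHesse
import Mathlib.Analysis.Complex.Polynomial.Basic

/-! The Hesse normal form of a smooth plane cubic and its flexes. -/

set_option autoImplicit false

namespace Groth.Agent.H25Cubic
open MvPolynomial Matrix

abbrev V3 := Fin 3 → ℂ

/-- Coordinate functional. -/
abbrev pr (i : Fin 3) : V3 →ₗ[ℂ] ℂ := LinearMap.proj i

abbrev IsSmooth3 (f : MvPolynomial (Fin 3) ℂ) : Prop :=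
  ∀ v : V3, v ≠ 0 → eval v f = 0 → ∃ i : Fin 3, eval v (pderiv i f) ≠ 0

abbrev IsFlex (f : MvPolynomial (Fin 3) ℂ) (v : V3) : Prop :=
  ∃ w : V3, LinearIndependent ℂ ![v, w] ∧ ∀ t : ℂ, eval (v + t • w) f = t ^ 3 * eval w f

lemma eval_form (k : ℂ) (x : V3) :
    eval x (HesseCubic.form k) = x 0 ^ 3 + x 1 ^ 3 + x 2 ^ 3 - 3 * k * (x 0 * x 1 * x 2) := by
  simp [HesseCubic.form]

lemma form_isHomogeneous (k : ℂ) : (HesseCubic.form k).IsHomogeneous 3 := by
  refine IsHomogeneous.sub (IsHomogeneous.add (IsHomogeneous.add ?_ ?_) ?_) ?_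
  · simpa using (isHomogeneous_X ℂ (0 : Fin 3)).pow 3
  · simpa using (isHomogeneous_X ℂ (1 : Fin 3)).pow 3
  · simpa using (isHomogeneous_X ℂ (2 : Fin 3)).pow 3
  · simpa using (((isHomogeneous_X ℂ (0 : Fin 3)).mul (isHomogeneous_X ℂ 1)).mul
      (isHomogeneous_X ℂ 2)).C_mul (3 * k)

lemma tri_form (k : ℂ) (x y z : V3) :
    tri (HesseCubic.form k) x y z = x 0 * y 0 * z 0 + x 1 * y 1 * z 1 + x 2 * y 2 * z 2 -
      k / 2 * (x 0 * y 1 * z 2 + x 0 * y 2 * z 1 + x 1 * y 0 * z 2 + x 1 * y 2 * z 0 +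
        x 2 * y 0 * z 1 + x 2 * y 1 * z 0) := by
  apply mul_left_cancel₀ (show (6 : ℂ) ≠ 0 by norm_num)
  rw [polar (form_isHomogeneous k)]
  simp only [eval_form, Pi.add_apply]
  ring

/-- Twice the matrix of `T(x,·,·)` for the Hesse cubic. -/
def hMat (k : ℂ) (x : V3) : Matrix (Fin 3) (Fin 3) ℂ :=
  !![2 * x 0, -k * x 2, -k * x 1; -k * x 2, 2 * x 1, -k * x 0; -k * x 1, -k * x 0, 2 * x 2]

lemma dot_hMat (k : ℂ) (x y z : V3) :
    y ⬝ᵥ (hMat k x *ᵥ z) = 2 * tri (HesseCubic.form k) x y z := by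
  rw [tri_form]
  simp [hMat, Matrix.mulVec, dotProduct, Fin.sum_univ_three]
  ring

lemma det_hMat (k : ℂ) (x : V3) :
    (hMat k x).det = (8 - 8 * k ^ 3) * (x 0 * x 1 * x 2) -
      2 * k ^ 2 * eval x (HesseCubic.form k) := by
  rw [eval_form, Matrix.det_fin_three]
  simp [hMat]
  ring

lemma eq_zero_of_singular {k : ℂ} (hk : k ^ 3 ≠ 1) {x : V3}
    (h : ∀ y, tri (HesseCubic.form k) y x x = 0) : x = 0 := by
  have h0 := h (Pi.single 0 1)
  have h1 := h (Pi.single 1 1)
  have h2 := h (Pi.single 2 1)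
  simp [tri_form] at h0 h1 h2
  have e0 : x 0 ^ 2 = k * (x 1 * x 2) := by linear_combination h0
  have e1 : x 1 ^ 2 = k * (x 0 * x 2) := by linear_combination h1
  have e2 : x 2 ^ 2 = k * (x 0 * x 1) := by linear_combination h2
  have hp : x 0 * x 1 * x 2 = 0 := by
    have h3 : (x 0 * x 1 * x 2) ^ 2 * (1 - k ^ 3) = 0 := by
      have : x 0 ^ 2 * x 1 ^ 2 * x 2 ^ 2 =
          k * (x 1 * x 2) * (k * (x 0 * x 2)) * (k * (x 0 * x 1)) := by rw [e0, e1, e2]
      linear_combination this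
    exact eq_zero_of_pow_eq_zero
      ((mul_eq_zero.1 h3).resolve_right (sub_ne_zero.2 (Ne.symm hk)))
  funext i
  fin_cases i
  · exact eq_zero_of_pow_eq_zero (n := 3) (show x 0 ^ 3 = 0 by linear_combination x 0 * e0 + k * hp)
  · exact eq_zero_of_pow_eq_zero (n := 3) (show x 1 ^ 3 = 0 by linear_combination x 1 * e1 + k * hp)
  · exact eq_zero_of_pow_eq_zero (n := 3) (show x 2 ^ 3 = 0 by linear_combination x 2 * e2 + k * hp)

variable {f : MvPolynomial (Fin 3) ℂ}

lemma flex_rel (hf : f.IsHomogeneous 3) {v w : V3}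
    (h : ∀ t : ℂ, eval (v + t • w) f = t ^ 3 * eval w f) :
    tri f v v w = 0 ∧ tri f v w w = 0 := by
  have e : ∀ t : ℂ, tri f v v v + 3 * t * tri f w v v + 3 * t ^ 2 * tri f w w v = 0 := fun t => by
    have := h t
    rw [eval_add_smul hf, eval_eq_tri hf w] at this
    linear_combination this
  have e0 := e 0
  have e1 := e 1
  have e2 := e (-1)
  rw [tri_swap13 f v v w, tri_swap13 f v w w]
  exact ⟨by linear_combination (1/6 : ℂ) * e1 - (1/6 : ℂ) * e2,
    by linear_combination (1/6 : ℂ) * e1 + (1/6 : ℂ) * e2 - (1/3 : ℂ) * e0⟩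

lemma li_of_injective {L : V3 →ₗ[ℂ] V3} (hL : Function.Injective L) {a b : V3}
    (h : LinearIndependent ℂ ![a, b]) : LinearIndependent ℂ ![L a, L b] := by
  rw [LinearIndependent.pair_iff] at h ⊢
  intro s t hst
  exact h s t (hL (by simpa using hst))

lemma span_three {v w z : V3} (hli : LinearIndependent ℂ ![v, w, z]) (y : V3) :
    ∃ r s t : ℂ, y = r • v + s • w + t • z := by
  have hy : y ∈ Submodule.span ℂ (Set.range ![v, w, z]) := by
    rw [hli.span_eq_top_of_card_eq_finrank (by simp)]; trivial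
  rw [Submodule.mem_span_range_iff_exists_fun] at hy
  obtain ⟨c, rfl⟩ := hy
  exact ⟨c 0, c 1, c 2, by simp [Fin.sum_univ_three]⟩

lemma li_three {v w z : V3} {φ : V3 →ₗ[ℂ] ℂ} (hvw : LinearIndependent ℂ ![v, w])
    (hv : φ v = 0) (hw : φ w = 0) (hz : φ z ≠ 0) : LinearIndependent ℂ ![v, w, z] := by
  rw [LinearIndependent.pair_iff] at hvw
  rw [Fintype.linearIndependent_iff]
  intro g hg
  simp only [Fin.sum_univ_three, Matrix.cons_val_zero, Matrix.cons_val_one, Matrix.cons_val] at hg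
  have g2 : g 2 = 0 := by
    have := congrArg φ hg
    simpa [hv, hw, hz] using this
  rw [g2, zero_smul, add_zero] at hg
  obtain ⟨g0, g1⟩ := hvw _ _ hg
  intro i; fin_cases i <;> assumption

theorem flex_form_iff {k : ℂ} (hk : k ^ 3 ≠ 1) {v : V3} (hv : v ≠ 0)
    (hCv : eval v (HesseCubic.form k) = 0) :
    IsFlex (HesseCubic.form k) v ↔
      ∃ γ c : ℂ, γ ^ 3 = 1 ∧ (v = c • ![0, 1, -γ] ∨ v = c • ![-γ, 0, 1] ∨ v = c • ![1, -γ, 0]) := by
  have hf := form_isHomogeneous k
  constructor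
  · rintro ⟨w, hli, hw⟩
    obtain ⟨h1, h2⟩ := flex_rel hf hw
    obtain ⟨z, hz⟩ : ∃ z, tri (HesseCubic.form k) v v z ≠ 0 := by
      by_contra! h0
      exact hv (eq_zero_of_singular hk fun y => by rw [tri_rot]; exact h0 y)
    have hvvv := (eval_eq_tri hf v).symm.trans hCv
    have hli3 := li_three hli hvvv h1 hz
    have hu : tri (HesseCubic.form k) v w z • v - tri (HesseCubic.form k) v v z • w ≠ 0 := by
      intro h0
      rw [sub_eq_add_neg, ← neg_smul] at h0
      exact hz (neg_eq_zero.1 ((LinearIndependent.pair_iff.1 hli) _ _ h0).2)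
    have hdet : (hMat k v).det = 0 := by
      refine Matrix.exists_mulVec_eq_zero_iff.1 ⟨_, hu, dotProduct_eq_zero _ fun y => ?_⟩
      rw [dotProduct_comm, dot_hMat, tri_swap23]
      obtain ⟨r, s, t, rfl⟩ := span_three hli3 y
      simp only [map_sub, map_smul, map_add, LinearMap.sub_apply, LinearMap.add_apply,
        LinearMap.smul_apply, smul_eq_mul, tri_swap23 _ v w v, hvvv, h1, h2]
      ring
    rw [det_hMat, hCv, mul_zero, sub_zero] at hdet
    have hp := (mul_eq_zero.1 hdet).resolve_left fun h => hk (by linear_combination (-1/8 : ℂ) * h)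
    rw [eval_form, hp, mul_zero, sub_zero] at hCv
    have key : ∀ a b : ℂ, a ^ 3 + b ^ 3 = 0 → (a = 0 → b = 0) ∧ (a ≠ 0 → (-b / a) ^ 3 = 1) := by
      intro a b h
      refine ⟨fun ha => eq_zero_of_pow_eq_zero (n := 3) (by subst ha; simpa using h), fun ha => ?_⟩
      rw [div_pow, div_eq_one_iff_eq (pow_ne_zero 3 ha)]
      linear_combination -h
    rcases mul_eq_zero.1 hp with h | h
    · rcases mul_eq_zero.1 h with h | h
      · obtain ⟨k1, k2⟩ := key (v 1) (v 2) (by rw [h] at hCv; linear_combination hCv)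
        have hne : v 1 ≠ 0 := fun h' => hv (funext fun i => by fin_cases i <;> simp [h, h', k1 h'])
        refine ⟨-v 2 / v 1, v 1, k2 hne, Or.inl (funext fun i => ?_)⟩
        fin_cases i <;> simp [h, neg_div] <;> field_simp
      · obtain ⟨k1, k2⟩ := key (v 2) (v 0) (by rw [h] at hCv; linear_combination hCv)
        have hne : v 2 ≠ 0 := fun h' => hv (funext fun i => by fin_cases i <;> simp [h, h', k1 h'])
        refine ⟨-v 0 / v 2, v 2, k2 hne, Or.inr (Or.inl (funext fun i => ?_))⟩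
        fin_cases i <;> simp [h, neg_div] <;> field_simp
    · obtain ⟨k1, k2⟩ := key (v 0) (v 1) (by rw [h] at hCv; linear_combination hCv)
      have hne : v 0 ≠ 0 := fun h' => hv (funext fun i => by fin_cases i <;> simp [h, h', k1 h'])
      refine ⟨-v 1 / v 0, v 0, k2 hne, Or.inr (Or.inr (funext fun i => ?_))⟩
      fin_cases i <;> simp [h, neg_div] <;> field_simp
  · rintro ⟨γ, c, hγ, h⟩
    rcases h with rfl | rfl | rfl
    · refine ⟨![1, -(k * γ), 0], ?_, fun t => ?_⟩
      · rw [LinearIndependent.pair_iff' hv]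
        intro a ha
        simpa using congrFun ha 0
      · simp [eval_form]
        linear_combination -(c ^ 3) * hγ
    · refine ⟨![0, 1, -(k * γ)], ?_, fun t => ?_⟩
      · rw [LinearIndependent.pair_iff' hv]
        intro a ha
        simpa using congrFun ha 1
      · simp [eval_form]
        linear_combination -(c ^ 3) * hγ
    · refine ⟨![-(k * γ), 0, 1], ?_, fun t => ?_⟩
      · rw [LinearIndependent.pair_iff' hv]
        intro a ha
        simpa using congrFun ha 2
      · simp [eval_form]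
        linear_combination -(c ^ 3) * hγ

lemma exists_omega : ∃ ω : ℂ, ω ^ 2 + ω + 1 = 0 := by
  obtain ⟨s, hs⟩ := IsAlgClosed.exists_pow_nat_eq (-3 : ℂ) zero_lt_two
  exact ⟨(-1 + s) / 2, by linear_combination (1/4 : ℂ) * hs⟩

lemma exists_flex (hf : f.IsHomogeneous 3) (hsm : IsSmooth3 f) :
    ∃ v w : V3, LinearIndependent ℂ ![v, w] ∧ tri f v v v = 0 ∧ tri f v v w = 0 ∧ tri f v w w = 0 := by
  let H : Matrix (Fin 3) (Fin 3) (MvPolynomial (Fin 3) ℂ) :=
    Matrix.of fun i j => pderiv i (pderiv j f)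
  have hdet0 : eval (0 : V3) H.det = 0 := by
    rw [RingHom.map_det]
    convert Matrix.det_zero (R := ℂ) (n := Fin 3)
    ext i j
    exact H29Ci.eval_zero_of_isHomogeneous ((hf.pderiv (i := j)).pderiv (i := i)) (by norm_num)
  obtain ⟨v, hv, hzero⟩ := H29Ci.exists_ne_zero_common_zero ![f, H.det]
    (fun ρ => by
      fin_cases ρ
      · exact H29Ci.eval_zero_of_isHomogeneous hf (by norm_num)
      · exact hdet0)
    (show 2 < 3 by norm_num)
  have hfv : eval v f = 0 := hzero 0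
  have hHv : eval v H.det = 0 := hzero 1
  rw [RingHom.map_det] at hHv
  obtain ⟨u, hu, hMu⟩ := Matrix.exists_mulVec_eq_zero_iff.2 hHv
  have hT : ∀ x, tri f v x u = 0 := by
    intro x
    have h1 : ∀ i j, eval v (pderiv i (pderiv j f)) = 6 * tri f v (Pi.single i 1) (Pi.single j 1) := by
      intro i j
      have := euler_eval ((hf.pderiv (i := j)).pderiv (i := i)) v
      rw [show ((3 - 1 - 1 : ℕ) : ℂ) = 1 by norm_num, one_mul] at this
      rw [← this, tri_apply, Finset.mul_sum]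
      refine Finset.sum_congr rfl fun l _ => ?_
      rw [eval_pderiv3 hf]
      simp [Pi.single_apply]
      ring
    have h2 : ∀ i, tri f v (Pi.single i 1) u = 0 := by
      intro i
      have h3 := congrFun hMu i
      simp only [Matrix.mulVec, dotProduct, RingHom.mapMatrix_apply, Matrix.map_apply, H,
        Matrix.of_apply, h1, Pi.zero_apply, mul_assoc, ← Finset.mul_sum] at h3
      rw [pi_eq_sum_univ' u]
      simp only [map_sum, map_smul, smul_eq_mul]
      rw [← (mul_eq_zero.1 h3).resolve_left (by norm_num)]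
      exact Finset.sum_congr rfl fun _ _ => mul_comm _ _
    rw [pi_eq_sum_univ' x]
    simp only [map_sum, map_smul, LinearMap.sum_apply, LinearMap.smul_apply, h2, smul_zero,
      Finset.sum_const_zero]
  refine ⟨v, u, ?_, (eval_eq_tri hf v).symm.trans hfv, hT v, hT u⟩
  rw [LinearIndependent.pair_iff' hv]
  intro a ha
  obtain ⟨y, hy⟩ := exists_tri_ne_zero hf (hsm v hv hfv)
  have := hT y
  rw [← ha, map_smul, smul_eq_mul] at this
  rcases mul_eq_zero.1 this with h | h
  · exact hu (by rw [← ha, h, zero_smul])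
  · exact hy (by rw [tri_swap12]; exact h)

lemma exists_weier (hf : f.IsHomogeneous 3) (hsm : IsSmooth3 f) :
    ∃ (L : V3 →ₗ[ℂ] V3) (a g2 g1 g0 : ℂ), Function.Injective L ∧ a ≠ 0 ∧
      ∀ X : V3, eval (L X) f = a * (X 1 ^ 2 * X 2 -
        (X 0 ^ 3 + g2 * X 0 ^ 2 * X 2 + g1 * X 0 * X 2 ^ 2 + g0 * X 2 ^ 3)) := by
  obtain ⟨v, w, hli, h0, h1, h2⟩ := exists_flex hf hsm
  have hv : v ≠ 0 := hli.ne_zero 0
  obtain ⟨z, hz⟩ : ∃ z, tri f v v z ≠ 0 := by
    obtain ⟨z, hz⟩ := exists_tri_ne_zero hf (hsm v hv ((eval_eq_tri hf v).trans h0))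
    exact ⟨z, by rwa [tri_rot f z v v] at hz⟩
  have hli3 := li_three hli h0 h1 hz
  set b := tri f v v z with hb
  have ha : tri f w w w ≠ 0 := by
    intro ha
    obtain ⟨t, ht⟩ : ∃ t : ℂ, b * t ^ 2 + 2 * tri f z v w * t + tri f z w w = 0 := by
      obtain ⟨s, hs⟩ := IsAlgClosed.exists_pow_nat_eq
        (tri f z v w ^ 2 - b * tri f z w w) zero_lt_two
      refine ⟨(-tri f z v w + s) / b, ?_⟩
      field_simp
      linear_combination hs
    have hne : w + t • v ≠ 0 := fun h => by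
      have h' := (LinearIndependent.pair_iff.1 hli t 1 (by rw [one_smul, add_comm, h])).2
      exact one_ne_zero h'
    have key : ∀ y, tri f y (w + t • v) (w + t • v) = 0 := by
      intro y
      obtain ⟨r, s, u, rfl⟩ := span_three hli3 y
      simp only [map_add, map_smul, LinearMap.add_apply, LinearMap.smul_apply, smul_eq_mul,
        tri_swap23 f v w v, tri_rot f w v v, tri_rot f w v w, tri_rot f w w v, tri_swap23 f z w v,
        tri_rot f z v v, h0, h1, h2, ha, ← hb]
      linear_combination u * ht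
    obtain ⟨y, hy⟩ := exists_tri_ne_zero hf (hsm _ hne ((eval_eq_tri hf _).trans (key _)))
    exact hy (key y)
  set p := -tri f v w z / b with hp
  set q := -tri f v z z / (2 * b) with hq
  set w' := w + p • v
  set z' := z + q • v
  have e1 : tri f v v w' = 0 := by simp [w', h0, h1]
  have e2 : tri f v w' w' = 0 := by
    simp [w', h0, h1, h2, tri_swap23 f v w v]
  have e3 : tri f w' w' w' = tri f w w w := by
    simp only [w', map_add, map_smul, LinearMap.add_apply, LinearMap.smul_apply, smul_eq_mul,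
      tri_rot f w v v, tri_swap23 f v w v, tri_rot f w v w, tri_rot f w w v, h0, h1, h2]
    ring
  have e4 : tri f v v z' = b := by simp [z', h0, hb]
  have e5 : tri f v w' z' = 0 := by
    simp only [w', z', map_add, map_smul, LinearMap.add_apply, LinearMap.smul_apply, smul_eq_mul,
      tri_swap23 f v w v, h0, h1, ← hb, hp]
    field_simp
    ring
  have e6 : tri f v z' z' = 0 := by
    simp only [z', map_add, map_smul, LinearMap.add_apply, LinearMap.smul_apply, smul_eq_mul,
      tri_swap23 f v z v, h0, ← hb, hq]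
    field_simp
    ring
  obtain ⟨μ, hμ⟩ := IsAlgClosed.exists_pow_nat_eq (-tri f w w w / (3 * b)) zero_lt_two
  have hμ0 : μ ≠ 0 := by
    intro h
    rw [h, zero_pow two_ne_zero, eq_comm, div_eq_zero_iff] at hμ
    simp [ha] at hμ
    exact hz (hb.trans hμ)
  refine ⟨(LinearMap.proj 0).smulRight w' + (LinearMap.proj 1).smulRight (μ • v) +
      (LinearMap.proj 2).smulRight z', -tri f w w w,
    3 * tri f w' w' z' / tri f w w w, 3 * tri f w' z' z' / tri f w w w,
    tri f z' z' z' / tri f w w w, ?_, neg_ne_zero.2 ha, fun X => ?_⟩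
  · rw [← LinearMap.ker_eq_bot, eq_bot_iff]
    intro X hX
    have hX' : X 0 • w' + X 1 • μ • v + X 2 • z' = 0 := by simpa using hX
    have h3 := Fintype.linearIndependent_iff.1 hli3
      ![X 0 * p + X 1 * μ + X 2 * q, X 0, X 2] (by
        simp only [Fin.sum_univ_three, Matrix.cons_val_zero, Matrix.cons_val_one, Matrix.cons_val]
        rw [← hX']; simp only [w', z']; module)
    have hx0 : X 0 = 0 := h3 1
    have hx2 : X 2 = 0 := h3 2
    have hx1 : X 0 * p + X 1 * μ + X 2 * q = 0 := h3 0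
    rw [hx0, hx2] at hx1
    have hx1' : X 1 = 0 := by simpa [hμ0] using hx1
    rw [Submodule.mem_bot]
    funext i; fin_cases i <;> assumption
  · rw [eval_eq_tri hf]
    simp only [LinearMap.add_apply, LinearMap.coe_smulRight, LinearMap.coe_proj, Function.eval,
      map_add, map_smul, LinearMap.smul_apply, smul_eq_mul,
      tri_swap23 f v z' v, tri_swap23 f v w' v, tri_rot f w' v v, tri_rot f z' v v,
      tri_rot f w' v w', tri_rot f w' w' v, tri_rot f z' v z', tri_rot f z' z' v,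
      tri_swap23 f v z' w', tri_rot f w' z' v, tri_rot f z' v w', tri_rot f z' w' v,
      tri_rot f w' v z', tri_swap23 f w' z' w', tri_rot f z' w' w', tri_rot f z' z' w',
      tri_rot f z' w' z', h0, e1, e2, e3, e4, e5, e6]
    have hμ' : 3 * b * μ ^ 2 = -tri f w w w := by rw [hμ]; field_simp
    field_simp
    linear_combination X 1 ^ 2 * X 2 * hμ'

lemma hesse_of_map (hf : f.IsHomogeneous 3) (hsm : IsSmooth3 f) {L : V3 →ₗ[ℂ] V3}
    (hL : Function.Injective L) {k c : ℂ} (hc : c ≠ 0)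
    (h : ∀ X, eval (L X) f = c * eval X (HesseCubic.form k)) :
    ∃ (A : Matrix (Fin 3) (Fin 3) ℂ) (k c : ℂ), IsUnit A.det ∧ k ^ 3 ≠ 1 ∧ c ≠ 0 ∧
      aeval (fun i : Fin 3 => ∑ j : Fin 3, C (A i j) * X j) f = C c * HesseCubic.form k := by
  have hA : ∀ X, LinearMap.toMatrix' L *ᵥ X = L X := fun X => LinearMap.toMatrix'_mulVec L X
  refine ⟨LinearMap.toMatrix' L, k, c, ?_, fun hk => ?_, hc,
    (subst_eq_iff _ _ _ _).2 fun X => by rw [hA, h]⟩
  · rw [← Matrix.isUnit_iff_isUnit_det, ← Matrix.mulVec_injective_iff_isUnit]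
    intro X Y hXY
    exact hL (by simpa [hA] using hXY)
  · set q : V3 := ![k ^ 2, 1, 1]
    have hq0 : q ≠ 0 := fun h0 => by simpa [q] using congrFun h0 1
    have hT := fun x y z => tri_map hf (form_isHomogeneous k)
      (A := LinearMap.toMatrix' L) (fun X => by rw [hA, h]) x y z
    have hqq : ∀ y, tri (HesseCubic.form k) y q q = 0 := fun y => by
      rw [tri_form]; simp [q]; linear_combination (y 0 * k - y 1 - y 2) * hk
    have hLq : L q ≠ 0 := fun h0 => hq0 (hL (by rw [h0, map_zero]))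
    have hfq : eval (L q) f = 0 := by rw [h, eval_eq_tri (form_isHomogeneous k), hqq, mul_zero]
    obtain ⟨y, hy⟩ := exists_tri_ne_zero hf (hsm _ hLq hfq)
    obtain ⟨y', rfl⟩ := (LinearMap.injective_iff_surjective.1 hL) y
    apply hy
    rw [← hA q, ← hA y', hT, hqq, mul_zero]

theorem exists_hesse (hf : f.IsHomogeneous 3) (hsm : IsSmooth3 f) :
    ∃ (A : Matrix (Fin 3) (Fin 3) ℂ) (k c : ℂ), IsUnit A.det ∧ k ^ 3 ≠ 1 ∧ c ≠ 0 ∧
      aeval (fun i : Fin 3 => ∑ j : Fin 3, C (A i j) * X j) f = C c * HesseCubic.form k := by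
  obtain ⟨L, a, g2, g1, g0, hL, ha, hW⟩ := exists_weier hf hsm
  -- no double root
  have hnd : ∀ r : ℂ, r ^ 3 + g2 * r ^ 2 + g1 * r + g0 = 0 → 3 * r ^ 2 + 2 * g2 * r + g1 ≠ 0 := by
    intro r hr hr'
    set v : V3 := ![r, 0, 1]
    have hLv : L v ≠ 0 := fun h0 => by
      simpa [v] using congrFun (hL (h0.trans L.map_zero.symm) : v = 0) 2
    have hz : eval (L v) f = 0 := by rw [hW]; simp [v]; right; linear_combination -hr
    obtain ⟨y, hy⟩ := exists_tri_ne_zero hf (hsm _ hLv hz)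
    obtain ⟨Y, rfl⟩ := (LinearMap.injective_iff_surjective.1 hL) y
    apply hy
    have e : ∀ s : ℂ, eval (L v + s • L Y) f = a * ((s * Y 1) ^ 2 * (1 + s * Y 2) -
        ((r + s * Y 0) ^ 3 + g2 * (r + s * Y 0) ^ 2 * (1 + s * Y 2) +
          g1 * (r + s * Y 0) * (1 + s * Y 2) ^ 2 + g0 * (1 + s * Y 2) ^ 3)) := fun s => by
      rw [← map_smul, ← map_add, hW]; simp [v]
    have e1 := e 1
    have e2 := e (-1)
    have e3 := e 2
    rw [eval_add_smul hf] at e1 e2 e3
    rw [← eval_eq_tri hf, hz] at e1 e2 e3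
    linear_combination (1/3 : ℂ) * e1 - (1/9 : ℂ) * e2 - (1/18 : ℂ) * e3
      - a * (1/6 + Y 2) * hr - a * (1/3 : ℂ) * (Y 0 - r * Y 2) * hr'
  obtain ⟨x0, hx0⟩ := IsAlgClosed.exists_root
    (Polynomial.C (3 : ℂ) * Polynomial.X ^ 4 + (Polynomial.C (4 * g2) * Polynomial.X ^ 3 +
      Polynomial.C (6 * g1) * Polynomial.X ^ 2 + Polynomial.C (12 * g0) * Polynomial.X +
      Polynomial.C (4 * g0 * g2 - g1 ^ 2)))
    (by
      rw [Polynomial.degree_add_eq_left_of_degree_lt]
      · rw [Polynomial.degree_C_mul_X_pow 4 (by norm_num : (3 : ℂ) ≠ 0)]; decide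
      · rw [Polynomial.degree_C_mul_X_pow 4 (by norm_num : (3 : ℂ) ≠ 0)]
        exact lt_of_le_of_lt Polynomial.degree_cubic_le (by decide))
  simp only [Polynomial.IsRoot, Polynomial.eval_add, Polynomial.eval_mul, Polynomial.eval_C,
    Polynomial.eval_pow, Polynomial.eval_X] at hx0
  set h0 := x0 ^ 3 + g2 * x0 ^ 2 + g1 * x0 + g0 with eh0
  set h1 := 3 * x0 ^ 2 + 2 * g2 * x0 + g1 with eh1
  obtain ⟨y0, hy0⟩ := IsAlgClosed.exists_pow_nat_eq h0 zero_lt_two
  have hy00 : y0 ≠ 0 := fun h => by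
    rw [h, zero_pow two_ne_zero] at hy0
    have hsq : h1 ^ 2 = 0 := by
      linear_combination (norm := skip) -hx0 - (4 * (3 * x0 + g2)) * hy0
      rw [eh0, eh1]; ring
    exact hnd x0 hy0.symm (eq_zero_of_pow_eq_zero hsq)
  set lam := h1 / (2 * y0) with hlam
  have hl1 : 2 * y0 * lam = h1 := by rw [hlam]; field_simp
  have hl2 : lam ^ 2 = 3 * x0 + g2 := by
    have : (4 * h0) * lam ^ 2 = (4 * h0) * (3 * x0 + g2) := by
      linear_combination (norm := skip) -hx0 + (2 * y0 * lam + h1) * hl1 - 4 * lam ^ 2 * hy0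
      rw [eh0, eh1]; ring
    refine mul_left_cancel₀ (mul_ne_zero (by norm_num) ?_) this
    rw [← hy0]; exact pow_ne_zero 2 hy00
  -- after translation
  have hW' : ∀ u Y t : ℂ, eval (L ![u + x0 * t, Y, t]) f =
      a * ((Y - lam * u - y0 * t) * (Y + lam * u + y0 * t) * t - u ^ 3) := by
    intro u Y t
    rw [hW]
    simp only [Matrix.cons_val_zero, Matrix.cons_val_one, Matrix.cons_val]
    linear_combination (norm := skip)
      a * t * u ^ 2 * hl2 + a * u * t ^ 2 * hl1 + a * t ^ 3 * hy0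
    rw [eh0, eh1]; ring
  obtain ⟨ω, hω⟩ := exists_omega
  have hω3 : ω ^ 3 = 1 := by linear_combination (ω - 1) * hω
  have hωne : ω - ω ^ 2 ≠ 0 := fun h => by
    have h1 : 2 * ω + 1 = 0 := by linear_combination h + hω
    have : (3 : ℂ) = 0 := by linear_combination 4 * hω - (2 * ω + 1) * h1
    norm_num at this
  by_cases hl : lam = 0
  · obtain ⟨σ, hσ⟩ := IsAlgClosed.exists_pow_nat_eq (6 * y0 * (ω - ω ^ 2)) (show 0 < 3 by norm_num)
    have hσ0 : σ ≠ 0 := fun h => by
      rw [h, zero_pow (by norm_num)] at hσ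
      exact mul_ne_zero (mul_ne_zero (by norm_num) hy00) hωne hσ.symm
    let Q : V3 →ₗ[ℂ] ℂ := (σ / (ω ^ 2 - ω)) • (pr 0 + pr 1)
    let P : V3 →ₗ[ℂ] ℂ := σ • pr 0 + ω • Q
    let T : V3 →ₗ[ℂ] ℂ := (1 / (2 * y0)) • (P + Q)
    let U : V3 →ₗ[ℂ] ℂ := -pr 2
    let Y : V3 →ₗ[ℂ] ℂ := (1 / 2 : ℂ) • (P - Q)
    let M : V3 →ₗ[ℂ] V3 := LinearMap.pi (![U + x0 • T, Y, T] : Fin 3 → (V3 →ₗ[ℂ] ℂ))
    have hM : ∀ X, M X = ![U X + x0 * T X, Y X, T X] := fun X => by
      funext i; fin_cases i <;> simp [M]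
    refine hesse_of_map hf hsm (L := L.comp M) (k := 0) ?_ ha (fun X => ?_)
    · refine hL.comp ?_
      rw [← LinearMap.ker_eq_bot, eq_bot_iff]
      intro X hX
      have hX' : M X = 0 := hX
      rw [hM] at hX'
      have hT : T X = 0 := by simpa using congrFun hX' 2
      have hY : Y X = 0 := by simpa using congrFun hX' 1
      have hU : U X = 0 := by simpa [hT] using congrFun hX' 0
      have hPQ : P X + Q X = 0 :=
        (mul_eq_zero.1 (show (1 / (2 * y0)) * (P X + Q X) = 0 from hT)).resolve_left (by simp [hy00])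
      have hP : P X - Q X = 0 := by simpa [Y] using hY
      have hP0 : P X = 0 := by linear_combination (1/2 : ℂ) * hPQ + (1/2 : ℂ) * hP
      have hQ0 : Q X = 0 := by linear_combination (1/2 : ℂ) * hPQ - (1/2 : ℂ) * hP
      have hne : ω ^ 2 - ω ≠ 0 := fun h => hωne (by linear_combination -h)
      have h0X : X 0 = 0 := by simpa [P, hQ0, hσ0] using hP0
      have h1X : X 1 = 0 := by simpa [Q, h0X, hσ0, hne] using hQ0
      have h2X : X 2 = 0 := by simpa [U] using hU
      rw [Submodule.mem_bot]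
      funext i; fin_cases i <;> assumption
    · rw [LinearMap.comp_apply, hM, hW', eval_form, hl]
      have hne : ω ^ 2 - ω ≠ 0 := fun h => hωne (by linear_combination -h)
      have hPX : P X - ω * Q X = σ * X 0 := by simp [P]
      have hQX : (ω ^ 2 - ω) * Q X = σ * (X 0 + X 1) := by
        show (ω ^ 2 - ω) * (σ / (ω ^ 2 - ω) * (X 0 + X 1)) = _
        rw [← mul_assoc, mul_div_cancel₀ _ hne]
      have hP2 : P X - ω ^ 2 * Q X = -(σ * X 1) := by linear_combination hPX - hQX
      have key : (σ * X 0) ^ 3 - (-(σ * X 1)) ^ 3 =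
          -3 * (ω - ω ^ 2) * (P X * Q X * (P X + Q X)) := by
        rw [← hPX, ← hP2]
        linear_combination (-3 * ω * P X * Q X ^ 2 + ω ^ 3 * Q X ^ 3) * hω3
      have eY : Y X = (P X - Q X) / 2 := by simp [Y]; ring
      have eT : T X = (P X + Q X) / (2 * y0) := by simp [T]; ring
      have eU : U X = -X 2 := by simp [U]
      have f1 : Y X - 0 * U X - y0 * T X = -Q X := by rw [eY, eT]; field_simp; ring
      have f2 : Y X + 0 * U X + y0 * T X = P X := by rw [eY, eT]; field_simp; ring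
      have hk : P X * Q X * (P X + Q X) = -2 * y0 * (X 0 ^ 3 + X 1 ^ 3) :=
        mul_left_cancel₀ hωne (by
          linear_combination (1/3 : ℂ) * key - (1/3 : ℂ) * (X 0 ^ 3 + X 1 ^ 3) * hσ)
      have hk2 : -Q X * P X * T X = X 0 ^ 3 + X 1 ^ 3 := by
        rw [eT, mul_div_assoc', div_eq_iff (mul_ne_zero two_ne_zero hy00)]
        linear_combination -hk
      rw [f1, f2, eU]
      linear_combination a * hk2
  · obtain ⟨α, hα⟩ : ∃ α : ℂ, α = 1 / (8 * lam ^ 3) := ⟨_, rfl⟩
    obtain ⟨β, hβ⟩ : ∃ β : ℂ, β = 1 / (2 * y0) := ⟨_, rfl⟩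
    have hβ0 : β ≠ 0 := by rw [hβ]; simp [hy00]
    let P : V3 →ₗ[ℂ] ℂ := pr 0 + pr 1 + pr 2
    let Q : V3 →ₗ[ℂ] ℂ := pr 0 + ω • pr 1 + ω ^ 2 • pr 2
    let R : V3 →ₗ[ℂ] ℂ := pr 0 + ω ^ 2 • pr 1 + ω • pr 2
    let T : V3 →ₗ[ℂ] ℂ := (1 / (2 * y0)) • R
    let U : V3 →ₗ[ℂ] ℂ := (-1 / (2 * lam)) • (P + Q + R)
    let Y : V3 →ₗ[ℂ] ℂ := (1 / 2 : ℂ) • (P - Q)
    let M : V3 →ₗ[ℂ] V3 := LinearMap.pi (![U + x0 • T, Y, T] : Fin 3 → (V3 →ₗ[ℂ] ℂ))
    have hM : ∀ X, M X = ![U X + x0 * T X, Y X, T X] := fun X => by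
      funext i; fin_cases i <;> simp [M]
    have hMinj : Function.Injective M := by
      rw [← LinearMap.ker_eq_bot, eq_bot_iff]
      intro X hX
      have hX' : M X = 0 := hX
      rw [hM] at hX'
      have hT : T X = 0 := by simpa using congrFun hX' 2
      have hY : Y X = 0 := by simpa using congrFun hX' 1
      have hU : U X = 0 := by simpa [hT] using congrFun hX' 0
      have hR0 : R X = 0 := by simpa [T, hy00] using hT
      have hS : P X + Q X + R X = 0 :=
        (mul_eq_zero.1 (show (-1 / (2 * lam)) * (P X + Q X + R X) = 0 from hU)).resolve_left (by simp [hl])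
      have hP : P X - Q X = 0 := by simpa [Y] using hY
      have a0 : P X = 0 := by linear_combination (1/2 : ℂ) * hS + (1/2 : ℂ) * hP - (1/2 : ℂ) * hR0
      have a1 : Q X = 0 := by linear_combination a0 - hP
      simp [P, Q, R] at a0 a1 hR0
      have h0X : X 0 = 0 := by
        linear_combination (1/3 : ℂ) * a0 + (1/3 : ℂ) * a1 + (1/3 : ℂ) * hR0
          - (1/3 : ℂ) * (X 1 + X 2) * hω
      have h12 : (ω - ω ^ 2) * (X 1 - X 2) = 0 := by linear_combination a1 - hR0
      have h12' : X 1 - X 2 = 0 := (mul_eq_zero.1 h12).resolve_left hωne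
      have h1X : X 1 = 0 := by linear_combination (1/2 : ℂ) * a0 + (1/2 : ℂ) * h12' - (1/2 : ℂ) * h0X
      have h2X : X 2 = 0 := by linear_combination a0 - h0X - h1X
      rw [Submodule.mem_bot]
      funext i; fin_cases i <;> assumption
    have hLM : ∀ X, eval (L (M X)) f =
        a * (27 * α * X 0 ^ 3 -
          β * (X 0 ^ 3 + X 1 ^ 3 + X 2 ^ 3 - 3 * (X 0 * X 1 * X 2))) := by
      intro X
      rw [hM, hW']
      have hS : P X + Q X + R X = 3 * X 0 := by
        simp [P, Q, R]; linear_combination (X 1 + X 2) * hω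
      have hPQR : P X * Q X * R X =
          X 0 ^ 3 + X 1 ^ 3 + X 2 ^ 3 - 3 * (X 0 * X 1 * X 2) := by
        simp [P, Q, R]
        linear_combination (X 0 + X 1 + X 2) * (X 0 * X 1 + X 0 * X 2 + (ω - 1) * X 1 ^ 2 +
          (ω - 1) * X 2 ^ 2 + (ω ^ 2 - ω + 1) * (X 1 * X 2)) * hω
      have eU : U X = -(3 * X 0) / (2 * lam) := by simp [U, ← hS]; ring
      have eY : Y X = (P X - Q X) / 2 := by simp [Y]; ring
      have eT : T X = R X / (2 * y0) := by simp [T]; ring
      have eLU : lam * U X + y0 * T X = -(P X + Q X) / 2 := by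
        rw [eU, eT]; field_simp; linear_combination hS
      have f1 : Y X - lam * U X - y0 * T X = P X := by linear_combination eY - eLU
      have f2 : Y X + lam * U X + y0 * T X = -Q X := by linear_combination eY + eLU
      rw [f1, f2, eT, eU, hα, hβ, ← hPQR]
      field_simp
      ring
    have hne : 27 * α - β ≠ 0 := by
      intro h0
      have hM1 : L (M ![1, 0, 0]) ≠ 0 := fun h => by
        simpa using congrFun (hMinj (hL (h.trans (by simp))) : (![1, 0, 0] : V3) = 0) 0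
      have hz : eval (L (M ![1, 0, 0])) f = 0 := by
        rw [hLM]; simp; right; linear_combination h0
      obtain ⟨y, hy⟩ := exists_tri_ne_zero hf (hsm _ hM1 hz)
      obtain ⟨Z, rfl⟩ := ((LinearMap.injective_iff_surjective (f := L.comp M)).1 (hL.comp hMinj)) y
      apply hy
      have e : ∀ s : ℂ, eval (L (M ![1, 0, 0]) + s • (L.comp M) Z) f =
          a * (27 * α * (1 + s * Z 0) ^ 3 - β * ((1 + s * Z 0) ^ 3 + (s * Z 1) ^ 3 + (s * Z 2) ^ 3 -
            3 * ((1 + s * Z 0) * (s * Z 1) * (s * Z 2)))) := fun s => by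
        rw [LinearMap.comp_apply, ← map_smul, ← map_add, ← map_smul, ← map_add, hLM]; simp
      have e1 := e 1
      have e2 := e (-1)
      have e3 := e 2
      rw [eval_add_smul hf] at e1 e2 e3
      rw [← eval_eq_tri hf (L (M ![1, 0, 0])), hz] at e1 e2 e3
      linear_combination (1/3 : ℂ) * e1 - (1/9 : ℂ) * e2 - (1/18 : ℂ) * e3 +
        a * ((1 / 6 : ℂ) + Z 0) * h0
    obtain ⟨s, hs⟩ := IsAlgClosed.exists_pow_nat_eq (-β / (27 * α - β)) (show 0 < 3 by norm_num)
    have hs0 : s ≠ 0 := fun h => by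
      rw [h, zero_pow (by norm_num), eq_comm, div_eq_zero_iff] at hs
      simp [hβ0, hne] at hs
    let D : V3 →ₗ[ℂ] V3 := LinearMap.pi (![s • pr 0, pr 1, pr 2] : Fin 3 → (V3 →ₗ[ℂ] ℂ))
    have hD : ∀ X, D X = ![s * X 0, X 1, X 2] := fun X => by funext i; fin_cases i <;> simp [D]
    refine hesse_of_map hf hsm (L := L.comp (M.comp D)) (k := s) (c := a * -β) ?_
      (mul_ne_zero ha (neg_ne_zero.2 hβ0)) (fun X => ?_)
    · refine hL.comp (hMinj.comp ?_)
      rw [← LinearMap.ker_eq_bot, eq_bot_iff]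
      intro X hX
      have hX' : D X = 0 := hX
      rw [hD] at hX'
      have b0 : X 0 = 0 := by simpa [hs0] using congrFun hX' 0
      have b1 : X 1 = 0 := by simpa using congrFun hX' 1
      have b2 : X 2 = 0 := by simpa using congrFun hX' 2
      rw [Submodule.mem_bot]
      funext i; fin_cases i <;> assumption
    · rw [LinearMap.comp_apply, LinearMap.comp_apply, hD, hLM, eval_form]
      simp only [Matrix.cons_val_zero, Matrix.cons_val_one, Matrix.cons_val]
      have hs' : (27 * α - β) * s ^ 3 = -β := by rw [hs]; field_simp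
      linear_combination a * X 0 ^ 3 * hs'

end Groth.Agent.H25Cubic
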