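import Groth.Agent.H25Cubic.Hesse
import Mathlib.GroupTheory.Perm.Sign
import Mathlib.LinearAlgebra.Matrix.Determinant.Basic

/-! The automorphism group of a general Hesse cubic. -/

set_option autoImplicit false

namespace Groth.Agent.H25Cubic
open MvPolynomial Matrix

lemma tri_hMat_map {k c : ℂ} {A : Matrix (Fin 3) (Fin 3) ℂ}
    (h : ∀ x, eval (A *ᵥ x) (HesseCubic.form k) = c * eval x (HesseCubic.form k)) (x : V3) :
    Aᵀ * hMat k (A *ᵥ x) * A = c • hMat k x := by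
  have key : ∀ y z : V3, y ⬝ᵥ ((Aᵀ * hMat k (A *ᵥ x) * A) *ᵥ z) = y ⬝ᵥ ((c • hMat k x) *ᵥ z) := by
    intro y z
    rw [Matrix.mul_assoc, ← Matrix.mulVec_mulVec, ← Matrix.mulVec_mulVec, Matrix.dotProduct_mulVec,
      Matrix.vecMul_transpose, dot_hMat, Matrix.smul_mulVec, dotProduct_smul, dot_hMat,
      tri_map (form_isHomogeneous k) (form_isHomogeneous k) h, smul_eq_mul]
    ring
  ext i j
  have := key (Pi.single i 1) (Pi.single j 1)
  rw [single_one_dotProduct, single_one_dotProduct, Matrix.mulVec_single_one,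
    Matrix.mulVec_single_one] at this
  exact this

lemma det_hMat_map {k c : ℂ} {A : Matrix (Fin 3) (Fin 3) ℂ} (hA : A.det = 1)
    (h : ∀ x, eval (A *ᵥ x) (HesseCubic.form k) = c * eval x (HesseCubic.form k)) (x : V3) :
    (hMat k (A *ᵥ x)).det = c ^ 3 * (hMat k x).det := by
  have := congrArg Matrix.det (tri_hMat_map h x)
  rw [Matrix.det_mul, Matrix.det_mul, Matrix.det_transpose, hA, Matrix.det_smul, Fintype.card_fin,
    one_mul, mul_one] at this
  exact this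

/-- The condition on `t = c²` forced by the covariance of the Hessian. -/
def G (k t : ℂ) : ℂ := (t * (8 - 2 * k ^ 3) - 6 * k ^ 3) ^ 3 + 216 * k ^ 6 * (1 - t) ^ 3

lemma pmap {k c : ℂ} {A : Matrix (Fin 3) (Fin 3) ℂ} (hA : A.det = 1)
    (h : ∀ x, eval (A *ᵥ x) (HesseCubic.form k) = c * eval x (HesseCubic.form k)) (x : V3) :
    (8 - 8 * k ^ 3) * ((A *ᵥ x) 0 * (A *ᵥ x) 1 * (A *ᵥ x) 2) =
      c ^ 3 * (8 - 8 * k ^ 3) * (x 0 * x 1 * x 2) +
        2 * k ^ 2 * (c - c ^ 3) * eval x (HesseCubic.form k) := by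
  have h1 := det_hMat_map hA h x
  rw [det_hMat, det_hMat, h] at h1
  linear_combination h1

lemma c_sq {k c : ℂ} {A : Matrix (Fin 3) (Fin 3) ℂ} (hk : k ^ 3 ≠ 1) (hk0 : k ≠ 0)
    (hA : A.det = 1) (h : ∀ x, eval (A *ᵥ x) (HesseCubic.form k) = c * eval x (HesseCubic.form k)) :
    c ≠ 0 ∧ (c ^ 2 = 1 ∨ G k (c ^ 2) = 0) := by
  have ha : (8 - 8 * k ^ 3 : ℂ) ≠ 0 := fun h0 => hk (by linear_combination (-1/8 : ℂ) * h0)
  have hinv : IsUnit A.det := by rw [hA]; exact isUnit_one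
  have hc : c ≠ 0 := by
    intro h0
    have := h (A⁻¹ *ᵥ ![1, 0, 0])
    rw [Matrix.mulVec_mulVec, Matrix.mul_nonsing_inv _ hinv, Matrix.one_mulVec, h0, zero_mul,
      eval_form] at this
    simp at this
  refine ⟨hc, or_iff_not_imp_left.2 fun hc2 => ?_⟩
  obtain ⟨b, hb⟩ : ∃ b : ℂ, b = 2 * k ^ 2 * (c - c ^ 3) := ⟨_, rfl⟩
  have hb0 : b ≠ 0 := by
    rw [hb]
    refine mul_ne_zero (mul_ne_zero two_ne_zero (pow_ne_zero 2 hk0)) ?_
    rw [show c - c ^ 3 = c * (1 - c ^ 2) by ring]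
    exact mul_ne_zero hc (sub_ne_zero.2 (Ne.symm hc2))
  obtain ⟨k', hk'⟩ : ∃ k' : ℂ, k' = k - c ^ 3 * (8 - 8 * k ^ 3) / (3 * b) := ⟨_, rfl⟩
  have hk'b : 3 * b * (k - k') = c ^ 3 * (8 - 8 * k ^ 3) := by rw [hk']; field_simp; ring
  have hq : ∀ x : V3, b * eval x (HesseCubic.form k') =
      (8 - 8 * k ^ 3) * ((A *ᵥ x) 0 * (A *ᵥ x) 1 * (A *ᵥ x) 2) := by
    intro x
    rw [pmap hA h, ← hb, eval_form, eval_form]
    linear_combination (x 0 * x 1 * x 2) * hk'b
  -- the form `k'` is singular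
  set v := A⁻¹ *ᵥ ![0, 0, 1]
  have hAv : A *ᵥ v = ![0, 0, 1] := by
    simp [v, Matrix.mulVec_mulVec, Matrix.mul_nonsing_inv _ hinv]
  have hk'1 : k' ^ 3 = 1 := by
    by_contra hne
    have hz : v = 0 := eq_zero_of_singular hne fun y => by
      obtain ⟨U, hU⟩ : ∃ U : ℂ, U = (8 - 8 * k ^ 3) * ((A *ᵥ y) 0 * (A *ᵥ y) 1) := ⟨_, rfl⟩
      have e : ∀ s : ℂ, b * eval (v + s • y) (HesseCubic.form k') =
          s ^ 2 * (U + s * (U * (A *ᵥ y) 2)) := fun s => by
        rw [hq, Matrix.mulVec_add, Matrix.mulVec_smul, hAv, hU]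
        simp
        ring
      have e0 := e 0
      have e1 := e 1
      have e2 := e (-1)
      have e3 := e 2
      rw [eval_add_smul (form_isHomogeneous k')] at e0 e1 e2 e3
      refine (mul_eq_zero.1 (?_ : b * tri (HesseCubic.form k') y v v = 0)).resolve_left hb0
      linear_combination (1/3 : ℂ) * e1 - (1/9 : ℂ) * e2 - (1/18 : ℂ) * e3 - (1/6 : ℂ) * e0
    have := hAv
    rw [hz, Matrix.mulVec_zero] at this
    simpa using congrFun this 2
  -- eliminate `k'`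
  have h3 : 3 * b * k' = 3 * b * k - c ^ 3 * (8 - 8 * k ^ 3) := by linear_combination -hk'b
  have h4 : (3 * b * k - c ^ 3 * (8 - 8 * k ^ 3)) ^ 3 = 27 * b ^ 3 := by
    rw [← h3, mul_pow, hk'1]; ring
  have h5 : c ^ 3 * G k (c ^ 2) = 0 := by
    rw [G]
    linear_combination (norm := skip) -h4
    rw [hb]; ring
  exact (mul_eq_zero.1 h5).resolve_left (pow_ne_zero 3 hc)

lemma exists_row {A : Matrix (Fin 3) (Fin 3) ℂ} {c : ℂ}
    (h : ∀ x : V3, (A *ᵥ x) 0 * (A *ᵥ x) 1 * (A *ᵥ x) 2 = c * (x 0 * x 1 * x 2)) (j : Fin 3) :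
    ∃ i, ∀ l, l ≠ j → A i l = 0 := by
  obtain ⟨a, b, hab, hall⟩ : ∃ a b : Fin 3, (∀ s : ℂ, ∃ l, ((Pi.single a 1 + s • Pi.single b 1 : V3)) l = 0) ∧
      ∀ l, l ≠ j → l = a ∨ l = b := by
    refine ⟨j + 1, j + 2, fun s => ⟨j, ?_⟩, ?_⟩
    · fin_cases j <;> simp
    · fin_cases j <;> decide
  have hprod : (Polynomial.C (A 0 a) + Polynomial.C (A 0 b) * Polynomial.X) *
      (Polynomial.C (A 1 a) + Polynomial.C (A 1 b) * Polynomial.X) *
      (Polynomial.C (A 2 a) + Polynomial.C (A 2 b) * Polynomial.X) = 0 := by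
    refine Polynomial.funext fun s => ?_
    obtain ⟨l, hl⟩ := hab s
    have e := h (Pi.single a 1 + s • Pi.single b 1)
    have hp : ∀ y : V3, y l = 0 → y 0 * y 1 * y 2 = 0 := fun y hy => by
      fin_cases l <;> simp at hy <;> simp [hy]
    rw [hp _ hl, mul_zero, Matrix.mulVec_add, Matrix.mulVec_smul, Matrix.mulVec_single_one,
      Matrix.mulVec_single_one] at e
    simp at e ⊢
    rcases e with (e | e) | e
    · left; left; linear_combination e
    · left; right; linear_combination e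
    · right; linear_combination e
  have key : ∀ i, Polynomial.C (A i a) + Polynomial.C (A i b) * Polynomial.X = 0 →
      ∀ l, l ≠ j → A i l = 0 := fun i hi l hl => by
    have h0 := congrArg (fun p => Polynomial.coeff p 0) hi
    have h1 := congrArg (fun p => Polynomial.coeff p 1) hi
    simp at h0 h1
    rcases hall l hl with rfl | rfl
    exacts [h0, h1]
  rcases mul_eq_zero.1 hprod with h' | h'
  · rcases mul_eq_zero.1 h' with h' | h'
    exacts [⟨0, key 0 h'⟩, ⟨1, key 1 h'⟩]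
  · exact ⟨2, key 2 h'⟩

/-- The monomial matrix attached to a permutation and a diagonal. -/
def monoMat (σ : Equiv.Perm (Fin 3)) (d : V3) : Matrix (Fin 3) (Fin 3) ℂ :=
  (Matrix.diagonal d).submatrix σ.symm id

lemma monoMat_mulVec (σ : Equiv.Perm (Fin 3)) (d x : V3) (i : Fin 3) :
    (monoMat σ d *ᵥ x) i = d (σ.symm i) * x (σ.symm i) := by
  rw [← Matrix.mulVec_diagonal d x (σ.symm i)]
  rfl

lemma monoMat_apply (σ : Equiv.Perm (Fin 3)) (d : V3) (i l : Fin 3) :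
    monoMat σ d i l = if i = σ l then d l else 0 := by
  rw [monoMat, Matrix.submatrix_apply, id_eq, Matrix.diagonal_apply]
  by_cases hil : i = σ l
  · subst hil; simp
  · rw [if_neg hil, if_neg (fun h => hil (by rw [← h, Equiv.apply_symm_apply]))]

lemma det_monoMat (σ : Equiv.Perm (Fin 3)) (d : V3) :
    (monoMat σ d).det = (Equiv.Perm.sign σ : ℂ) * (d 0 * d 1 * d 2) := by
  rw [monoMat, Matrix.det_permute, Equiv.Perm.sign_symm, Matrix.det_diagonal, Fin.prod_univ_three]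

lemma eval_monoMat (k : ℂ) (σ : Equiv.Perm (Fin 3)) (d x : V3) :
    eval (monoMat σ d *ᵥ x) (HesseCubic.form k) =
      (d 0 * x 0) ^ 3 + (d 1 * x 1) ^ 3 + (d 2 * x 2) ^ 3 -
        3 * k * ((d 0 * x 0) * (d 1 * x 1) * (d 2 * x 2)) := by
  have h1 := Equiv.sum_comp σ.symm (fun i => (d i * x i) ^ 3)
  have h2 := Equiv.prod_comp σ.symm (fun i => d i * x i)
  simp only [Fin.sum_univ_three] at h1
  simp only [Fin.prod_univ_three] at h2
  rw [eval_form]
  simp only [monoMat_mulVec]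
  rw [h1, h2]

lemma exists_monoMat {k c : ℂ} {A : Matrix (Fin 3) (Fin 3) ℂ} (hk : k ^ 3 ≠ 1) (hk0 : k ≠ 0)
    (hA : A.det = 1) (hc2 : c ^ 2 = 1)
    (h : ∀ x, eval (A *ᵥ x) (HesseCubic.form k) = c * eval x (HesseCubic.form k)) :
    ∃ (σ : Equiv.Perm (Fin 3)) (d : V3), A = monoMat σ d ∧
      d 0 * d 1 * d 2 = (Equiv.Perm.sign σ : ℂ) ∧ ∀ l, d l ^ 3 = (Equiv.Perm.sign σ : ℂ) := by
  have ha : (8 - 8 * k ^ 3 : ℂ) ≠ 0 := fun h0 => hk (by linear_combination (-1/8 : ℂ) * h0)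
  have hp : ∀ x : V3, (A *ᵥ x) 0 * (A *ᵥ x) 1 * (A *ᵥ x) 2 = c * (x 0 * x 1 * x 2) := fun x => by
    refine mul_left_cancel₀ ha ?_
    rw [pmap hA h, show c ^ 3 = c by linear_combination c * hc2]
    ring
  choose σ hσ using exists_row hp
  have hrow : ∀ i, ∃ l, A i l ≠ 0 := fun i => by
    by_contra! h0
    exact zero_ne_one ((Matrix.det_eq_zero_of_row_eq_zero i h0).symm.trans hA)
  have hinj : Function.Injective σ := fun a b hab => by
    by_contra hne
    obtain ⟨l, hl⟩ := hrow (σ a)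
    rcases eq_or_ne l a with rfl | hla
    · exact hl (by rw [hab]; exact hσ b l hne)
    · exact hl (hσ a l hla)
  let s : Equiv.Perm (Fin 3) := Equiv.ofBijective σ (Finite.injective_iff_bijective.1 hinj)
  let d : V3 := fun l => A (σ l) l
  have hAeq : A = monoMat s d := by
    ext i l
    rw [monoMat_apply]
    by_cases hil : i = s l
    · rw [if_pos hil, hil]; rfl
    · rw [if_neg hil]
      obtain ⟨l', rfl⟩ := s.surjective i
      exact hσ l' l (fun e => hil (by rw [e]))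
  have hdet : (Equiv.Perm.sign s : ℂ) * (d 0 * d 1 * d 2) = 1 := by
    rw [← det_monoMat, ← hAeq, hA]
  have hs2 : (Equiv.Perm.sign s : ℂ) * (Equiv.Perm.sign s : ℂ) = 1 := by
    rcases Int.units_eq_one_or (Equiv.Perm.sign s) with hs | hs <;> rw [hs] <;> simp
  have hd : d 0 * d 1 * d 2 = (Equiv.Perm.sign s : ℂ) := by
    linear_combination (Equiv.Perm.sign s : ℂ) * hdet - (d 0 * d 1 * d 2) * hs2
  have e0 := h ![1, 0, 0]
  have e1 := h ![0, 1, 0]
  have e2 := h ![0, 0, 1]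
  have e3 := h ![1, 1, 1]
  rw [hAeq, eval_monoMat, eval_form] at e0 e1 e2 e3
  simp at e0 e1 e2 e3
  have hcs : c = (Equiv.Perm.sign s : ℂ) := by
    rw [← hd]
    apply mul_left_cancel₀ (mul_ne_zero (by norm_num : (3 : ℂ) ≠ 0) hk0)
    linear_combination e3 - e0 - e1 - e2
  refine ⟨s, d, hAeq, hd, fun l => ?_⟩
  fin_cases l
  · exact e0.trans hcs
  · exact e1.trans hcs
  · exact e2.trans hcs

lemma map_pow {k c : ℂ} {A : Matrix (Fin 3) (Fin 3) ℂ}
    (h : ∀ x, eval (A *ᵥ x) (HesseCubic.form k) = c * eval x (HesseCubic.form k)) :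
    ∀ (n : ℕ) (x : V3),
      eval ((A ^ n) *ᵥ x) (HesseCubic.form k) = c ^ n * eval x (HesseCubic.form k)
  | 0, x => by simp
  | n + 1, x => by
    rw [pow_succ A n, ← Matrix.mulVec_mulVec, map_pow h n, h, pow_succ]
    ring

open Polynomial in
/-- `G k ·` as a polynomial. -/
noncomputable def Gt (k : ℂ) : ℂ[X] :=
  (Polynomial.X * Polynomial.C (8 - 2 * k ^ 3) - Polynomial.C (6 * k ^ 3)) ^ 3 +
    Polynomial.C (216 * k ^ 6) * (1 - Polynomial.X) ^ 3

open Polynomial in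
/-- `G · t` as a polynomial. -/
noncomputable def Gk (t : ℂ) : ℂ[X] :=
  (Polynomial.C t * (8 - 2 * Polynomial.X ^ 3) - 6 * Polynomial.X ^ 3) ^ 3 +
    216 * Polynomial.X ^ 6 * Polynomial.C ((1 - t) ^ 3)

lemma eval_Gt (k t : ℂ) : (Gt k).eval t = G k t := by simp [Gt, G]

lemma eval_Gk (k t : ℂ) : (Gk t).eval k = G k t := by simp [Gk, G]

lemma mem_roots_pow {m : ℕ} (hm : 0 < m) (z : ℂ) :
    z ∈ (Polynomial.X ^ m - 1 : Polynomial ℂ).roots ↔ z ^ m = 1 := by
  rw [← Polynomial.C_1, Polynomial.mem_roots (Polynomial.X_pow_sub_C_ne_zero hm 1)]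
  simp [sub_eq_zero]

/-- Candidates for `c²`: roots of unity of order at most four. -/
noncomputable def tSet : Finset ℂ :=
  (Finset.Icc 1 4).biUnion fun m : ℕ => ((Polynomial.X ^ m - 1 : Polynomial ℂ).roots).toFinset

open Classical in
/-- The exceptional parameters. -/
noncomputable def kSet : Finset ℂ :=
  insert 0 ((Polynomial.X ^ 3 - 1 : Polynomial ℂ).roots.toFinset ∪
    tSet.biUnion fun t => if t = 1 then ∅ else (Gk t).roots.toFinset)

lemma c_sq_eq_one {k c : ℂ} {A : Matrix (Fin 3) (Fin 3) ℂ} (hk : k ^ 3 ≠ 1) (hk0 : k ≠ 0)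
    (hkS : ∀ t ∈ tSet, t ≠ 1 → G k t ≠ 0) (hA : A.det = 1)
    (h : ∀ x, eval (A *ᵥ x) (HesseCubic.form k) = c * eval x (HesseCubic.form k)) : c ^ 2 = 1 := by
  classical
  obtain ⟨hc, h1⟩ := c_sq hk hk0 hA h
  by_contra hne
  have ha : (8 - 8 * k ^ 3 : ℂ) ≠ 0 := fun h0 => hk (by linear_combination (-1/8 : ℂ) * h0)
  have hGt : Gt k ≠ 0 := fun h0 => by
    have : G k 1 = 0 := by rw [← eval_Gt, h0, Polynomial.eval_zero]
    refine pow_ne_zero 3 ha ?_
    rw [G] at this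
    linear_combination this
  have hdeg : (Gt k).natDegree ≤ 3 := by unfold Gt; compute_degree!
  let S : Finset ℂ := insert 1 (Gt k).roots.toFinset
  have hS : S.card ≤ 4 := by
    refine (Finset.card_insert_le _ _).trans ?_
    have := (Multiset.toFinset_card_le (Gt k).roots).trans
      ((Polynomial.card_roots' (Gt k)).trans hdeg)
    omega
  have hmem : ∀ n : ℕ, (c ^ 2) ^ n ∈ S := fun n => by
    obtain ⟨-, h2⟩ := c_sq hk hk0 (A := A ^ n) (c := c ^ n) (by rw [Matrix.det_pow, hA, one_pow])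
      (map_pow h n)
    rw [← pow_mul, mul_comm, pow_mul]
    rcases h2 with h2 | h2
    · rw [h2]; exact Finset.mem_insert_self _ _
    · refine Finset.mem_insert_of_mem ?_
      rw [Multiset.mem_toFinset, Polynomial.mem_roots hGt, Polynomial.IsRoot, eval_Gt, h2]
  obtain ⟨a, ha', b, hb', hab, heq⟩ := Finset.exists_ne_map_eq_of_card_lt_of_maps_to
    (s := Finset.range 5) (t := S) (f := fun n => (c ^ 2) ^ n)
    (by rw [Finset.card_range]; omega) (fun n _ => hmem n)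
  obtain ⟨m, hm1, hm4, hm⟩ : ∃ m, 1 ≤ m ∧ m ≤ 4 ∧ (c ^ 2) ^ m = 1 := by
    rw [Finset.mem_range] at ha' hb'
    rcases lt_or_gt_of_ne hab with hlt | hlt
    · refine ⟨b - a, by omega, by omega, ?_⟩
      apply mul_left_cancel₀ (pow_ne_zero a (pow_ne_zero 2 hc))
      rw [← pow_add, Nat.add_sub_cancel' hlt.le, mul_one]
      exact heq.symm
    · refine ⟨a - b, by omega, by omega, ?_⟩
      apply mul_left_cancel₀ (pow_ne_zero b (pow_ne_zero 2 hc))
      rw [← pow_add, Nat.add_sub_cancel' hlt.le, mul_one]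
      exact heq
  have htS : c ^ 2 ∈ tSet := by
    refine Finset.mem_biUnion.2 ⟨m, Finset.mem_Icc.2 ⟨hm1, hm4⟩, ?_⟩
    rw [Multiset.mem_toFinset, mem_roots_pow (by omega)]
    exact hm
  exact hkS _ htS hne (h1.resolve_left hne)

lemma notMem_kSet {k : ℂ} (hk : k ∉ kSet) :
    k ≠ 0 ∧ k ^ 3 ≠ 1 ∧ ∀ t ∈ tSet, t ≠ 1 → G k t ≠ 0 := by
  classical
  simp only [kSet, Finset.mem_insert, Finset.mem_union, Finset.mem_biUnion, not_or, not_exists,
    not_and] at hk
  obtain ⟨h0, h3, ht⟩ := hk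
  refine ⟨h0, fun h => h3 ?_, fun t htm ht1 hG => ht t htm ?_⟩
  · rw [Multiset.mem_toFinset, mem_roots_pow (by norm_num)]
    exact h
  · rw [if_neg ht1, Multiset.mem_toFinset, Polynomial.mem_roots, Polynomial.IsRoot, eval_Gk, hG]
    intro h
    have : G 0 t = 0 := by rw [← eval_Gk, h, Polynomial.eval_zero]
    have ht0 : t ≠ 0 := by
      intro e
      obtain ⟨m, hm, hmr⟩ := Finset.mem_biUnion.1 htm
      rw [Multiset.mem_toFinset] at hmr
      have := (Polynomial.mem_roots'.1 hmr).2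
      rw [e] at this
      simp [Polynomial.IsRoot, zero_pow (show m ≠ 0 by simp at hm; omega)] at this
    simp [G, ht0] at this

lemma card_cubeRoots : Nat.card {z : ℂ // z ^ 3 = 1} = 3 := by
  classical
  obtain ⟨ω, hω⟩ := exists_omega
  have hω3 : ω ^ 3 = 1 := by linear_combination (ω - 1) * hω
  have hne1 : ω ≠ 1 := fun h => by rw [h] at hω; norm_num at hω
  have hne2 : ω ^ 2 ≠ 1 := fun h => hne1 (by linear_combination hω3 - ω * h)
  have hne3 : ω ≠ ω ^ 2 := fun h => hne1 (by linear_combination hω3 + (ω + 1) * h)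
  rw [Nat.subtype_card ({1, ω, ω ^ 2} : Finset ℂ) (fun z => ?_)]
  · rw [Finset.card_insert_of_notMem (by simp [Ne.symm hne1, Ne.symm hne2]),
      Finset.card_insert_of_notMem (by simp [hne3]), Finset.card_singleton]
  · simp only [Finset.mem_insert, Finset.mem_singleton]
    constructor
    · rintro (rfl | rfl | rfl)
      · exact one_pow 3
      · exact hω3
      · rw [← pow_mul, pow_mul', hω3, one_pow]
    · intro hz
      have : (z - 1) * ((z - ω) * (z - ω ^ 2)) = 0 := by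
        linear_combination hz - (z ^ 2 - z) * hω + (z - 1) * hω3
      simpa [sub_eq_zero] using this

theorem card_aut {k : ℂ} (hk : k ∉ kSet) :
    Nat.card {A : Matrix (Fin 3) (Fin 3) ℂ // A.det = 1 ∧
      ∃ c : ℂ, aeval (fun i : Fin 3 => ∑ j : Fin 3, MvPolynomial.C (A i j) * MvPolynomial.X j)
        (HesseCubic.form k) = MvPolynomial.C c * HesseCubic.form k} = 54 := by
  obtain ⟨hk0, hk1, hkS⟩ := notMem_kSet hk
  let R := {z : ℂ // z ^ 3 = 1}
  let dd : Equiv.Perm (Fin 3) × R × R → V3 := fun p =>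
    (Equiv.Perm.sign p.1 : ℂ) • ![(p.2.1 : ℂ), p.2.2, ((p.2.1 : ℂ) * p.2.2) ^ 2]
  have hss : ∀ σ : Equiv.Perm (Fin 3),
      (Equiv.Perm.sign σ : ℂ) * (Equiv.Perm.sign σ : ℂ) = 1 := fun σ => by
    rcases Int.units_eq_one_or (Equiv.Perm.sign σ) with hs | hs <;> rw [hs] <;> simp
  have hdd : ∀ p, (∀ l, dd p l ^ 3 = (Equiv.Perm.sign p.1 : ℂ)) ∧
      dd p 0 * dd p 1 * dd p 2 = (Equiv.Perm.sign p.1 : ℂ) := fun p => by
    have hab : ((p.2.1 : ℂ) * p.2.2) ^ 3 = 1 := by rw [mul_pow, p.2.1.2, p.2.2.2, one_mul]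
    have s3 : (Equiv.Perm.sign p.1 : ℂ) ^ 3 = (Equiv.Perm.sign p.1 : ℂ) := by
      linear_combination (Equiv.Perm.sign p.1 : ℂ) * hss p.1
    refine ⟨fun l => ?_, ?_⟩
    · fin_cases l <;> simp [dd, mul_pow, s3, p.2.1.2, p.2.2.2]
      rw [← pow_mul, ← pow_mul, mul_comm 2 3, pow_mul, pow_mul, p.2.1.2, p.2.2.2]
      simp
    · simp [dd]
      linear_combination (Equiv.Perm.sign p.1 : ℂ) ^ 3 * hab + s3
  let F : Equiv.Perm (Fin 3) × R × R → {A : Matrix (Fin 3) (Fin 3) ℂ // A.det = 1 ∧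
      ∃ c : ℂ, aeval (fun i : Fin 3 => ∑ j : Fin 3, MvPolynomial.C (A i j) * MvPolynomial.X j)
        (HesseCubic.form k) = MvPolynomial.C c * HesseCubic.form k} := fun p =>
    ⟨monoMat p.1 (dd p), by rw [det_monoMat, (hdd p).2, hss], (Equiv.Perm.sign p.1 : ℂ),
      (subst_eq_iff _ _ _ _).2 fun x => by
        rw [eval_monoMat, eval_form]
        simp only [mul_pow, (hdd p).1]
        linear_combination (-3 * k * (x 0 * x 1 * x 2)) * (hdd p).2⟩
  have hF : Function.Bijective F := by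
    constructor
    · rintro ⟨σ, a, b⟩ ⟨σ', a', b'⟩ h
      have e : monoMat σ (dd (σ, a, b)) = monoMat σ' (dd (σ', a', b')) := congrArg Subtype.val h
      have hσ : σ = σ' := by
        refine Equiv.ext fun l => ?_
        by_contra hne
        have e1 := congrFun (congrFun e (σ l)) l
        rw [monoMat_apply, monoMat_apply, if_pos rfl, if_neg hne] at e1
        have := (hdd (σ, a, b)).1 l
        rw [e1, zero_pow three_ne_zero] at this
        rcases Int.units_eq_one_or (Equiv.Perm.sign σ) with hs | hs <;> rw [hs] at this <;>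
          simp at this
      subst hσ
      have ed : ∀ l, dd (σ, a, b) l = dd (σ, a', b') l := fun l => by
        have e1 := congrFun (congrFun e (σ l)) l
        rwa [monoMat_apply, monoMat_apply, if_pos rfl, if_pos rfl] at e1
      have hne : (Equiv.Perm.sign σ : ℂ) ≠ 0 := left_ne_zero_of_mul_eq_one (hss σ)
      have ea : (a : ℂ) = a' := mul_left_cancel₀ hne (by simpa [dd] using ed 0)
      have eb : (b : ℂ) = b' := mul_left_cancel₀ hne (by simpa [dd] using ed 1)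
      rw [Subtype.ext ea, Subtype.ext eb]
    · rintro ⟨A, hA, c, hc⟩
      rw [subst_eq_iff] at hc
      obtain ⟨σ, d, rfl, hd, hd3⟩ := exists_monoMat hk1 hk0 hA (c_sq_eq_one hk1 hk0 hkS hA hc) hc
      have s3 : (Equiv.Perm.sign σ : ℂ) ^ 3 = (Equiv.Perm.sign σ : ℂ) := by
        linear_combination (Equiv.Perm.sign σ : ℂ) * hss σ
      have hR : ∀ l, ((Equiv.Perm.sign σ : ℂ) * d l) ^ 3 = 1 := fun l => by
        rw [mul_pow, hd3, s3, hss]
      refine ⟨(σ, ⟨_, hR 0⟩, ⟨_, hR 1⟩), Subtype.ext ?_⟩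
      show monoMat σ _ = monoMat σ d
      congr 1
      funext l
      have hd2 : d 0 * d 1 * d 2 = (Equiv.Perm.sign σ : ℂ) := hd
      have s2 := hss σ
      fin_cases l <;> simp [dd, ← mul_assoc, s2]
      have hne : d 0 * d 1 ≠ 0 := left_ne_zero_of_mul (by
        rw [hd2]; exact left_ne_zero_of_mul_eq_one (hss σ))
      refine mul_left_cancel₀ hne ?_
      rw [hd2]
      linear_combination (Equiv.Perm.sign σ : ℂ) ^ 5 * d 1 ^ 3 * hd3 0 +
        (Equiv.Perm.sign σ : ℂ) ^ 6 * hd3 1 +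
        (Equiv.Perm.sign σ : ℂ) * ((Equiv.Perm.sign σ : ℂ) ^ 4 +
          (Equiv.Perm.sign σ : ℂ) ^ 2 + 1) * hss σ
  rw [← Nat.card_congr (Equiv.ofBijective F hF), Nat.card_prod, Nat.card_prod, card_cubeRoots]
  simp [Fintype.card_perm, Nat.factorial]

end Groth.Agent.H25Cubic
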