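import Groth.Agent.H25Cubic.Hesse

/-! Transitivity and faithfulness of projective automorphisms on the flexes of a plane cubic. -/

set_option autoImplicit false

namespace Groth.Agent.H25Cubic
open MvPolynomial Matrix

variable {f g : MvPolynomial (Fin 3) ℂ}

lemma IsFlex.transport {A : Matrix (Fin 3) (Fin 3) ℂ} (hA : IsUnit A.det) {c : ℂ}
    (h : ∀ x, eval (A *ᵥ x) f = c * eval x g) {v : V3} (hv : IsFlex g v) : IsFlex f (A *ᵥ v) := by
  obtain ⟨w, hli, hw⟩ := hv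
  have hinj : Function.Injective (Matrix.toLin' A) :=
    Matrix.mulVec_injective_iff_isUnit.2 ((Matrix.isUnit_iff_isUnit_det _).2 hA)
  refine ⟨A *ᵥ w, by simpa using li_of_injective hinj hli, fun t => ?_⟩
  rw [← Matrix.mulVec_smul, ← Matrix.mulVec_add, h, h, hw]
  ring

lemma inv_hom {A : Matrix (Fin 3) (Fin 3) ℂ} (hA : IsUnit A.det) {c : ℂ} (hc : c ≠ 0)
    (h : ∀ x, eval (A *ᵥ x) f = c * eval x g) (x : V3) :
    eval (A⁻¹ *ᵥ x) g = c⁻¹ * eval x f := by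
  have := h (A⁻¹ *ᵥ x)
  rw [Matrix.mulVec_mulVec, Matrix.mul_nonsing_inv _ hA, Matrix.one_mulVec] at this
  rw [this, ← mul_assoc, inv_mul_cancel₀ hc, one_mul]

/-- The diagonal symmetry `diag(1, δ, δ²)`. -/
def dMat (δ : ℂ) : Matrix (Fin 3) (Fin 3) ℂ := Matrix.diagonal ![1, δ, δ ^ 2]

/-- The cyclic symmetry. -/
def rMat : Matrix (Fin 3) (Fin 3) ℂ := !![0, 0, 1; 1, 0, 0; 0, 1, 0]

lemma dMat_mulVec (δ : ℂ) (x : V3) : dMat δ *ᵥ x = ![x 0, δ * x 1, δ ^ 2 * x 2] := by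
  funext i; fin_cases i <;> simp [dMat, Matrix.mulVec_diagonal]

lemma rMat_mulVec (x : V3) : rMat *ᵥ x = ![x 2, x 0, x 1] := by
  funext i; fin_cases i <;> simp [rMat, Matrix.mulVec, dotProduct, Fin.sum_univ_three]

lemma eval_dMat {δ : ℂ} (hδ : δ ^ 3 = 1) (k : ℂ) (x : V3) :
    eval (dMat δ *ᵥ x) (HesseCubic.form k) = eval x (HesseCubic.form k) := by
  rw [dMat_mulVec, eval_form, eval_form]
  simp
  linear_combination (x 1 ^ 3 + (δ ^ 3 + 1) * x 2 ^ 3 - 3 * k * (x 0 * x 1 * x 2)) * hδ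

lemma eval_rMat (k : ℂ) (x : V3) :
    eval (rMat *ᵥ x) (HesseCubic.form k) = eval x (HesseCubic.form k) := by
  rw [rMat_mulVec, eval_form, eval_form]
  simp
  ring

/-- Every flex of the Hesse cubic is the image of `(0,1,-1)` by a symmetry. -/
lemma exists_sym {k : ℂ} (hk : k ^ 3 ≠ 1) {v : V3} (hv : v ≠ 0)
    (hfv : eval v (HesseCubic.form k) = 0) (hfl : IsFlex (HesseCubic.form k) v) :
    ∃ (B : Matrix (Fin 3) (Fin 3) ℂ) (d : ℂ), IsUnit B.det ∧ d ≠ 0 ∧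
      (∀ x, eval (B *ᵥ x) (HesseCubic.form k) = eval x (HesseCubic.form k)) ∧
      B *ᵥ ![0, 1, -1] = d • v := by
  obtain ⟨γ, c, hγ, h⟩ := (flex_form_iff hk hv hfv).1 hfl
  have hγ0 : γ ≠ 0 := fun h0 => by simp [h0] at hγ
  have hc : c ≠ 0 := fun h0 => by rcases h with h | h | h <;> simp [h0] at h <;> exact hv h
  have hD : IsUnit (dMat γ).det := by simp [dMat, Fin.prod_univ_three, hγ0]
  have hR : IsUnit rMat.det := by simp [rMat, Matrix.det_fin_three]
  rcases h with rfl | rfl | rfl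
  · refine ⟨dMat γ, γ / c, hD, div_ne_zero hγ0 hc, eval_dMat hγ k, ?_⟩
    rw [dMat_mulVec, smul_smul, div_mul_cancel₀ _ hc]
    funext i; fin_cases i <;> simp <;> ring
  · refine ⟨rMat * dMat γ, γ / c, by rw [Matrix.det_mul]; exact hR.mul hD, div_ne_zero hγ0 hc,
      fun x => by rw [← Matrix.mulVec_mulVec, eval_rMat, eval_dMat hγ], ?_⟩
    rw [← Matrix.mulVec_mulVec, dMat_mulVec, rMat_mulVec, smul_smul, div_mul_cancel₀ _ hc]
    funext i; fin_cases i <;> simp <;> ring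
  · refine ⟨rMat * rMat * dMat γ, γ / c, by simp only [Matrix.det_mul]; exact (hR.mul hR).mul hD,
      div_ne_zero hγ0 hc,
      fun x => by rw [← Matrix.mulVec_mulVec, ← Matrix.mulVec_mulVec, eval_rMat, eval_rMat,
        eval_dMat hγ], ?_⟩
    rw [← Matrix.mulVec_mulVec, ← Matrix.mulVec_mulVec, dMat_mulVec, rMat_mulVec, rMat_mulVec,
      smul_smul, div_mul_cancel₀ _ hc]
    funext i; fin_cases i <;> simp <;> ring

theorem flex_transitive (hf : f.IsHomogeneous 3) (hsm : IsSmooth3 f) {v v' : V3} (hv : v ≠ 0)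
    (hv' : v' ≠ 0) (hfv : eval v f = 0) (hfv' : eval v' f = 0) (hfl : IsFlex f v)
    (hfl' : IsFlex f v') :
    ∃ (A : Matrix (Fin 3) (Fin 3) ℂ) (c d : ℂ), IsUnit A.det ∧
      aeval (fun i : Fin 3 => ∑ j : Fin 3, C (A i j) * X j) f = C c * f ∧ A.mulVec v = d • v' := by
  obtain ⟨A0, k, c, hA0, hk, hc, hA⟩ := exists_hesse hf hsm
  rw [subst_eq_iff] at hA
  have hA' := inv_hom hA0 hc hA
  have key : ∀ v : V3, v ≠ 0 → eval v f = 0 → IsFlex f v →
      ∃ (B : Matrix (Fin 3) (Fin 3) ℂ) (d : ℂ), IsUnit B.det ∧ d ≠ 0 ∧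
        (∀ x, eval (B *ᵥ x) (HesseCubic.form k) = eval x (HesseCubic.form k)) ∧
        B *ᵥ ![0, 1, -1] = d • (A0⁻¹ *ᵥ v) := fun v hv hfv hfl => by
    refine exists_sym hk (fun h0 => hv ?_) (by rw [hA', hfv, mul_zero])
      (hfl.transport (Matrix.isUnit_nonsing_inv_det _ hA0) hA')
    simpa [Matrix.mulVec_mulVec, Matrix.mul_nonsing_inv _ hA0] using congrArg (A0 *ᵥ ·) h0
  obtain ⟨B, d, hB, hd, hBe, hBv⟩ := key v hv hfv hfl
  obtain ⟨B', d', hB', -, hBe', hBv'⟩ := key v' hv' hfv' hfl'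
  refine ⟨A0 * B' * B⁻¹ * A0⁻¹, 1, d' / d, ?_, (subst_eq_iff _ _ _ _).2 fun x => ?_, ?_⟩
  · simp only [Matrix.det_mul]
    exact ((hA0.mul hB').mul (Matrix.isUnit_nonsing_inv_det _ hB)).mul
      (Matrix.isUnit_nonsing_inv_det _ hA0)
  · simp only [← Matrix.mulVec_mulVec]
    rw [hA, hBe', inv_hom hB one_ne_zero (fun y => by rw [hBe, one_mul]), hA']
    field_simp
  · have h1 : B⁻¹ *ᵥ (A0⁻¹ *ᵥ v) = d⁻¹ • ![0, 1, -1] := by
      have : A0⁻¹ *ᵥ v = d⁻¹ • (B *ᵥ ![0, 1, -1]) := by rw [hBv, inv_smul_smul₀ hd]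
      rw [this, Matrix.mulVec_smul, Matrix.mulVec_mulVec, Matrix.nonsing_inv_mul _ hB,
        Matrix.one_mulVec]
    simp only [← Matrix.mulVec_mulVec]
    rw [h1, Matrix.mulVec_smul, hBv', Matrix.mulVec_smul, Matrix.mulVec_smul,
      Matrix.mulVec_mulVec, Matrix.mul_nonsing_inv _ hA0, Matrix.one_mulVec, smul_smul,
      div_eq_inv_mul]

theorem flex_faithful (hf : f.IsHomogeneous 3) (hsm : IsSmooth3 f)
    (A : Matrix (Fin 3) (Fin 3) ℂ)
    (hfix : ∀ v : V3, v ≠ 0 → eval v f = 0 → IsFlex f v → ∃ d : ℂ, A.mulVec v = d • v) :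
    ∃ c : ℂ, A = c • (1 : Matrix (Fin 3) (Fin 3) ℂ) := by
  obtain ⟨A0, k, c, hA0, hk, hc, hA⟩ := exists_hesse hf hsm
  rw [subst_eq_iff] at hA
  set B := A0⁻¹ * A * A0 with hBdef
  have hB : ∀ v : V3, v ≠ 0 → eval v (HesseCubic.form k) = 0 → IsFlex (HesseCubic.form k) v →
      ∃ d : ℂ, B *ᵥ v = d • v := fun v hv hfv hfl => by
    have hne : A0 *ᵥ v ≠ 0 := fun h0 => hv (by
      simpa [Matrix.mulVec_mulVec, Matrix.nonsing_inv_mul _ hA0] using congrArg (A0⁻¹ *ᵥ ·) h0)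
    obtain ⟨d, hd⟩ := hfix _ hne (by rw [hA, hfv, mul_zero]) (hfl.transport hA0 hA)
    refine ⟨d, ?_⟩
    rw [hBdef, ← Matrix.mulVec_mulVec, ← Matrix.mulVec_mulVec, hd, Matrix.mulVec_smul,
      Matrix.mulVec_mulVec, Matrix.nonsing_inv_mul _ hA0, Matrix.one_mulVec]
  obtain ⟨ω, hω⟩ := exists_omega
  have hω3 : ω ^ 3 = 1 := by linear_combination (ω - 1) * hω
  have hωne : ω - ω ^ 2 ≠ 0 := fun h => by
    have h1 : 2 * ω + 1 = 0 := by linear_combination h + hω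
    have : (3 : ℂ) = 0 := by linear_combination 4 * hω - (2 * ω + 1) * h1
    norm_num at this
  -- in each coordinate plane `B` is scalar
  have plane : ∀ a b : V3, LinearIndependent ℂ ![a, b] →
      (∀ γ : ℂ, γ ^ 3 = 1 → ∃ d : ℂ, B *ᵥ (a + (-γ) • b) = d • (a + (-γ) • b)) →
      ∃ d : ℂ, B *ᵥ a = d • a ∧ B *ᵥ b = d • b := by
    intro a b hli h
    obtain ⟨d1, h1⟩ := h 1 (one_pow 3)
    obtain ⟨d2, h2⟩ := h ω hω3
    obtain ⟨d3, h3⟩ := h (ω ^ 2) (by rw [← pow_mul, pow_mul', hω3, one_pow])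
    have e : (d1 + ω * d2 + ω ^ 2 * d3) • a + (-(d1 + ω ^ 2 * d2 + ω * d3)) • b = 0 := by
      have hz : (a + (-(1:ℂ)) • b) + ω • (a + (-ω) • b) + ω ^ 2 • (a + (-ω ^ 2) • b) = 0 := by
        have z1 : (1 + ω + ω ^ 2 : ℂ) = 0 := by linear_combination hω
        have z2 : (-(1 + ω ^ 2 + ω ^ 4) : ℂ) = 0 := by linear_combination -(ω ^ 2 - ω + 1) * hω
        calc _ = (1 + ω + ω ^ 2) • a + (-(1 + ω ^ 2 + ω ^ 4)) • b := by module
          _ = 0 := by rw [z1, z2]; simp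
      have := congrArg (B *ᵥ ·) hz
      simp only [Matrix.mulVec_add, Matrix.mulVec_smul, Matrix.mulVec_zero] at this
      simp only [← Matrix.mulVec_smul, ← Matrix.mulVec_add] at this
      rw [Matrix.mulVec_add, Matrix.mulVec_add, Matrix.mulVec_smul, Matrix.mulVec_smul, h1, h2, h3] at this
      have h4 : (d1 + ω * d2 + ω ^ 2 * d3) • a +
          (-(d1 + ω ^ 2 * d2 + ω ^ 4 * d3)) • b = 0 := by rw [← this]; module
      rwa [show ω ^ 4 = ω by linear_combination ω * hω3] at h4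
    obtain ⟨e1, e2⟩ := LinearIndependent.pair_iff.1 hli _ _ e
    have h23 : d2 = d3 := sub_eq_zero.1 ((mul_eq_zero.1
      (show (ω - ω ^ 2) * (d2 - d3) = 0 by linear_combination e1 + e2)).resolve_left hωne)
    subst h23
    have h12 : d1 = d2 := by linear_combination e1 - d2 * hω
    subst h12
    have hb : (ω - 1) ≠ 0 := fun h => hωne (by linear_combination -ω * h)
    have hBb : B *ᵥ b = d1 • b := by
      refine smul_right_injective V3 hb ?_
      have : B *ᵥ ((a + (-(1:ℂ)) • b) - (a + (-ω) • b)) =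
          d1 • ((a + (-(1:ℂ)) • b) - (a + (-ω) • b)) := by
        rw [Matrix.mulVec_sub, h1, h2, smul_sub]
      rw [show (a + (-(1:ℂ)) • b) - (a + (-ω) • b) = (ω - 1) • b by module, Matrix.mulVec_smul] at this
      show (ω - 1) • (B *ᵥ b) = (ω - 1) • d1 • b
      rw [this, smul_comm]
    refine ⟨d1, ?_, hBb⟩
    have h5 := h1
    rw [Matrix.mulVec_add, Matrix.mulVec_smul, hBb, ← eq_sub_iff_add_eq] at h5
    rw [h5]; module
  have hflex : ∀ γ : ℂ, γ ^ 3 = 1 → ∀ v : V3,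
      (v = ![0, 1, -γ] ∨ v = ![-γ, 0, 1] ∨ v = ![1, -γ, 0]) → ∃ d : ℂ, B *ᵥ v = d • v := by
    intro γ hγ v hv
    have hne : v ≠ 0 := by
      intro h0
      rcases hv with rfl | rfl | rfl
      · simpa using congrFun h0 1
      · simpa using congrFun h0 2
      · simpa using congrFun h0 0
    have hz : eval v (HesseCubic.form k) = 0 := by
      rcases hv with rfl | rfl | rfl <;> simp [eval_form] <;> linear_combination -hγ
    exact hB v hne hz ((flex_form_iff hk hne hz).2 ⟨γ, 1, hγ, by simpa using hv⟩)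
  have eli : ∀ i j : Fin 3, i ≠ j →
      LinearIndependent ℂ ![(Pi.single i 1 : V3), Pi.single j 1] := fun i j hij => by
    rw [LinearIndependent.pair_iff]
    intro s t hst
    have hi := congrFun hst i
    have hj := congrFun hst j
    simp [hij, hij.symm] at hi hj
    exact ⟨hi, hj⟩
  obtain ⟨d, p1, p2⟩ := plane _ _ (eli 1 2 (by decide)) (fun γ hγ => by
    rw [show (Pi.single 1 1 : V3) + (-γ) • Pi.single 2 1 = ![0, 1, -γ] by
      funext i; fin_cases i <;> simp]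
    exact hflex γ hγ _ (Or.inl rfl))
  obtain ⟨d', p2', p0⟩ := plane _ _ (eli 2 0 (by decide)) (fun γ hγ => by
    rw [show (Pi.single 2 1 : V3) + (-γ) • Pi.single 0 1 = ![-γ, 0, 1] by
      funext i; fin_cases i <;> simp]
    exact hflex γ hγ _ (Or.inr (Or.inl rfl)))
  have hdd : d' = d := by
    have := congrFun (p2'.symm.trans p2) 2
    simpa using this
  subst hdd
  refine ⟨d', ?_⟩
  have hBd : B = d' • (1 : Matrix (Fin 3) (Fin 3) ℂ) := by
    have key : ∀ l : Fin 3, B *ᵥ Pi.single l 1 = d' • (Pi.single l 1 : V3) := fun l => by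
      fin_cases l
      exacts [p0, p1, p2]
    ext i l
    have := congrFun (key l) i
    simpa [Matrix.mulVec_single_one, Pi.single_apply, Matrix.one_apply] using this
  calc A = A0 * B * A0⁻¹ := by
        rw [hBdef, ← Matrix.mul_assoc, ← Matrix.mul_assoc, Matrix.mul_nonsing_inv _ hA0,
          Matrix.one_mul, Matrix.mul_assoc, Matrix.mul_nonsing_inv _ hA0, Matrix.mul_one]
    _ = d' • 1 := by rw [hBd]; simp [Matrix.mul_nonsing_inv _ hA0]

end Groth.Agent.H25Cubic
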