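import Groth.Agent.H25Cubic.Tri
import Groth.Agent.H29Ci.Zero
import Mathlib.RingTheory.MvPolynomial.Homogeneous
import Mathlib.FieldTheory.IsAlgClosed.Basic
import Mathlib.LinearAlgebra.Matrix.Rank
import Mathlib.Algebra.MvPolynomial.NoZeroDivisors

/-! Lines and plane sections of cubic surfaces. -/

set_option autoImplicit false

namespace Groth.Agent.H25Cubic
open MvPolynomial

variable {K : Type*} [Field K] [CharZero K] [IsAlgClosed K]

omit [CharZero K] in
lemma binary_quad_factor' [NeZero (2 : K)] (a b c : K) :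
    ∃ α β γ δ : K, a = α * γ ∧ b = α * δ + β * γ ∧ c = β * δ := by
  by_cases ha : a = 0
  · exact ⟨0, 1, b, c, by simp [ha]⟩
  obtain ⟨s, hs⟩ := IsAlgClosed.exists_pow_nat_eq (b ^ 2 - 4 * a * c) zero_lt_two
  have h2 : (2 : K) ≠ 0 := two_ne_zero
  refine ⟨a, (b + s) / 2, 1, (b - s) / (2 * a), by ring, ?_, ?_⟩
  · field_simp; ring
  · field_simp; linear_combination hs

lemma binary_quad_factor (a b c : K) :
    ∃ α β γ δ : K, a = α * γ ∧ b = α * δ + β * γ ∧ c = β * δ :=
  binary_quad_factor' a b c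

lemma binary_cubic_factor (c0 c1 c2 c3 : K) :
    ∃ α β γ δ ε η : K, ∀ s t : K, c0 * s ^ 3 + c1 * s ^ 2 * t + c2 * s * t ^ 2 + c3 * t ^ 3 =
      (α * s + β * t) * (γ * s + δ * t) * (ε * s + η * t) := by
  by_cases h0 : c0 = 0
  · obtain ⟨α, β, γ, δ, e1, e2, e3⟩ := binary_quad_factor c1 c2 c3
    exact ⟨0, 1, α, β, γ, δ, fun s t => by subst h0; rw [e1, e2, e3]; ring⟩
  obtain ⟨r, hr⟩ := IsAlgClosed.exists_root
    (Polynomial.C c0 * Polynomial.X ^ 3 + Polynomial.C c1 * Polynomial.X ^ 2 +
      Polynomial.C c2 * Polynomial.X + Polynomial.C c3)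
    (by rw [Polynomial.degree_cubic h0]; decide)
  simp [Polynomial.IsRoot] at hr
  obtain ⟨α, β, γ, δ, e1, e2, e3⟩ :=
    binary_quad_factor c0 (c1 + r * c0) (c2 + r * c1 + r ^ 2 * c0)
  exact ⟨1, -r, α, β, γ, δ, fun s t => by
    linear_combination (s - r * t) * s ^ 2 * e1 + (s - r * t) * s * t * e2 + (s - r * t) * t ^ 2 * e3
      + t ^ 3 * hr⟩

lemma binary_isotropic (a b c : K) :
    ∃ s t : K, (s ≠ 0 ∨ t ≠ 0) ∧ a * s ^ 2 + b * (s * t) + c * t ^ 2 = 0 := by
  obtain ⟨α, β, γ, δ, e1, e2, e3⟩ := binary_quad_factor a b c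
  rcases eq_or_ne α 0 with hα | hα
  · exact ⟨1, 0, Or.inl one_ne_zero, by rw [e1, hα]; ring⟩
  · exact ⟨β, -α, Or.inr (neg_ne_zero.2 hα), by rw [e1, e2, e3]; ring⟩

variable {f : MvPolynomial (Fin 4) K}

omit [IsAlgClosed K] in
lemma tri_eq_zero_of_eval (hf : f.IsHomogeneous 3) {H : Submodule K (Fin 4 → K)}
    (h : ∀ u ∈ H, eval u f = 0) {x y z : Fin 4 → K} (hx : x ∈ H) (hy : y ∈ H) (hz : z ∈ H) :
    tri f x y z = 0 := by
  have h6 := polar hf x y z
  rw [h _ (add_mem hx (add_mem hy hz)), h _ (add_mem hx hy), h _ (add_mem hx hz),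
    h _ (add_mem hy hz), h _ hx, h _ hy, h _ hz] at h6
  simpa using h6

omit [CharZero K] [IsAlgClosed K] in
lemma ker_three {φ : (Fin 4 → K) →ₗ[K] K} (h : φ ≠ 0) :
    Module.finrank K (LinearMap.ker φ) = 3 := by
  have := LinearMap.finrank_range_add_finrank_ker φ
  rw [LinearMap.range_eq_top.2 (LinearMap.surjective h)] at this
  simp at this
  omega

omit [CharZero K] [IsAlgClosed K] in
lemma basis_ker {φ : (Fin 4 → K) →ₗ[K] K} (h : φ ≠ 0) {v : Fin 4 → K} (hv : v ≠ 0) (hφv : φ v = 0) :
    ∃ a b : Fin 4 → K, φ a = 0 ∧ φ b = 0 ∧ (∀ r s t : K, r • v + s • a + t • b = 0 → r = 0 ∧ s = 0 ∧ t = 0) ∧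
      ∀ x, φ x = 0 → ∃ r s t : K, x = r • v + s • a + t • b := by
  have h3 := ker_three h
  obtain ⟨a, ha, ha'⟩ : ∃ a, φ a = 0 ∧ a ∉ Submodule.span K {v} := by
    by_contra! hc
    have := Submodule.finrank_mono (show LinearMap.ker φ ≤ Submodule.span K {v} from hc)
    rw [h3, finrank_span_singleton hv] at this
    omega
  obtain ⟨b, hb, hb'⟩ : ∃ b, φ b = 0 ∧ b ∉ Submodule.span K {v, a} := by
    by_contra! hc
    have h2 := Submodule.finrank_mono (show LinearMap.ker φ ≤ Submodule.span K {v, a} from hc)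
    classical
    have := finrank_span_le_card (R := K) ({v, a} : Set (Fin 4 → K))
    have hc2 : ({v, a} : Set (Fin 4 → K)).toFinset.card ≤ 2 := by
      rw [Set.toFinset_insert, Set.toFinset_singleton]
      exact Finset.card_le_two
    omega
  have hli : ∀ r s t : K, r • v + s • a + t • b = 0 → r = 0 ∧ s = 0 ∧ t = 0 := by
    intro r s t e
    have ht : t = 0 := by
      by_contra ht
      refine hb' (Submodule.mem_span_pair.2 ⟨-(r / t), -(s / t), ?_⟩)
      have h9 := congrArg (fun u => t⁻¹ • u) e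
      simp only [smul_add, smul_smul, inv_mul_cancel₀ ht, one_smul, smul_zero] at h9
      rw [← sub_eq_zero, ← neg_eq_zero, ← h9]; module
    rw [ht, zero_smul, add_zero] at e
    have hs : s = 0 := by
      by_contra hs
      refine ha' (Submodule.mem_span_singleton.2 ⟨-(r / s), ?_⟩)
      have h9 := congrArg (fun u => s⁻¹ • u) e
      simp only [smul_add, smul_smul, inv_mul_cancel₀ hs, one_smul, smul_zero] at h9
      rw [← sub_eq_zero, ← neg_eq_zero, ← h9]; module
    rw [hs, zero_smul, add_zero] at e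
    exact ⟨(smul_eq_zero.1 e).resolve_right hv, hs, ht⟩
  refine ⟨a, b, ha, hb, hli, fun x hx => ?_⟩
  have hind : LinearIndependent K ![v, a, b] := by
    rw [Fintype.linearIndependent_iff]
    intro g hg
    simp only [Fin.sum_univ_three, Matrix.cons_val_zero, Matrix.cons_val_one, Matrix.cons_val] at hg
    obtain ⟨e0, e1, e2⟩ := hli _ _ _ hg
    intro i; fin_cases i <;> assumption
  have heq : Submodule.span K (Set.range ![v, a, b]) = LinearMap.ker φ := by
    refine Submodule.eq_of_le_of_finrank_eq (Submodule.span_le.2 ?_) ?_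
    · rintro _ ⟨i, rfl⟩
      fin_cases i <;> assumption
    · rw [finrank_span_eq_card hind, h3]; simp
  have hx' : x ∈ LinearMap.ker φ := hx
  rw [← heq, Submodule.mem_span_range_iff_exists_fun] at hx'
  obtain ⟨c, rfl⟩ := hx'
  exact ⟨c 0, c 1, c 2, by simp [Fin.sum_univ_three]⟩

/-- A smooth cubic surface contains no plane. -/
lemma no_plane (hf : f.IsHomogeneous 3)
    (hsm : ∀ v : Fin 4 → K, v ≠ 0 → eval v f = 0 → ∃ i, eval v (pderiv i f) ≠ 0)
    {φ : (Fin 4 → K) →ₗ[K] K} (hφ : φ ≠ 0) (h : ∀ x, φ x = 0 → eval x f = 0) : False := by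
  have h3 := ker_three hφ
  obtain ⟨v, hv, hv0⟩ : ∃ v ∈ LinearMap.ker φ, v ≠ 0 := Submodule.exists_mem_ne_zero_of_ne_bot
    (fun e => by rw [e] at h3; simp at h3)
  obtain ⟨a, b, ha, -, hli, -⟩ := basis_ker hφ hv0 hv
  obtain ⟨z, hz⟩ := LinearMap.surjective hφ 1
  obtain ⟨s, t, hst, hq⟩ := binary_isotropic (tri f z v v) (2 * tri f z v a) (tri f z a a)
  have hu : s • v + t • a ≠ 0 := fun e => by
    obtain ⟨e1, e2, -⟩ := hli s t 0 (by simpa using e)
    rcases hst with h | h <;> contradiction
  have huH : φ (s • v + t • a) = 0 := by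
    have hv' : φ v = 0 := hv
    simp [hv', ha]
  obtain ⟨y, hy⟩ := exists_tri_ne_zero hf (hsm _ hu (h _ huH))
  apply hy
  have hT := fun x y w (hx : φ x = 0) (hy : φ y = 0) (hw : φ w = 0) =>
    tri_eq_zero_of_eval hf (H := LinearMap.ker φ) h (x := x) (y := y) (z := w) hx hy hw
  have h1 : tri f (y - φ y • z) (s • v + t • a) (s • v + t • a) = 0 :=
    hT _ _ _ (by simp [hz]) huH huH
  have h2 : tri f z (s • v + t • a) (s • v + t • a) = 0 := by
    simp only [map_add, map_smul, LinearMap.add_apply, LinearMap.smul_apply, smul_eq_mul,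
      tri_swap23 f z a v]
    linear_combination hq
  rw [map_sub, map_smul, LinearMap.sub_apply, LinearMap.sub_apply, LinearMap.smul_apply,
    LinearMap.smul_apply, h2, smul_zero, sub_zero] at h1
  exact h1

lemma line_dirs (hf : f.IsHomogeneous 3) {v u : Fin 4 → K} {U : Submodule K (Fin 4 → K)}
    (hv : v ∈ U) (hu : u ∈ U) (hU : ∀ u ∈ U, eval u f = 0) :
    tri f v v u = 0 ∧ tri f v u u = 0 ∧ tri f u u u = 0 :=
  ⟨tri_eq_zero_of_eval hf hU hv hv hu, tri_eq_zero_of_eval hf hU hv hu hu,
    tri_eq_zero_of_eval hf hU hu hu hu⟩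

theorem lines_through_point (hf : f.IsHomogeneous 3)
    (hsm : ∀ v : Fin 4 → K, v ≠ 0 → eval v f = 0 → ∃ i, eval v (pderiv i f) ≠ 0)
    (v : Fin 4 → K) (hv : v ≠ 0) (hfv : eval v f = 0) :
    {U : Submodule K (Fin 4 → K) | v ∈ U ∧ (Module.finrank K ↥U = 2 ∧ ∀ u ∈ U, eval u f = 0)}.Finite ∧
      {U : Submodule K (Fin 4 → K) | v ∈ U ∧ (Module.finrank K ↥U = 2 ∧ ∀ u ∈ U, eval u f = 0)}.ncard ≤ 3 ∧
      ∃ H : Submodule K (Fin 4 → K), Module.finrank K ↥H = 3 ∧
        ∀ U : Submodule K (Fin 4 → K), v ∈ U → (Module.finrank K ↥U = 2 ∧ ∀ u ∈ U, eval u f = 0) → U ≤ H := by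
  classical
  have hl : tri f v v ≠ 0 := fun h => by
    obtain ⟨y, hy⟩ := exists_tri_ne_zero hf (hsm v hv hfv)
    exact hy (by rw [tri_rot, h]; rfl)
  have hvv : tri f v v v = 0 := (eval_eq_tri hf v).symm.trans hfv
  obtain ⟨a, b, ha, hb, hli, hsp⟩ := basis_ker hl hv hvv
  obtain ⟨c0, c1, c2, c3, hc, hroot⟩ : ∃ c0 c1 c2 c3 : K,
      ¬ (c0 = 0 ∧ c1 = 0 ∧ c2 = 0 ∧ c3 = 0) ∧
      ∀ s t : K, tri f v (s • a + t • b) (s • a + t • b) = 0 →
        tri f (s • a + t • b) (s • a + t • b) (s • a + t • b) = 0 →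
        c0 * s ^ 3 + c1 * s ^ 2 * t + c2 * s * t ^ 2 + c3 * t ^ 3 = 0 := by
    by_cases hQ : tri f v a a = 0 ∧ tri f v a b = 0 ∧ tri f v b b = 0
    · obtain ⟨q0, q1, q2⟩ := hQ
      refine ⟨tri f a a a, 3 * tri f a a b, 3 * tri f a b b, tri f b b b, ?_, fun s t _ h => ?_⟩
      · rintro ⟨e0, e1, e2, e3⟩
        refine no_plane hf hsm hl fun x hx => ?_
        obtain ⟨r, s, t, rfl⟩ := hsp x hx
        rw [eval_eq_tri hf]
        have e1' : tri f a a b = 0 := by simpa using e1
        have e2' : tri f a b b = 0 := by simpa using e2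
        simp only [map_add, map_smul, LinearMap.add_apply, LinearMap.smul_apply, smul_eq_mul,
          tri_swap12 f a v, tri_swap12 f b v, tri_swap23 f v a v, tri_swap23 f v b v,
          tri_swap23 f v b a, tri_rot f a b v, tri_rot f b a v, tri_rot f a a v, tri_rot f b b v,
          tri_swap23 f a b a, tri_rot f b a a, tri_rot f b b a, tri_swap12 f b a b,
          ha, hb, hvv, q0, q1, q2, e0, e1', e2', e3]
        ring
      · simp only [map_add, map_smul, LinearMap.add_apply, LinearMap.smul_apply, smul_eq_mul,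
          tri_swap23 f a b a, tri_rot f b a a, tri_rot f b b a, tri_swap12 f b a b] at h
        linear_combination h
    · refine ⟨tri f v a a, 2 * tri f v a b, tri f v b b, 0, ?_, fun s t h _ => ?_⟩
      · rintro ⟨e0, e1, e2, -⟩
        exact hQ ⟨e0, by simpa using e1, e2⟩
      · simp only [map_add, map_smul, LinearMap.add_apply, LinearMap.smul_apply, smul_eq_mul,
          tri_swap23 f v b a] at h
        linear_combination s * h
  let P : Polynomial K := Polynomial.C c3 * Polynomial.X ^ 3 + Polynomial.C c2 * Polynomial.X ^ 2 +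
    Polynomial.C c1 * Polynomial.X + Polynomial.C c0
  let S : Finset (Submodule K (Fin 4 → K)) :=
    (P.roots.toFinset.image fun t => Submodule.span K {v, a + t • b}) ∪
      (if c3 = 0 then {Submodule.span K {v, b}} else ∅)
  have hcoef : P.coeff 0 = c0 ∧ P.coeff 1 = c1 ∧ P.coeff 2 = c2 ∧ P.coeff 3 = c3 := by
    simp [P, Polynomial.coeff_C]
  have hP0 : P ≠ 0 := fun e => hc (by simpa [e, eq_comm] using hcoef)
  have hcard : S.card ≤ 3 := by
    refine (Finset.card_union_le _ _).trans ?_
    have h1 : (P.roots.toFinset.image fun t => Submodule.span K {v, a + t • b}).card ≤ P.natDegree :=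
      Finset.card_image_le.trans ((Multiset.toFinset_card_le _).trans (Polynomial.card_roots' P))
    by_cases h3 : c3 = 0
    · rw [if_pos h3, Finset.card_singleton]
      have : P.natDegree ≤ 2 := by
        simp only [P, h3, map_zero, zero_mul, zero_add]
        exact Polynomial.natDegree_quadratic_le
      omega
    · rw [if_neg h3, Finset.card_empty]
      have : P.natDegree ≤ 3 := Polynomial.natDegree_cubic_le
      omega
  have hsub : {U : Submodule K (Fin 4 → K) |
      v ∈ U ∧ (Module.finrank K ↥U = 2 ∧ ∀ u ∈ U, eval u f = 0)} ⊆ ↑S := by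
    rintro U ⟨hvU, hU2, hU⟩
    obtain ⟨u, huU, hu⟩ : ∃ u ∈ U, u ∉ Submodule.span K {v} := by
      by_contra! hc'
      have := Submodule.finrank_mono (show U ≤ Submodule.span K {v} from hc')
      rw [hU2, finrank_span_singleton hv] at this
      omega
    obtain ⟨r, s, t, rfl⟩ := hsp u (line_dirs hf hvU huU hU).1
    have hdU : s • a + t • b ∈ U := by
      have h' := sub_mem huU (U.smul_mem r hvU)
      rwa [show r • v + s • a + t • b - r • v = s • a + t • b by module] at h'
    obtain ⟨-, hq, hcu⟩ := line_dirs hf hvU hdU hU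
    have hz := hroot s t hq hcu
    have hUeq : ∀ d ∈ U, d ∉ Submodule.span K {v} → Submodule.span K {v, d} = U := fun d hd hd' => by
      refine Submodule.eq_of_le_of_finrank_eq (Submodule.span_le.2 ?_) ?_
      · rintro x (rfl | rfl)
        exacts [hvU, hd]
      · have hli : LinearIndependent K ![v, d] := by
          rw [LinearIndependent.pair_iff' hv]
          exact fun c e => hd' (Submodule.mem_span_singleton.2 ⟨c, e⟩)
        rw [hU2, ← Matrix.range_cons_cons_empty v d (![] : Fin 0 → Fin 4 → K),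
          finrank_span_eq_card hli]
        simp
    rcases eq_or_ne s 0 with rfl | hs
    · have ht : t ≠ 0 := fun e => hu (by subst e; simp [Submodule.mem_span_singleton])
      have h3 : c3 = 0 := by
        have : c3 * t ^ 3 = 0 := by linear_combination hz
        exact (mul_eq_zero.1 this).resolve_right (pow_ne_zero 3 ht)
      refine Finset.mem_union_right _ ?_
      rw [if_pos h3, Finset.mem_singleton]
      refine (hUeq b ?_ ?_).symm
      · have := U.smul_mem t⁻¹ hdU
        simpa [ht] using this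
      · intro e
        obtain ⟨c, e⟩ := Submodule.mem_span_singleton.1 e
        have := (hli c 0 (-1) (by rw [← e]; module)).2.2
        simp at this
    · refine Finset.mem_union_left _ (Finset.mem_image.2 ⟨t / s, ?_, hUeq _ ?_ ?_⟩)
      · rw [Multiset.mem_toFinset, Polynomial.mem_roots hP0]
        have : P.eval (t / s) = 0 := by
          simp [P]; field_simp; linear_combination hz
        exact this
      · have := U.smul_mem s⁻¹ hdU
        rwa [smul_add, inv_smul_smul₀ hs, smul_smul, inv_mul_eq_div] at this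
      · intro e
        obtain ⟨c, e⟩ := Submodule.mem_span_singleton.1 e
        have := (hli c (-1) (-(t / s)) (by rw [e]; module)).2.1
        simp at this
  refine ⟨S.finite_toSet.subset hsub, ?_, LinearMap.ker (tri f v v), ker_three hl, ?_⟩
  · exact ((Set.ncard_le_ncard hsub S.finite_toSet).trans_eq (Set.ncard_coe_finset S)).trans hcard
  · exact fun U hvU hU u hu => (line_dirs hf hvU hu hU.2).1

/-- The linear form attached to a functional. -/
noncomputable def lf (φ : (Fin 4 → K) →ₗ[K] K) : MvPolynomial (Fin 4) K :=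
  ∑ i, C (φ (Pi.single i 1)) * X i

omit [CharZero K] [IsAlgClosed K] in
lemma lf_isHomogeneous (φ : (Fin 4 → K) →ₗ[K] K) : (lf φ).IsHomogeneous 1 :=
  IsHomogeneous.sum _ _ _ fun i _ => by simpa using (isHomogeneous_X K i).C_mul _

omit [CharZero K] [IsAlgClosed K] in
lemma eval_lf (φ : (Fin 4 → K) →ₗ[K] K) (x : Fin 4 → K) : eval x (lf φ) = φ x := by
  conv_rhs => rw [pi_eq_sum_univ' x]
  simp [lf, mul_comm]

omit [IsAlgClosed K] in
lemma mem_span_of_vanish (G : MvPolynomial (Fin 4) K) (φ : (Fin 4 → K) →ₗ[K] K) (hφ : φ ≠ 0)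
    (ℓ : MvPolynomial (Fin 4) K) (hℓ : ∀ x, eval x ℓ = φ x)
    (h : ∀ x, φ x = 0 → eval x G = 0) : G ∈ Ideal.span {ℓ} := by
  obtain ⟨z, hz⟩ := LinearMap.surjective hφ 1
  let σ : MvPolynomial (Fin 4) K →ₐ[K] MvPolynomial (Fin 4) K := aeval fun i => X i - ℓ * C (z i)
  have h0 : σ G = 0 := by
    have : Infinite K := Infinite.of_injective ((↑) : ℕ → K) Nat.cast_injective
    refine MvPolynomial.funext fun x => ?_
    have e : eval x (σ G) = eval (x - φ x • z) G := by
      show (aeval x) (σ G) = aeval (x - φ x • z) G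
      rw [← AlgHom.comp_apply, comp_aeval]
      congr 2
      funext i
      simp [hℓ, aeval_eq_eval]
    rw [e, map_zero, h _ (by simp [hz])]
  have hq : (Ideal.Quotient.mkₐ K (Ideal.span {ℓ})).comp σ = Ideal.Quotient.mkₐ K (Ideal.span {ℓ}) := by
    refine algHom_ext fun i => ?_
    simp only [σ, AlgHom.comp_apply, aeval_X, Ideal.Quotient.mkₐ_eq_mk]
    rw [Ideal.Quotient.eq]
    exact Ideal.mem_span_singleton'.2 ⟨-C (z i), by ring⟩
  have := DFunLike.congr_fun hq G
  rw [AlgHom.comp_apply, h0, map_zero, Ideal.Quotient.mkₐ_eq_mk, eq_comm,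
    Ideal.Quotient.eq_zero_iff_mem] at this
  exact this

theorem polar_inter_tangent (F : MvPolynomial (Fin 4) K) (hF : F.IsHomogeneous 3)
    (a : Fin 4 → K) (ha : a ≠ 0) (hFa : eval a F = 0)
    (hsm : ∃ i : Fin 4, eval a (pderiv i F) ≠ 0) (ℓ : MvPolynomial (Fin 4) K)
    (hℓ : ℓ = ∑ i : Fin 4, C (eval a (pderiv i F)) * X i)
    (hT : ¬ ∃ L₁ L₂ L₃ : MvPolynomial (Fin 4) K, L₁.IsHomogeneous 1 ∧ L₂.IsHomogeneous 1 ∧
      L₃.IsHomogeneous 1 ∧ F - L₁ * L₂ * L₃ ∈ Ideal.span {ℓ})
    (P : MvPolynomial (Fin 4) K) (hP : P = ∑ i : Fin 4, a i • pderiv i F)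
    (H : Submodule K (Fin 4 → K)) (hH : ∀ x : Fin 4 → K, x ∈ H ↔ eval x ℓ = 0) :
    (∃ U₁ U₂ : Submodule K (Fin 4 → K), Module.finrank K ↥U₁ = 2 ∧ Module.finrank K ↥U₂ = 2 ∧
        a ∈ U₁ ∧ a ∈ U₂ ∧ U₁ ≤ H ∧ U₂ ≤ H ∧
        {x : Fin 4 → K | x ∈ H ∧ eval x P = 0} = (U₁ : Set (Fin 4 → K)) ∪ (U₂ : Set (Fin 4 → K))) ∧
      ∀ U : Submodule K (Fin 4 → K), a ∈ U → Module.finrank K ↥U = 2 → (∀ u ∈ U, eval u F = 0) →
        U ≤ H ∧ ∀ u ∈ U, eval u P = 0 := by
  have hPe : ∀ x, eval x P = 3 * tri F a x x := fun x => by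
    rw [hP, map_sum, ← sum_eval_pderiv hF a x]
    simp [smul_eval]
  have hℓe : ∀ x, eval x ℓ = 3 * tri F a a x := fun x => by
    rw [hℓ, map_sum, ← tri_rot F x a a, ← sum_eval_pderiv hF x a]
    simp [mul_comm]
  have hl : tri F a a ≠ 0 := fun h => by
    obtain ⟨y, hy⟩ := exists_tri_ne_zero hF hsm
    exact hy (by rw [tri_rot, h]; rfl)
  have memH : ∀ x, x ∈ H ↔ tri F a a x = 0 := fun x => by rw [hH, hℓe]; simp
  have haaa : tri F a a a = 0 := (eval_eq_tri hF a).symm.trans hFa
  obtain ⟨u, w, hu, hw, hli, hsp⟩ := basis_ker hl ha haaa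
  have hPH : ∀ r s t : K, tri F a (r • a + s • u + t • w) (r • a + s • u + t • w) =
      tri F a u u * s ^ 2 + 2 * tri F a u w * (s * t) + tri F a w w * t ^ 2 := fun r s t => by
    simp only [map_add, map_smul, LinearMap.add_apply, LinearMap.smul_apply, smul_eq_mul,
      tri_swap23 F a u a, tri_swap23 F a w a, tri_swap23 F a w u, haaa, hu, hw]
    ring
  have hq : ¬ (tri F a u u = 0 ∧ tri F a u w = 0 ∧ tri F a w w = 0) := by
    rintro ⟨q0, q1, q2⟩
    obtain ⟨α, β, γ, δ, ε, η, hfac⟩ := binary_cubic_factor (tri F u u u) (3 * tri F u u w)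
      (3 * tri F u w w) (tri F w w w)
    obtain ⟨z, hz⟩ := LinearMap.surjective hl 1
    have hzl : tri F a a z ≠ 0 := by rw [hz]; exact one_ne_zero
    have hind : LinearIndependent K ![a, u, w, z] := by
      rw [Fintype.linearIndependent_iff]
      intro g hg
      simp only [Fin.sum_univ_four, Matrix.cons_val_zero, Matrix.cons_val_one, Matrix.cons_val] at hg
      have e := congrArg (tri F a a) hg
      simp [haaa, hu, hw, hz] at e
      rw [e, zero_smul, add_zero] at hg
      obtain ⟨e0, e1, e2⟩ := hli _ _ _ hg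
      intro i; fin_cases i <;> assumption
    let B := basisOfLinearIndependentOfCardEqFinrank hind (by simp)
    let cs := B.coord 1
    let ct := B.coord 2
    refine hT ⟨lf (α • cs + β • ct), lf (γ • cs + δ • ct), lf (ε • cs + η • ct),
      lf_isHomogeneous _, lf_isHomogeneous _, lf_isHomogeneous _,
      mem_span_of_vanish _ ((3 : K) • tri F a a)
        (smul_ne_zero three_ne_zero hl) ℓ (fun x => by rw [hℓe]; rfl) fun x hx => ?_⟩
    obtain ⟨r, s, t, rfl⟩ := hsp x (by simpa using hx)
    have ea : a = B 0 := by simp [B]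
    have eu : u = B 1 := by simp [B]
    have ew : w = B 2 := by simp [B]
    have hs : cs (r • a + s • u + t • w) = s := by
      simp only [ea, eu, ew, cs, map_add, map_smul, Module.Basis.coord_apply, B.repr_self]; simp
    have ht : ct (r • a + s • u + t • w) = t := by
      simp only [ea, eu, ew, ct, map_add, map_smul, Module.Basis.coord_apply, B.repr_self]; simp
    simp only [map_sub, map_mul, eval_lf, LinearMap.add_apply, LinearMap.smul_apply, hs, ht,
      smul_eq_mul, ← hfac, eval_eq_tri hF]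
    simp only [map_add, map_smul, LinearMap.add_apply, LinearMap.smul_apply, smul_eq_mul,
      tri_swap12 F u a, tri_swap12 F w a, tri_swap23 F a u a, tri_swap23 F a w a,
      tri_swap23 F a w u, tri_rot F u w a, tri_rot F w u a, tri_rot F u u a, tri_rot F w w a,
      tri_swap23 F u w u, tri_rot F w u u, tri_rot F w w u, tri_swap12 F w u w,
      haaa, hu, hw, q0, q1, q2]
    ring
  obtain ⟨α, β, γ, δ, e1, e2, e3⟩ :=
    binary_quad_factor (tri F a u u) (2 * tri F a u w) (tri F a w w)
  have hαβ : α ≠ 0 ∨ β ≠ 0 := by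
    by_contra! h
    apply hq
    simp only [h.1, h.2] at e1 e2 e3
    exact ⟨by simpa using e1, by simpa using e2, by simpa using e3⟩
  have hγδ : γ ≠ 0 ∨ δ ≠ 0 := by
    by_contra! h
    apply hq
    simp only [h.1, h.2] at e1 e2 e3
    exact ⟨by simpa using e1, by simpa using e2, by simpa using e3⟩
  have key : ∀ p q : K, (p ≠ 0 ∨ q ≠ 0) →
      Module.finrank K (Submodule.span K {a, q • u - p • w}) = 2 ∧
        Submodule.span K {a, q • u - p • w} ≤ H ∧
        ∀ r s t : K, r • a + s • u + t • w ∈ Submodule.span K {a, q • u - p • w} ↔ p * s + q * t = 0 := by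
    intro p q hpq
    refine ⟨?_, Submodule.span_le.2 ?_, fun r s t => ⟨fun h => ?_, fun h => ?_⟩⟩
    · have hind : LinearIndependent K ![a, q • u - p • w] := by
        rw [LinearIndependent.pair_iff]
        intro c d e
        obtain ⟨e0, e1, e2⟩ := hli c (d * q) (-(d * p)) (by rw [← e]; module)
        rcases hpq with hp | hq'
        · exact ⟨e0, by simpa [hp] using e2⟩
        · exact ⟨e0, by simpa [hq'] using e1⟩
      rw [← Matrix.range_cons_cons_empty a (q • u - p • w) (![] : Fin 0 → Fin 4 → K),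
        finrank_span_eq_card hind]
      simp
    · rintro x (rfl | rfl)
      · exact (memH _).2 haaa
      · exact (memH _).2 (by simp [hu, hw])
    · obtain ⟨c, d, e⟩ := Submodule.mem_span_pair.1 h
      obtain ⟨-, e1, e2⟩ := hli (c - r) (d * q - s) (-(d * p) - t) (by
        rw [← sub_eq_zero] at e; rw [← e]; module)
      linear_combination -p * e1 - q * e2
    · rcases hpq with hp | hq'
      · refine Submodule.mem_span_pair.2 ⟨r, -t / p, ?_⟩
        have hs : s = -t / p * q := by field_simp; linear_combination h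
        have ht : -(-t / p * p) = t := by field_simp
        have e : r • a + s • u + t • w = r • a + (-t / p * q) • u + (-(-t / p * p)) • w := by
          rw [← hs, ht]
        rw [e]; module
      · refine Submodule.mem_span_pair.2 ⟨r, s / q, ?_⟩
        have hs : s / q * q = s := by field_simp
        have ht : t = -(s / q * p) := by field_simp; linear_combination h
        conv_rhs => rw [← hs, ht]
        module
  obtain ⟨hd1, hH1, hm1⟩ := key α β hαβ
  obtain ⟨hd2, hH2, hm2⟩ := key γ δ hγδ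
  refine ⟨⟨_, _, hd1, hd2, Submodule.subset_span (by simp), Submodule.subset_span (by simp), hH1,
    hH2, ?_⟩, fun U haU _ hUF => ?_⟩
  · ext x
    constructor
    · rintro ⟨hx, hPx⟩
      obtain ⟨r, s, t, rfl⟩ := hsp x ((memH x).1 hx)
      rw [hPe, hPH] at hPx
      have : (α * s + β * t) * (γ * s + δ * t) = 0 := by
        linear_combination (1/3 : K) * hPx - s ^ 2 * e1 - s * t * e2 - t ^ 2 * e3
      rcases mul_eq_zero.1 this with h | h
      exacts [Or.inl ((hm1 r s t).2 h), Or.inr ((hm2 r s t).2 h)]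
    · intro hx
      have hxH : x ∈ H := hx.elim (fun h => hH1 h) (fun h => hH2 h)
      refine ⟨hxH, ?_⟩
      obtain ⟨r, s, t, rfl⟩ := hsp x ((memH x).1 hxH)
      have hz : (α * s + β * t) * (γ * s + δ * t) = 0 := by
        rcases hx with h | h
        · rw [(hm1 r s t).1 h, zero_mul]
        · rw [(hm2 r s t).1 h, mul_zero]
      rw [hPe, hPH]
      linear_combination (3 : K) * hz + 3 * s ^ 2 * e1 + 3 * (s * t) * e2 + 3 * t ^ 2 * e3
  · refine ⟨fun x hx => (memH x).2 (line_dirs hF haU hx hUF).1, fun x hx => ?_⟩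
    rw [hPe, (line_dirs hF haU hx hUF).2.1, mul_zero]

omit [IsAlgClosed K] in
lemma eval_subst_rect {m : ℕ} (A : Matrix (Fin 4) (Fin m) K) (g : MvPolynomial (Fin 4) K)
    (x : Fin m → K) :
    eval x (aeval (fun i => ∑ j, C (A i j) * X j) g) = eval (A.mulVec x) g := by
  induction g using MvPolynomial.induction_on with
  | C a => simp
  | add p q hp hq => rw [map_add, map_add, hp, hq, map_add]
  | mul_X p i hp => rw [map_mul, map_mul, hp, map_mul]; simp [Matrix.mulVec, dotProduct]

theorem squarefree_restrict (hf : f.IsHomogeneous 3)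
    (hsm : ∀ v : Fin 4 → K, v ≠ 0 → eval v f = 0 → ∃ i, eval v (pderiv i f) ≠ 0)
    (A : Matrix (Fin 4) (Fin 3) K) (hA : A.rank = 3) :
    Squarefree (aeval (fun i : Fin 4 => ∑ j : Fin 3, C (A i j) * X j) f) := by
  have : Infinite K := Infinite.of_injective ((↑) : ℕ → K) Nat.cast_injective
  obtain ⟨g, hg⟩ : ∃ g, g = aeval (fun i : Fin 4 => ∑ j : Fin 3, C (A i j) * X j) f := ⟨_, rfl⟩
  have heg : ∀ x, eval x g = eval (A.mulVec x) f := fun x => by rw [hg, eval_subst_rect]
  have hgh : g.IsHomogeneous 3 := by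
    rw [hg]
    have := hf.aeval (g := fun i => ∑ j : Fin 3, C (A i j) * X j) (n := 1) (fun i =>
      IsHomogeneous.sum _ _ _ fun j _ => by simpa using (isHomogeneous_X K j).C_mul (A i j))
    simpa using this
  rw [← hg]
  have hinj : Function.Injective A.mulVecLin := by
    rw [← LinearMap.ker_eq_bot, ← Submodule.finrank_eq_zero]
    have h1 := LinearMap.finrank_range_add_finrank_ker A.mulVecLin
    rw [show Module.finrank K (LinearMap.range A.mulVecLin) = 3 from hA] at h1
    simp at h1
    simpa using h1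
  -- the image hyperplane
  obtain ⟨φ, hφ, hrange⟩ : ∃ φ : (Fin 4 → K) →ₗ[K] K, φ ≠ 0 ∧
      LinearMap.ker φ = LinearMap.range A.mulVecLin := by
    have hlt : LinearMap.range A.mulVecLin < ⊤ := lt_top_iff_ne_top.2 fun e => by
      have : Module.finrank K (LinearMap.range A.mulVecLin) = 3 := hA
      rw [e] at this; simp at this
    obtain ⟨φ, hφ, hle⟩ := Submodule.exists_le_ker_of_lt_top _ hlt
    refine ⟨φ, hφ, (Submodule.eq_of_le_of_finrank_eq hle ?_).symm⟩
    rw [ker_three hφ]; exact hA
  have hg0 : g ≠ 0 := fun e => no_plane hf hsm hφ fun y hy => by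
    obtain ⟨x, rfl⟩ : y ∈ LinearMap.range A.mulVecLin := hrange ▸ hy
    rw [Matrix.mulVecLin_apply, ← heg, e, map_zero]
  intro p hp
  obtain ⟨q, hq⟩ := hp
  have hp0 : p ≠ 0 := fun e => hg0 (by rw [hq, e]; simp)
  have hq0 : q ≠ 0 := fun e => hg0 (by rw [hq, e]; simp)
  have hdeg : g.totalDegree = p.totalDegree + p.totalDegree + q.totalDegree := by
    rw [hq, totalDegree_mul_of_isDomain (mul_ne_zero hp0 hp0) hq0,
      totalDegree_mul_of_isDomain hp0 hp0]
  rw [hgh.totalDegree hg0] at hdeg
  by_contra hunit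
  have hp1 : p.totalDegree = 1 := by
    rcases Nat.eq_zero_or_pos p.totalDegree with h | h
    · refine absurd ?_ hunit
      rw [totalDegree_eq_zero_iff_eq_C.1 h]
      refine RingHom.isUnit_map C (isUnit_iff_ne_zero.2 fun e => hp0 ?_)
      rw [totalDegree_eq_zero_iff_eq_C.1 h, e, map_zero]
    · omega
  -- all partials of `g` vanish where `p` does
  have hpd : ∀ x, eval x p = 0 → ∀ i, eval x (pderiv i g) = 0 := fun x hx i => by
    rw [hq, pderiv_mul, pderiv_mul]
    simp [hx]
  have hpsplit : ∀ x, eval x p =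
      eval x (homogeneousComponent 0 p) + eval x (homogeneousComponent 1 p) := fun x => by
    conv_lhs => rw [← sum_homogeneousComponent p, hp1]
    simp [Finset.sum_range_succ]
  by_cases hc : coeff 0 p = 0
  · -- a singular point of the surface
    obtain ⟨z, hz⟩ : ∃ z, φ z = 1 := LinearMap.surjective hφ 1
    let h : MvPolynomial (Fin 3) K := aeval (fun i : Fin 4 => ∑ j : Fin 3, C (A i j) * X j)
      (∑ l, z l • pderiv l f)
    have hhe : ∀ x, eval x h = 3 * tri f z (A.mulVec x) (A.mulVec x) := fun x => by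
      rw [eval_subst_rect, map_sum, ← sum_eval_pderiv hf]
      simp [smul_eval]
    have hev0 : ∀ ρ : Fin 2, eval (0 : Fin 3 → K) (![p, h] ρ) = 0 := fun ρ => by
      fin_cases ρ
      · show eval (0 : Fin 3 → K) p = 0
        rw [eval_zero]; exact hc
      · show eval (0 : Fin 3 → K) h = 0
        rw [hhe]; simp
    obtain ⟨x, hx0, hx⟩ := H29Ci.exists_ne_zero_common_zero ![p, h] hev0 (show 2 < 3 by norm_num)
    have hxp : eval x p = 0 := hx 0
    have hxh : eval x h = 0 := hx 1
    have hAx : A.mulVec x ≠ 0 := fun e => hx0 (hinj (by simpa using e))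
    have hfAx : eval (A.mulVec x) f = 0 := by rw [← heg, hq]; simp [hxp]
    obtain ⟨y, hy⟩ := exists_tri_ne_zero hf (hsm _ hAx hfAx)
    apply hy
    obtain ⟨w, hw⟩ : y - φ y • z ∈ LinearMap.range A.mulVecLin := hrange ▸ (by simp [hz])
    have e1 : tri g w x x = 0 := by
      have := sum_eval_pderiv hgh w x
      simp [hpd x hxp] at this
      exact this
    have e2 : tri f (A.mulVec w) (A.mulVec x) (A.mulVec x) = tri g w x x := by
      apply mul_left_cancel₀ (show (6 : K) ≠ 0 by norm_num)
      rw [polar hf, polar hgh]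
      simp only [← Matrix.mulVec_add, heg]
    rw [Matrix.mulVecLin_apply] at hw
    have e3 : tri f z (A.mulVec x) (A.mulVec x) = 0 := by
      rw [hhe] at hxh; simpa using hxh
    rw [show y = A.mulVec w + φ y • z by rw [hw]; module, map_add, map_smul, LinearMap.add_apply,
      LinearMap.add_apply, LinearMap.smul_apply, LinearMap.smul_apply, e2, e1, e3, smul_zero, add_zero]
  · -- the partials vanish on a dense set
    have hhom : ∀ i x, eval x (homogeneousComponent 1 p) * eval x (pderiv i g) = 0 := by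
      intro i x
      rcases eq_or_ne (eval x (homogeneousComponent 1 p)) 0 with h | h
      · rw [h, zero_mul]
      have hsc : ∀ (s : K) (n : ℕ) (r : MvPolynomial (Fin 3) K), r.IsHomogeneous n →
          eval (s • x) r = s ^ n * eval x r := fun s n r hr => by
        rw [eval_eq, eval_eq, Finset.mul_sum]
        refine Finset.sum_congr rfl fun d hd => ?_
        have hdn : d.degree = n := by
          have := hr (mem_support_iff.1 hd)
          rwa [Finsupp.degree_eq_weight_one]
        rw [← hdn]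
        simp only [Pi.smul_apply, smul_eq_mul, mul_pow, Finset.prod_mul_distrib,
          Finset.prod_pow_eq_pow_sum]
        rw [show (∑ i ∈ d.support, d i) = d.degree from rfl]
        ring
      have hc0 : eval x (homogeneousComponent 0 p) = coeff 0 p := by
        rw [homogeneousComponent_zero]; simp
      set t := -coeff 0 p / eval x (homogeneousComponent 1 p) with ht
      have ht0 : t ≠ 0 := div_ne_zero (neg_ne_zero.2 hc) h
      have hxt : eval (t • x) p = 0 := by
        rw [hpsplit, hsc t 0 _ (homogeneousComponent_isHomogeneous ..),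
          hsc t 1 _ (homogeneousComponent_isHomogeneous ..), hc0, ht]
        field_simp
        ring
      have h2 := hpd _ hxt i
      rw [hsc t 2 _ (by simpa using hgh.pderiv (i := i))] at h2
      rw [(mul_eq_zero.1 h2).resolve_left (pow_ne_zero 2 ht0), mul_zero]
    have hl0 : homogeneousComponent 1 p ≠ 0 := by
      intro e
      have hpc : p = C (coeff 0 p) := by
        conv_lhs => rw [← sum_homogeneousComponent p, hp1]
        simp [Finset.sum_range_succ, e]
      rw [hpc, totalDegree_C] at hp1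
      omega
    have hz : ∀ i, pderiv i g = 0 := fun i => by
      have : homogeneousComponent 1 p * pderiv i g = 0 :=
        MvPolynomial.funext fun x => by rw [map_mul, hhom i x, map_zero]
      exact (mul_eq_zero.1 this).resolve_left hl0
    apply hg0
    have := hgh.sum_X_mul_pderiv
    simp [hz] at this
    exact this

omit [IsAlgClosed K] in
theorem five_points (G : MvPolynomial (Fin 3) K) (F : MvPolynomial (Fin 4) K)
    (hF : F = rename Fin.succ G) (b : Fin 5 → (Fin 3 → K)) (hb : ∀ j : Fin 5, eval (b j) G = 0)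
    (h3 : ∀ i j l : Fin 5, i ≠ j → j ≠ l → i ≠ l → LinearIndependent K ![b i, b j, b l]) :
    ∃ p : Fin 5 → (Fin 4 → K), (∀ j : Fin 5, eval (p j) F = 0) ∧
      ∀ j : Fin 5, LinearIndependent K (fun i : Fin 4 => p (j.succAbove i)) := by
  classical
  have : Infinite K := Infinite.of_injective ((↑) : ℕ → K) Nat.cast_injective
  have hli : ∀ j : Fin 5, LinearIndependent K (fun i : Fin 3 => b (j.succAbove i.succ)) := fun j => by
    have hinj := Fin.succAbove_right_injective (p := j)
    have := h3 (j.succAbove 1) (j.succAbove 2) (j.succAbove 3)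
      (hinj.ne (by decide)) (hinj.ne (by decide)) (hinj.ne (by decide))
    convert this using 1
    funext i; fin_cases i <;> rfl
  have hex : ∀ j : Fin 5, ∃ c : Fin 3 → K,
      b (j.succAbove 0) = ∑ i : Fin 3, c i • b (j.succAbove i.succ) := fun j => by
    have : b (j.succAbove 0) ∈ Submodule.span K (Set.range fun i : Fin 3 => b (j.succAbove i.succ)) := by
      rw [(hli j).span_eq_top_of_card_eq_finrank (by simp)]; trivial
    obtain ⟨c, hc⟩ := (Submodule.mem_span_range_iff_exists_fun _).1 this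
    exact ⟨c, hc.symm⟩
  choose c hc using hex
  let P : Fin 5 → Polynomial K := fun j => Polynomial.X ^ (j.succAbove 0 : ℕ) -
    ∑ i : Fin 3, Polynomial.C (c j i) * Polynomial.X ^ (j.succAbove i.succ : ℕ)
  have hP : ∀ j, P j ≠ 0 := fun j e => by
    have h := congrArg (fun q => Polynomial.coeff q (j.succAbove 0 : ℕ)) e
    simp only [P, Polynomial.coeff_sub, Polynomial.coeff_X_pow, if_true,
      Polynomial.finsetSum_coeff, Polynomial.coeff_zero] at h
    rw [Finset.sum_eq_zero (fun i _ => ?_)] at h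
    · simp at h
    · rw [Polynomial.coeff_C_mul, Polynomial.coeff_X_pow, if_neg, mul_zero]
      rw [Fin.val_inj]
      exact (Fin.succAbove_right_injective (p := j)).ne (Fin.succ_ne_zero i).symm
  obtain ⟨s, hs⟩ := Infinite.exists_notMem_finset
    (Finset.univ.biUnion fun j => (P j).roots.toFinset)
  simp only [Finset.mem_biUnion, Finset.mem_univ, true_and, Multiset.mem_toFinset, not_exists] at hs
  refine ⟨fun j => Fin.cons (s ^ (j : ℕ)) (b j), fun j => ?_, fun j => ?_⟩
  · rw [hF, eval_rename]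
    convert hb j using 3
    funext i
    simp [Function.comp]
  · have hPs : (P j).eval s ≠ 0 := fun e => hs j ((Polynomial.mem_roots (hP j)).2 e)
    rw [Fintype.linearIndependent_iff]
    intro g hg
    have hgb : ∑ i, g i • b (j.succAbove i) = 0 := by
      funext l
      have := congrFun hg l.succ
      simpa using this
    have hgt : ∑ i, g i * s ^ (j.succAbove i : ℕ) = 0 := by
      have := congrFun hg 0
      simpa using this
    rw [Fin.sum_univ_succ] at hgb hgt
    have hrel : ∀ i : Fin 3, g 0 * c j i + g i.succ = 0 := by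
      refine Fintype.linearIndependent_iff.1 (hli j) _ ?_
      rw [← hgb, hc j, Finset.smul_sum, ← Finset.sum_add_distrib]
      exact Finset.sum_congr rfl fun i _ => by rw [add_smul, mul_smul]
    have hg0 : g 0 = 0 := by
      have h0 : g 0 * (P j).eval s = 0 := by
        simp only [P, Polynomial.eval_sub, Polynomial.eval_pow, Polynomial.eval_X,
          Polynomial.eval_finsetSum, Polynomial.eval_mul, Polynomial.eval_C, mul_sub, Finset.mul_sum]
        rw [← hgt, sub_eq_add_neg, ← Finset.sum_neg_distrib]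
        congr 1
        exact Finset.sum_congr rfl fun i _ => by
          linear_combination (-(s ^ (j.succAbove i.succ : ℕ))) * hrel i
      exact (mul_eq_zero.1 h0).resolve_right hPs
    intro i
    refine Fin.cases hg0 (fun i => ?_) i
    have := hrel i
    rwa [hg0, zero_mul, zero_add] at this

end Groth.Agent.H25Cubic
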