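import Groth.Agent.H25Cubic.GoodRoot

/-! Pfaffian representations over extensions of degree at most three. -/

set_option autoImplicit false
universe u

namespace Groth.Agent.H25Cubic
open MvPolynomial

variable {k : Type u} [Field k] [CharZero k] {F : MvPolynomial (Fin 4) k}

local notation "𝕂" => AlgebraicClosure k

/-- The cubic in the parameter of a line. -/
noncomputable def linePoly (F : MvPolynomial (Fin 4) k) (u w : Fin 4 → k) : Polynomial k :=
  Polynomial.C (eval w F) * Polynomial.X ^ 3 + Polynomial.C (3 * tri F w w u) * Polynomial.X ^ 2 +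
    Polynomial.C (3 * tri F w u u) * Polynomial.X + Polynomial.C (eval u F)

lemma linePoly_natDegree_le (u w : Fin 4 → k) : (linePoly F u w).natDegree ≤ 3 := by
  unfold linePoly; compute_degree

lemma linePoly_ne_zero {u w : Fin 4 → k} (hw : eval w F ≠ 0) : linePoly F u w ≠ 0 := fun h => by
  have := congrArg (fun p => Polynomial.coeff p 3) h
  simp only [linePoly, Polynomial.coeff_add, Polynomial.coeff_C_mul, Polynomial.coeff_X_pow,
    Polynomial.coeff_X, Polynomial.coeff_C, Polynomial.coeff_zero] at this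
  norm_num at this
  exact hw this

lemma aeval_linePoly {A : Type*} [Field A] [CharZero A] [Algebra k A] (hF : F.IsHomogeneous 3)
    (u w : Fin 4 → k) (θ : A) :
    Polynomial.aeval θ (linePoly F u w) =
      eval (fun i => algebraMap k A (u i) + θ * algebraMap k A (w i)) (map (algebraMap k A) F) := by
  have hsum : eval (fun i => algebraMap k A (u i) + θ * algebraMap k A (w i)) (map (algebraMap k A) F) =
      eval ((fun i => algebraMap k A (u i)) + θ • fun i => algebraMap k A (w i)) (map (algebraMap k A) F) := rfl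
  rw [hsum, eval_add_smul (hF.map _)]
  have htri : ∀ x y z : Fin 4 → k, tri (map (algebraMap k A) F) (fun i => algebraMap k A (x i))
      (fun i => algebraMap k A (y i)) (fun i => algebraMap k A (z i)) = algebraMap k A (tri F x y z) := by
    intro x y z
    refine mul_left_cancel₀ (show (6 : A) ≠ 0 by norm_num) ?_
    have he : ∀ v : Fin 4 → k, eval (fun i => algebraMap k A (v i)) (map (algebraMap k A) F) =
        algebraMap k A (eval v F) := fun v => by
      rw [eval_map]; exact (eval₂_comp (algebraMap k A) v F).symm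
    have hadd : ∀ v v' : Fin 4 → k, (fun i => algebraMap k A (v i)) + (fun i => algebraMap k A (v' i)) =
        fun i => algebraMap k A ((v + v') i) := fun v v' => by funext i; simp
    rw [polar (hF.map _)]
    simp only [hadd, he, ← map_sub, ← map_add]
    rw [← polar hF, map_mul, map_ofNat]
  simp only [htri, linePoly, eval_eq_tri hF, map_add, map_mul, Polynomial.aeval_C, map_pow,
    Polynomial.aeval_X, map_ofNat]
  ring

/-- The conclusion from a good root. -/
theorem pfaffian_of_root (hF : F.IsHomogeneous 3) [CharZero 𝕂]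
    (hirr : Irreducible (map (algebraMap k 𝕂) F))
    (hcone : ¬ ∃ v : Fin 4 → k, v ≠ 0 ∧ ∑ i : Fin 4, v i • pderiv i F = 0)
    (u w : Fin 4 → k) (θ : 𝕂) (hne : iv 𝕂 u + θ • iv 𝕂 w ≠ 0)
    (hroot : eval (iv 𝕂 u + θ • iv 𝕂 w) (map (algebraMap k 𝕂) F) = 0)
    (hgood : grad (map (algebraMap k 𝕂) F) (iv 𝕂 u + θ • iv 𝕂 w) = 0 ∨
      ¬ Split (map (algebraMap k 𝕂) F) (grad (map (algebraMap k 𝕂) F) (iv 𝕂 u + θ • iv 𝕂 w))) :
    ∃ M : Matrix (Fin 6) (Fin 6) (MvPolynomial (Fin 4) (IntermediateField.adjoin k {θ})),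
      (∀ i j, (M i j).IsHomogeneous 1) ∧ M.transpose = -M ∧ (∀ i, M i i = 0) ∧
        ∃ c : IntermediateField.adjoin k {θ}, c ≠ 0 ∧
          M.det = C c * (map (algebraMap k (IntermediateField.adjoin k {θ})) F) ^ 2 := by
  let a : Fin 4 → IntermediateField.adjoin k {θ} := fun i =>
    algebraMap k _ (u i) + ⟨θ, IntermediateField.mem_adjoin_simple_self k θ⟩ * algebraMap k _ (w i)
  have hv : (fun i => (a i : 𝕂)) = iv 𝕂 u + θ • iv 𝕂 w := by
    funext i; simp [a, iv]
  exact pfaffian_of_good hF hirr hcone _ a (fun h => hne (by rw [← hv, h]; rfl)) (hv ▸ hroot) (hv ▸ hgood)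

/-- A rational point off the cubic in the coordinate plane `x₀ = 0`. -/
lemma exists_off_coordPlane (hF : F.IsHomogeneous 3) [CharZero 𝕂]
    (hirr : Irreducible (map (algebraMap k 𝕂) F)) : ∃ w : Fin 4 → k, w 0 = 0 ∧ eval w F ≠ 0 := by
  classical
  by_contra! h
  have h0 : (LinearMap.proj 0 : (Fin 4 → 𝕂) →ₗ[𝕂] 𝕂) ≠ 0 := fun e => by
    have := LinearMap.congr_fun e (Pi.single 0 1)
    simp at this
  refine no_plane_of_irreducible (hF.map _) hirr (ker_three h0) fun x hx => ?_
  rw [LinearMap.mem_ker, LinearMap.proj_apply] at hx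
  -- substitute `x₀ = 0`
  haveI : Infinite k := Infinite.of_injective ((↑) : ℕ → k) Nat.cast_injective
  let S : MvPolynomial (Fin 4) k →ₐ[k] MvPolynomial (Fin 4) k :=
    aeval fun i => if i = 0 then (0 : MvPolynomial (Fin 4) k) else X i
  have hev : ∀ (G : MvPolynomial (Fin 4) k),
      eval x (map (algebraMap k 𝕂) (S G)) = eval x (map (algebraMap k 𝕂) G) := fun G => by
    induction G using MvPolynomial.induction_on with
    | C a => simp [S]
    | add p q hp hq => rw [map_add, map_add, map_add, hp, hq, map_add, map_add]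
    | mul_X p i hp =>
      rw [map_mul, map_mul, map_mul, hp, map_mul, map_mul]
      congr 1
      by_cases hi : i = 0 <;> simp [S, hi, hx]
  have e : ∀ (G : MvPolynomial (Fin 4) k) (z : Fin 4 → k),
      eval z (S G) = eval (fun i => if i = 0 then 0 else z i) G := fun G z => by
    induction G using MvPolynomial.induction_on with
    | C a => simp [S]
    | add p q hp hq => rw [map_add, map_add, hp, hq, map_add]
    | mul_X p i hp =>
      rw [map_mul, map_mul, hp, map_mul]
      congr 1
      by_cases hi : i = 0 <;> simp [S, hi]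
  have hg : S F = 0 := MvPolynomial.funext fun y => by
    rw [map_zero, e]
    exact h _ (by simp)
  rw [← hev, hg, map_zero, map_zero]

/-- **Pfaffian representation over an extension of degree at most three.** -/
theorem pfaffian_degree_le_three (hF : F.IsHomogeneous 3) [CharZero 𝕂]
    (hirr : Irreducible (map (algebraMap k 𝕂) F))
    (hcone : ¬ ∃ v : Fin 4 → k, v ≠ 0 ∧ ∑ i : Fin 4, v i • pderiv i F = 0) :
    ∃ E : IntermediateField k 𝕂, FiniteDimensional k E ∧ Module.finrank k E ≤ 3 ∧
      ∃ M : Matrix (Fin 6) (Fin 6) (MvPolynomial (Fin 4) E), (∀ i j, (M i j).IsHomogeneous 1) ∧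
        M.transpose = -M ∧ (∀ i, M i i = 0) ∧
          ∃ c : E, c ≠ 0 ∧ M.det = C c * (map (algebraMap k E) F) ^ 2 := by
  classical
  obtain ⟨w, hw0, hw⟩ := exists_off_coordPlane hF hirr
  have hwK : eval (iv 𝕂 w) (map (algebraMap k 𝕂) F) ≠ 0 := by
    rw [eval_iv]; simpa using hw
  have hint : ∀ θ : 𝕂, IsIntegral k θ := fun θ => (AlgebraicClosure.isAlgebraic k).isAlgebraic θ |>.isIntegral
  rcases exists_start hF hirr hcone with ⟨b, hb, hg, hns⟩ | ⟨a, ha, hFa, hga⟩
  · haveI : Infinite k := Infinite.of_injective ((↑) : ℕ → k) Nat.cast_injective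
    obtain ⟨u, hu, θ, hroot, hgood⟩ := exists_good_root (hF.map _) hb hg hns hwK
      (fun _ => algebraMap k 𝕂 '' {c | c ≠ 0}) fun _ =>
        (Set.finite_singleton (0 : k)).infinite_compl.image (algebraMap k 𝕂).injective.injOn
    choose u₀ hu₀ hu₀' using hu
    obtain rfl : u = iv 𝕂 u₀ := funext fun i => (hu₀' i).symm
    have hne : iv 𝕂 u₀ + θ • iv 𝕂 w ≠ 0 := fun h => hu₀ 0 (by
      have := congrFun h 0
      simpa [iv, hw0] using this)
    refine ⟨IntermediateField.adjoin k {θ}, IntermediateField.adjoin.finiteDimensional (hint θ), ?_,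
      pfaffian_of_root hF hirr hcone u₀ w θ hne hroot hgood⟩
    rw [IntermediateField.adjoin.finrank (hint θ)]
    refine (Polynomial.natDegree_le_of_dvd (minpoly.dvd k θ ?_) (linePoly_ne_zero (u := u₀) hw)).trans
      (linePoly_natDegree_le u₀ w)
    rw [aeval_linePoly hF]
    exact hroot
  · refine ⟨IntermediateField.adjoin k {(0 : 𝕂)}, IntermediateField.adjoin.finiteDimensional (hint 0), ?_,
      pfaffian_of_root hF hirr hcone a a 0 ?_ ?_ (Or.inl ?_)⟩
    · rw [IntermediateField.adjoin.finrank (hint 0), minpoly.zero, Polynomial.natDegree_X]; omega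
    · rw [zero_smul, add_zero]
      exact fun h => ha (funext fun i => (algebraMap k 𝕂).injective (by simpa [iv] using congrFun h i))
    · rw [zero_smul, add_zero, eval_iv, hFa, map_zero]
    · rw [zero_smul, add_zero]; exact hga

end Groth.Agent.H25Cubic
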