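import Groth.Agent.H25Cubic.PfaffExt
import Mathlib.Analysis.Complex.Polynomial.Basic
import Mathlib.Topology.Algebra.MvPolynomial
import Mathlib.Topology.Order.IntermediateValue

/-! Pfaffian representations over real extensions of degree at most three. -/

set_option autoImplicit false
universe u

namespace Groth.Agent.H25Cubic
open MvPolynomial

variable {k : Type u} [Field k] [Algebra k ℝ] {F : MvPolynomial (Fin 4) k}

local notation "𝕂" => AlgebraicClosure k

/-- A cubic with real coefficients has a real root. -/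
lemma exists_real_root (c3 c2 c1 c0 : ℝ) (h3 : c3 ≠ 0) :
    ∃ r : ℝ, c3 * r ^ 3 + c2 * r ^ 2 + c1 * r + c0 = 0 := by
  obtain ⟨a, b, c, ha, hb, hc⟩ : ∃ a b c : ℝ, c2 = c3 * a ∧ c1 = c3 * b ∧ c0 = c3 * c :=
    ⟨c2 / c3, c1 / c3, c0 / c3, by field_simp, by field_simp, by field_simp⟩
  set M := 1 + |a| + |b| + |c| with hM
  have hM1 : 1 ≤ M := by rw [hM]; linarith [abs_nonneg a, abs_nonneg b, abs_nonneg c]
  have hcont : Continuous fun r : ℝ => r ^ 3 + a * r ^ 2 + b * r + c := by fun_prop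
  have hbound : |a| * M ^ 2 + |b| * M + |c| ≤ M ^ 3 - M ^ 2 := by
    have h1 : |b| * M ≤ |b| * M ^ 2 := mul_le_mul_of_nonneg_left (by nlinarith) (abs_nonneg _)
    have h2 : |c| ≤ |c| * M ^ 2 := le_mul_of_one_le_right (abs_nonneg _) (by nlinarith)
    have : M ^ 3 - M ^ 2 = |a| * M ^ 2 + |b| * M ^ 2 + |c| * M ^ 2 := by rw [hM]; ring
    linarith
  have hsq : 0 < M ^ 2 := by positivity
  have hM0 : 0 ≤ M := by linarith
  have b1 := mul_le_mul_of_nonneg_right (le_abs_self a) hsq.le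
  have b2 := mul_le_mul_of_nonneg_right (neg_le_abs b) hM0
  have b3 := mul_le_mul_of_nonneg_right (neg_le_abs a) hsq.le
  have hneg : (-M) ^ 3 + a * (-M) ^ 2 + b * (-M) + c < 0 := by
    linear_combination b1 + b2 + le_abs_self c + hbound + hsq
  have hpos : 0 < M ^ 3 + a * M ^ 2 + b * M + c := by
    linear_combination b3 + b2 + neg_le_abs c + hbound + hsq
  obtain ⟨r, -, hr⟩ := intermediate_value_Icc (show -M ≤ M by linarith) hcont.continuousOn ⟨hneg.le, hpos.le⟩
  exact ⟨r, by rw [ha, hb, hc]; linear_combination c3 * hr⟩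

/-- A real root of a polynomial over `k` comes from the algebraic closure. -/
lemma exists_preimage (ψ : 𝕂 →ₐ[k] ℂ) {p : Polynomial k} (hp : p ≠ 0) {r : ℂ}
    (hr : Polynomial.aeval r p = 0) : ∃ θ : 𝕂, Polynomial.aeval θ p = 0 ∧ ψ θ = r := by
  have hs := (IsAlgClosed.splits (p.map (algebraMap k 𝕂))).eq_prod_roots
  have hr' : ((p.map (algebraMap k 𝕂)).map ψ.toRingHom).eval r = 0 := by
    rw [Polynomial.map_map, show ψ.toRingHom.comp (algebraMap k 𝕂) = algebraMap k ℂ from ψ.comp_algebraMap,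
      ← Polynomial.eval₂_eq_eval_map, ← Polynomial.aeval_def, hr]
  rw [hs, Polynomial.map_mul, Polynomial.map_C, Polynomial.map_multiset_prod, Multiset.map_map,
    Polynomial.eval_mul, Polynomial.eval_C, Polynomial.eval_multiset_prod, Multiset.map_map] at hr'
  rcases mul_eq_zero.mp hr' with h | h
  · exact absurd ((map_eq_zero _).mp h) (by
      exact Polynomial.leadingCoeff_ne_zero.mpr (Polynomial.map_ne_zero hp))
  · obtain ⟨θ, hθ, he⟩ := Multiset.mem_map.mp (Multiset.prod_eq_zero_iff.mp h)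
    refine ⟨θ, ?_, ?_⟩
    · have := (Polynomial.mem_roots'.mp hθ).2
      rwa [Polynomial.IsRoot, ← Polynomial.eval₂_eq_eval_map, ← Polynomial.aeval_def] at this
    · simp at he
      exact (sub_eq_zero.mp he).symm

/-- Values at corresponding points. -/
lemma psi_eval (ψ : 𝕂 →ₐ[k] ℂ) (A : Fin 4 → 𝕂) (a : Fin 4 → ℝ) (h : ∀ i, ψ (A i) = (a i : ℂ))
    (G : MvPolynomial (Fin 4) k) :
    ψ (eval A (map (algebraMap k 𝕂) G)) = ((eval a (map (algebraMap k ℝ) G) : ℝ) : ℂ) := by
  induction G using MvPolynomial.induction_on with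
  | C c => simp [IsScalarTower.algebraMap_apply k ℝ ℂ c]
  | add p q hp hq => simp only [map_add, hp, hq]; push_cast; ring
  | mul_X p i hp => simp only [map_mul, map_X, eval_X, hp, h]; push_cast; ring

/-- From a root with real image to a representation over a real field. -/
theorem pfaffian_real_of_root (hF : F.IsHomogeneous 3) [CharZero k] [CharZero 𝕂]
    (hirr : Irreducible (map (algebraMap k 𝕂) F))
    (hcone : ¬ ∃ v : Fin 4 → k, v ≠ 0 ∧ ∑ i : Fin 4, v i • pderiv i F = 0)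
    (ψ : 𝕂 →ₐ[k] ℂ) (u w : Fin 4 → k) (hw : eval w F ≠ 0) (θ : 𝕂) (r : ℝ) (hθr : ψ θ = (r : ℂ))
    (hne : iv 𝕂 u + θ • iv 𝕂 w ≠ 0)
    (hroot : eval (iv 𝕂 u + θ • iv 𝕂 w) (map (algebraMap k 𝕂) F) = 0)
    (hgood : grad (map (algebraMap k 𝕂) F) (iv 𝕂 u + θ • iv 𝕂 w) = 0 ∨
      ¬ Split (map (algebraMap k 𝕂) F) (grad (map (algebraMap k 𝕂) F) (iv 𝕂 u + θ • iv 𝕂 w))) :
    ∃ E : IntermediateField k ℝ, FiniteDimensional k E ∧ Module.finrank k E ≤ 3 ∧
      ∃ M : Matrix (Fin 6) (Fin 6) (MvPolynomial (Fin 4) E), (∀ i j, (M i j).IsHomogeneous 1) ∧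
        M.transpose = -M ∧ (∀ i, M i i = 0) ∧
          ∃ c : E, c ≠ 0 ∧ M.det = C c * (map (algebraMap k E) F) ^ 2 := by
  have hint : IsIntegral k θ := (AlgebraicClosure.isAlgebraic k).isAlgebraic θ |>.isIntegral
  have hr : Polynomial.aeval r (minpoly k θ) = 0 := by
    apply (algebraMap ℝ ℂ).injective
    rw [map_zero, ← Polynomial.aeval_algebraMap_apply, show algebraMap ℝ ℂ r = ψ θ from hθr.symm,
      Polynomial.aeval_algHom_apply, minpoly.aeval, map_zero]
  let e : IntermediateField.adjoin k {θ} →ₐ[k] ℝ :=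
    (IntermediateField.algHomAdjoinIntegralEquiv k hint).symm ⟨r, by
      rw [Polynomial.mem_aroots]; exact ⟨minpoly.ne_zero hint, hr⟩⟩
  let E := e.fieldRange
  let e' : IntermediateField.adjoin k {θ} ≃ₐ[k] E := AlgEquiv.ofInjectiveField e
  haveI := IntermediateField.adjoin.finiteDimensional hint
  refine ⟨E, Module.Finite.equiv e'.toLinearEquiv, ?_, ?_⟩
  · rw [← e'.toLinearEquiv.finrank_eq, IntermediateField.adjoin.finrank hint]
    refine (Polynomial.natDegree_le_of_dvd (minpoly.dvd k θ ?_) (linePoly_ne_zero (u := u) hw)).trans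
      (linePoly_natDegree_le u w)
    rw [aeval_linePoly hF]
    exact hroot
  obtain ⟨M, hM1, hMt, hMd, c, hc, hdet⟩ := pfaffian_of_root hF hirr hcone u w θ hne hroot hgood
  refine ⟨M.map (map (e' : IntermediateField.adjoin k {θ} →+* E)), fun i j => (hM1 i j).map _, ?_, fun i => ?_,
    e' c, by simpa using hc, ?_⟩
  · ext i j : 2
    have := congrFun (congrFun hMt i) j
    simp only [Matrix.transpose_apply, Matrix.neg_apply] at this
    simp [Matrix.map_apply, this]
  · simp [hMd]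
  · rw [← RingHom.mapMatrix_apply, ← RingHom.map_det, hdet, map_mul, map_pow, map_C, map_map]
    congr 3
    exact congrArg MvPolynomial.map e'.toAlgHom.comp_algebraMap

/-- A rational vector inside the tangent plane, off the cubic. -/
lemma exists_tangent_off {k : Type u} [Field k] [CharZero k] {K : Type u} [Field K] [CharZero K] [IsAlgClosed K]
    [Algebra k K] {F : MvPolynomial (Fin 4) k} (hF : F.IsHomogeneous 3)
    (hirr : Irreducible (map (algebraMap k K) F)) (a : Fin 4 → k)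
    (hg : grad (map (algebraMap k K) F) (iv K a) ≠ 0) :
    ∃ d : Fin 4 → k, tri F d a a = 0 ∧ eval d F ≠ 0 := by
  by_contra! h
  obtain ⟨w, hw, hspan⟩ := exists_ker_family (k := k) (K := K) (g := grad (map (algebraMap k K) F) (iv K a))
    (grad F a) (fun x => tri_iv hF x a a)
  refine no_plane_of_irreducible (hF.map _) hirr (ker_three hg) fun x hx => ?_
  obtain ⟨z, rfl⟩ := hspan x (LinearMap.mem_ker.mp hx)
  let L : Fin 4 → MvPolynomial (Fin 4) k := fun i => ∑ j, C (w j i) * X j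
  haveI : Infinite k := Infinite.of_injective ((↑) : ℕ → k) Nat.cast_injective
  have e : ∀ (G : MvPolynomial (Fin 4) k) (y : Fin 4 → k), eval y (aeval L G) = eval (∑ j, y j • w j) G := fun G y => by
    induction G using MvPolynomial.induction_on with
    | C a => simp
    | add p q hp hq => rw [map_add, map_add, hp, hq, map_add]
    | mul_X p i hp => rw [map_mul, map_mul, hp, map_mul]; simp [L, Finset.sum_apply, mul_comm]
  have eK : ∀ (G : MvPolynomial (Fin 4) k), eval z (map (algebraMap k K) (aeval L G)) =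
      eval (∑ j, z j • iv K (w j)) (map (algebraMap k K) G) := fun G => by
    induction G using MvPolynomial.induction_on with
    | C a => simp
    | add p q hp hq => rw [map_add, map_add, map_add, hp, hq, map_add, map_add]
    | mul_X p i hp => rw [map_mul, map_mul, map_mul, hp, map_mul, map_mul]; simp [L, iv, Finset.sum_apply, mul_comm]
  have h0 : aeval L F = 0 := MvPolynomial.funext fun y => by
    rw [map_zero, e]
    refine h _ ?_
    simp [show ∀ j, tri F (w j) a a = 0 from hw]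
  rw [← eK, h0, map_zero, map_zero]

/-- A real line with three distinct real intersection points with the cubic. -/
lemma exists_three_real {G : MvPolynomial (Fin 4) ℝ} (hG : G.IsHomogeneous 3) {a d n : Fin 4 → ℝ}
    (ha : eval a G = 0) (hd : tri G d a a = 0) (hdF : eval d G ≠ 0) (hn : tri G n a a ≠ 0) :
    ∃ (w : Fin 4 → ℝ) (t₁ t₂ t₃ t₄ : ℝ), eval w G ≠ 0 ∧ t₁ < t₂ ∧ t₂ < t₃ ∧ t₃ < t₄ ∧
      eval (a + t₁ • w) G * eval (a + t₂ • w) G < 0 ∧ eval (a + t₂ • w) G * eval (a + t₃ • w) G < 0 ∧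
      eval (a + t₃ • w) G * eval (a + t₄ • w) G < 0 := by
  set γ := tri G n a a
  set C₀ := eval d G
  have hcont : Continuous fun δ : ℝ => C₀ * eval (d + (-δ * γ * C₀) • n) G := by
    have := MvPolynomial.continuous_eval G
    fun_prop
  have h0 : 0 < C₀ * eval (d + (-(0 : ℝ) * γ * C₀) • n) G := by
    simp only [neg_zero, zero_mul, zero_smul, add_zero]; exact mul_self_pos.mpr hdF
  obtain ⟨ρ, hρ, hball⟩ := Metric.eventually_nhds_iff.mp
    (hcont.continuousAt.eventually (eventually_gt_nhds h0))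
  set δ := ρ / 2 with hδ
  have hδ0 : 0 < δ := by positivity
  have hC := hball (show dist δ 0 < ρ by rw [Real.dist_eq, sub_zero, abs_of_pos hδ0, hδ]; linarith)
  set w := d + (-δ * γ * C₀) • n with hw
  set C₁ := eval w G with hC₁
  set B := tri G w w a with hB
  set A := tri G w a a with hA
  have hAγ : A = -δ * γ * C₀ * γ := by simp [hA, hw, hd, γ]
  have hAC : A * C₁ < 0 := by
    rw [hAγ]
    have : 0 < δ * γ ^ 2 := mul_pos hδ0 (by positivity)
    nlinarith [mul_pos this hC]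
  have hev : ∀ t, eval (a + t • w) G = t * (3 * A + 3 * B * t + C₁ * t ^ 2) := fun t => by
    rw [eval_add_smul hG, ← eval_eq_tri hG a, ha, ← eval_eq_tri hG w]
    simp only [hA, hB, hC₁]; ring
  have hC1 : C₁ ≠ 0 := fun h => by rw [h, mul_zero] at hAC; exact lt_irrefl 0 hAC
  set D := (3 * B) ^ 2 - 4 * C₁ * (3 * A)
  have hD : 0 < D := by nlinarith [sq_nonneg (3 * B)]
  obtain ⟨p, q, hp, hq, hfac⟩ : ∃ p q : ℝ, p < 0 ∧ 0 < q ∧
      ∀ t, 3 * A + 3 * B * t + C₁ * t ^ 2 = C₁ * (t - p) * (t - q) := by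
    set r₁ := (-(3 * B) + Real.sqrt D) / (2 * C₁) with hr₁
    set r₂ := (-(3 * B) - Real.sqrt D) / (2 * C₁) with hr₂
    have hs : Real.sqrt D ^ 2 = D := Real.sq_sqrt hD.le
    have hsum : r₁ + r₂ = -(3 * B) / C₁ := by rw [hr₁, hr₂]; field_simp; ring
    have hprod : r₁ * r₂ = 3 * A / C₁ := by
      rw [hr₁, hr₂]; field_simp; linear_combination -hs
    have hneg : r₁ * r₂ < 0 := by
      rw [hprod, show 3 * A / C₁ = 3 * (A * C₁) / C₁ ^ 2 by field_simp]
      exact div_neg_of_neg_of_pos (by linarith) (by positivity)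
    have hf : ∀ t, 3 * A + 3 * B * t + C₁ * t ^ 2 = C₁ * (t - r₁) * (t - r₂) := fun t => by
      have e1 : C₁ * (r₁ + r₂) = -(3 * B) := by rw [hsum]; field_simp
      have e2 : C₁ * (r₁ * r₂) = 3 * A := by rw [hprod]; field_simp
      linear_combination t * e1 - e2
    rcases lt_trichotomy r₁ 0 with h | h | h
    · exact ⟨r₁, r₂, h, by nlinarith, hf⟩
    · rw [h, zero_mul] at hneg; exact absurd hneg (lt_irrefl 0)
    · exact ⟨r₂, r₁, by nlinarith, h, fun t => by rw [hf]; ring⟩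
  refine ⟨w, p - 1, p / 2, q / 2, q + 1, hC1, by linarith, by linarith, by linarith, ?_⟩
  simp only [hev, hfac]
  have hC2 : 0 < C₁ ^ 2 := by positivity
  have x1 : p / 2 - p > 0 := by linarith
  have x2 : q - p / 2 > 0 := by linarith
  have x3 : q / 2 - p > 0 := by linarith
  have x4 : q - q / 2 > 0 := by linarith
  refine ⟨?_, ?_, ?_⟩
  · nlinarith [mul_pos (mul_pos (mul_pos hC2 (show 0 < -(p - 1) by linarith)) (show (0:ℝ) < 1 by norm_num))
      (mul_pos (mul_pos (show 0 < q - (p - 1) by linarith) (show 0 < -(p / 2) by linarith)) (mul_pos x1 x2))]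
  · nlinarith [mul_pos (mul_pos (mul_pos hC2 (show 0 < -(p / 2) by linarith)) (mul_pos x1 x2))
      (mul_pos (show 0 < q / 2 by linarith) (mul_pos x3 x4))]
  · nlinarith [mul_pos (mul_pos (mul_pos hC2 (show 0 < q / 2 by linarith)) (mul_pos x3 x4))
      (mul_pos (show 0 < q + 1 by linarith) (show 0 < q + 1 - p by linarith))]

/-- **Pfaffian representation over a real extension of degree at most three.** -/
theorem pfaffian_real (hF : F.IsHomogeneous 3)
    (hirr : Irreducible (map (algebraMap k 𝕂) F))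
    (hcone : ¬ ∃ v : Fin 4 → k, v ≠ 0 ∧ ∑ i : Fin 4, v i • pderiv i F = 0) :
    ∃ E : IntermediateField k ℝ, FiniteDimensional k E ∧ Module.finrank k E ≤ 3 ∧
      ∃ M : Matrix (Fin 6) (Fin 6) (MvPolynomial (Fin 4) E), (∀ i j, (M i j).IsHomogeneous 1) ∧
        M.transpose = -M ∧ (∀ i, M i i = 0) ∧
          ∃ c : E, c ≠ 0 ∧ M.det = C c * (map (algebraMap k E) F) ^ 2 := by
  classical
  have hinj : Function.Injective (algebraMap k ℝ) := (algebraMap k ℝ).injective
  haveI : CharZero k := ⟨fun m n h => by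
    have := congrArg (algebraMap k ℝ) h
    simpa using this⟩
  haveI : CharZero 𝕂 := charZero_of_injective_algebraMap (algebraMap k 𝕂).injective
  let ψ : 𝕂 →ₐ[k] ℂ := IsAlgClosed.lift
  set G := map (algebraMap k ℝ) F with hG'
  have hG : G.IsHomogeneous 3 := hF.map _
  let ιR : (Fin 4 → k) → (Fin 4 → ℝ) := fun x i => algebraMap k ℝ (x i)
  have hψiv : ∀ (u w : Fin 4 → k) (θ : 𝕂) (r : ℝ), ψ θ = (r : ℂ) →
      ∀ i, ψ ((iv 𝕂 u + θ • iv 𝕂 w) i) = (((ιR u + r • ιR w) i : ℝ) : ℂ) := by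
    intro u w θ r h i
    simp [iv, ιR, h, IsScalarTower.algebraMap_apply k ℝ ℂ]
  have hroot_real : ∀ (u w : Fin 4 → k), eval w F ≠ 0 → ∀ r : ℝ, eval (ιR u + r • ιR w) G = 0 →
      ∃ θ : 𝕂, ψ θ = (r : ℂ) ∧ eval (iv 𝕂 u + θ • iv 𝕂 w) (map (algebraMap k 𝕂) F) = 0 := by
    intro u w hw r hr
    obtain ⟨θ, h0, hθ⟩ := exists_preimage ψ (linePoly_ne_zero (u := u) hw) (r := (r : ℂ)) (by
      rw [show (r : ℂ) = algebraMap ℝ ℂ r from rfl, Polynomial.aeval_algebraMap_apply, aeval_linePoly hF]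
      rw [show (fun i => algebraMap k ℝ (u i) + r * algebraMap k ℝ (w i)) = ιR u + r • ιR w from rfl, hr, map_zero])
    refine ⟨θ, hθ, ?_⟩
    rw [aeval_linePoly hF] at h0
    exact h0
  -- a rational singular point
  rcases exists_start hF hirr hcone with ⟨b, hb, hgb, hnsb⟩ | ⟨a, ha, hFa, hga⟩
  swap
  · obtain ⟨w, -, hw⟩ := exists_off_coordPlane hF hirr
    refine pfaffian_real_of_root hF hirr hcone ψ a w hw 0 0 (by simp) ?_ ?_ (Or.inl ?_) <;>
      rw [zero_smul, add_zero]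
    · exact fun h => ha (funext fun i => (algebraMap k 𝕂).injective (by simpa [iv] using congrFun h i))
    · rw [eval_iv, hFa, map_zero]
    · exact hga
  -- a real point
  obtain ⟨w₀, hw₀0, hw₀⟩ := exists_off_coordPlane hF hirr
  set u₀ : Fin 4 → k := Pi.single 0 1
  obtain ⟨r, hr⟩ := exists_real_root (eval (ιR w₀) G) (3 * tri G (ιR w₀) (ιR w₀) (ιR u₀))
    (3 * tri G (ιR w₀) (ιR u₀) (ιR u₀)) (eval (ιR u₀) G) (by
      rw [hG', show eval (ιR w₀) (map (algebraMap k ℝ) F) = algebraMap k ℝ (eval w₀ F) by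
        rw [eval_map]; exact (eval₂_comp (algebraMap k ℝ) w₀ F).symm]
      simpa using hw₀)
  have hra : eval (ιR u₀ + r • ιR w₀) G = 0 := by
    rw [eval_add_smul hG, ← eval_eq_tri hG, ← eval_eq_tri hG]; linear_combination hr
  obtain ⟨θ, hθ, hθroot⟩ := hroot_real u₀ w₀ hw₀ r hra
  have hne₀ : iv 𝕂 u₀ + θ • iv 𝕂 w₀ ≠ 0 := fun h => by
    have := congrFun h 0
    simp [iv, u₀, hw₀0] at this
  by_cases hgθ : grad (map (algebraMap k 𝕂) F) (iv 𝕂 u₀ + θ • iv 𝕂 w₀) = 0
  · exact pfaffian_real_of_root hF hirr hcone ψ u₀ w₀ hw₀ θ r hθ hne₀ hθroot (Or.inl hgθ)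
  -- a smooth real point: three distinct real intersection points on a nearby line
  let L := IntermediateField.adjoin k {θ}
  have hint : IsIntegral k θ := (AlgebraicClosure.isAlgebraic k).isAlgebraic θ |>.isIntegral
  let e : L →ₐ[k] ℝ := (IntermediateField.algHomAdjoinIntegralEquiv k hint).symm ⟨r, by
    rw [Polynomial.mem_aroots]
    refine ⟨minpoly.ne_zero hint, ?_⟩
    apply (algebraMap ℝ ℂ).injective
    rw [map_zero, ← Polynomial.aeval_algebraMap_apply, show algebraMap ℝ ℂ r = ψ θ from hθ.symm,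
      Polynomial.aeval_algHom_apply, minpoly.aeval, map_zero]⟩
  let gen : L := ⟨θ, IntermediateField.mem_adjoin_simple_self k θ⟩
  have hegen : e gen = r := IntermediateField.algHomAdjoinIntegralEquiv_symm_apply_gen k hint _
  haveI : CharZero L := charZero_of_injective_algebraMap (algebraMap k L).injective
  let aL : Fin 4 → L := fun i => algebraMap k L (u₀ i) + gen * algebraMap k L (w₀ i)
  set FL := map (algebraMap k L) F with hFL'
  have hmapK : map (algebraMap L 𝕂) FL = map (algebraMap k 𝕂) F := by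
    rw [hFL', map_map, ← IsScalarTower.algebraMap_eq]
  have haK : iv 𝕂 aL = iv 𝕂 u₀ + θ • iv 𝕂 w₀ := by
    funext i
    simp [aL, iv, gen]
  obtain ⟨dL, hdL, hdLF⟩ := exists_tangent_off (K := 𝕂) (hF.map (algebraMap k L)) (by rw [hmapK]; exact hirr) aL
    (by rw [hmapK, haK]; exact hgθ)
  obtain ⟨i₀, hi₀⟩ : ∃ i, tri FL (Pi.single i 1) aL aL ≠ 0 := by
    by_contra! h
    refine hgθ (LinearMap.ext fun x => ?_)
    rw [← haK, ← hmapK]
    conv_lhs => rw [sum_iv (k := L) x]
    rw [map_sum, LinearMap.zero_apply]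
    refine Finset.sum_eq_zero fun i _ => ?_
    rw [map_smul, grad_apply, tri_iv (hF.map (algebraMap k L)), h, map_zero, smul_zero]
  -- transport to `ℝ`
  let eR : (Fin 4 → L) → (Fin 4 → ℝ) := fun x i => e (x i)
  have heval : ∀ x : Fin 4 → L, eval (eR x) G = e (eval x FL) := fun x => by
    rw [hG', hFL', eval_map, eval_map, ← MvPolynomial.aeval_def, ← MvPolynomial.aeval_def]
    exact (congrArg (fun φ : MvPolynomial (Fin 4) k →ₐ[k] ℝ => φ F) (comp_aeval x e)).symm
  have headd : ∀ x y : Fin 4 → L, eR x + eR y = eR (x + y) := fun x y => by funext i; simp [eR]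
  have htri : ∀ x y z : Fin 4 → L, tri G (eR x) (eR y) (eR z) = e (tri FL x y z) := fun x y z => by
    refine mul_left_cancel₀ (show (6 : ℝ) ≠ 0 by norm_num) ?_
    rw [polar hG]
    simp only [headd, heval, ← map_sub, ← map_add]
    rw [← polar (hF.map _), map_mul, map_ofNat]
  have haR : eR aL = ιR u₀ + r • ιR w₀ := by
    funext i
    simp [eR, aL, ιR, hegen]
  obtain ⟨wR, t₁, t₂, t₃, t₄, hwR, h12, h23, h34, s1, s2, s3⟩ := exists_three_real hG
    (a := eR aL) (d := eR dL) (n := eR (Pi.single i₀ 1)) (by rw [haR]; exact hra)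
    (by rw [htri, hdL, map_zero]) (by rw [heval]; exact (map_ne_zero e).mpr hdLF)
    (by rw [htri]; exact (map_ne_zero e).mpr hi₀)
  -- open condition
  let Φ : (Fin 4 → ℝ) × (Fin 4 → ℝ) → ℝ → ℝ := fun x t => eval (x.1 + t • x.2) G
  let O : Set ((Fin 4 → ℝ) × (Fin 4 → ℝ)) := {x | Φ x t₁ * Φ x t₂ < 0 ∧ Φ x t₂ * Φ x t₃ < 0 ∧
    Φ x t₃ * Φ x t₄ < 0 ∧ eval x.2 G ≠ 0}
  have hcΦ : ∀ t, Continuous fun x : (Fin 4 → ℝ) × (Fin 4 → ℝ) => Φ x t := fun t => by
    have := MvPolynomial.continuous_eval G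
    simp only [Φ]; fun_prop
  have hO : IsOpen O := (isOpen_lt ((hcΦ t₁).mul (hcΦ t₂)) continuous_const).inter
    ((isOpen_lt ((hcΦ t₂).mul (hcΦ t₃)) continuous_const).inter
      ((isOpen_lt ((hcΦ t₃).mul (hcΦ t₄)) continuous_const).inter
        (isOpen_ne_fun ((MvPolynomial.continuous_eval G).comp continuous_snd) continuous_const)))
  obtain ⟨ρ, hρ, hsub⟩ := Metric.isOpen_iff.mp hO (eR aL, wR) ⟨s1, s2, s3, hwR⟩
  have hdense : ∀ (x : ℝ), ∀ δ > 0, {c : k | |algebraMap k ℝ c - x| < δ}.Infinite := by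
    intro x δ hδ
    have hinf : {q : ℚ | |(q : ℝ) - x| < δ}.Infinite := by
      obtain ⟨q₁, hq₁⟩ := exists_rat_btwn (show x - δ < x by linarith)
      obtain ⟨q₂, hq₂⟩ := exists_rat_btwn (show x < x + δ by linarith)
      refine (Set.Ioo_infinite (show q₁ < q₂ by exact_mod_cast hq₁.2.trans hq₂.1)).mono fun q hq => ?_
      have e1 : (q₁ : ℝ) < (q : ℝ) := by exact_mod_cast hq.1
      have e2 : (q : ℝ) < (q₂ : ℝ) := by exact_mod_cast hq.2
      show |(q : ℝ) - x| < δ
      rw [abs_lt]; constructor <;> linarith [hq₁.1, hq₂.2]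
    refine (hinf.image (Rat.cast_injective (α := k)).injOn).mono ?_
    rintro _ ⟨q, hq, rfl⟩
    simpa using hq
  choose w hwnear using fun i => (hdense (wR i) (ρ / 2) (by positivity)).nonempty
  have hbox : ∀ u : Fin 4 → k, (∀ i, |algebraMap k ℝ (u i) - eR aL i| < ρ / 2) → (ιR u, ιR w) ∈ O := by
    intro u hu
    refine hsub (Metric.mem_ball.mpr ?_)
    rw [Prod.dist_eq]
    refine max_lt ?_ ?_ <;> refine (dist_pi_lt_iff hρ).mpr fun i => ?_ <;> rw [Real.dist_eq]
    · exact (hu i).trans (by linarith)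
    · have : |algebraMap k ℝ (w i) - wR i| < ρ / 2 := hwnear i
      exact this.trans (by linarith)
  choose u₁ hu₁ using fun i => (hdense (eR aL i) (ρ / 2) (by positivity)).nonempty
  have hwF : eval w F ≠ 0 := fun h => (hbox u₁ hu₁).2.2.2 (by
    show eval (ιR w) G = 0
    rw [hG', eval_map]
    exact (eval₂_comp (algebraMap k ℝ) w F).symm.trans (by rw [h, map_zero]))
  obtain ⟨u, hu, θ', hroot', hgood'⟩ := exists_good_root (hF.map _) hb hgb hnsb
    (show eval (iv 𝕂 w) (map (algebraMap k 𝕂) F) ≠ 0 by rw [eval_iv]; simpa using hwF)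
    (fun i => algebraMap k 𝕂 '' {c : k | |algebraMap k ℝ c - eR aL i| < ρ / 2})
    fun i => (hdense _ _ (by positivity)).image (algebraMap k 𝕂).injective.injOn
  choose u' hu' hu'' using hu
  obtain rfl : u = iv 𝕂 u' := funext fun i => (hu'' i).symm
  obtain ⟨q1, q2, q3, -⟩ := hbox u' hu'
  -- three real roots
  have hivt : ∀ s t : ℝ, s < t → Φ (ιR u', ιR w) s * Φ (ιR u', ιR w) t < 0 →
      ∃ x, s < x ∧ x < t ∧ eval (ιR u' + x • ιR w) G = 0 := by
    intro s t hst hneg
    have hc : Continuous fun x => Φ (ιR u', ιR w) x := by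
      have := MvPolynomial.continuous_eval G
      simp only [Φ]; fun_prop
    rcases mul_neg_iff.mp hneg with ⟨h1, h2⟩ | ⟨h1, h2⟩
    · obtain ⟨x, hx, hx0⟩ := intermediate_value_Ioo' hst.le hc.continuousOn ⟨h2, h1⟩
      exact ⟨x, hx.1, hx.2, hx0⟩
    · obtain ⟨x, hx, hx0⟩ := intermediate_value_Ioo hst.le hc.continuousOn ⟨h1, h2⟩
      exact ⟨x, hx.1, hx.2, hx0⟩
  obtain ⟨x₁, a1, b1, z1⟩ := hivt t₁ t₂ h12 q1
  obtain ⟨x₂, a2, b2, z2⟩ := hivt t₂ t₃ h23 q2
  obtain ⟨x₃, a3, b3, z3⟩ := hivt t₃ t₄ h34 q3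
  set p := (linePoly F u' w).map (algebraMap k ℂ) with hp
  have hp0 : p ≠ 0 := Polynomial.map_ne_zero (linePoly_ne_zero hwF)
  have hmem : ∀ x : ℝ, eval (ιR u' + x • ιR w) G = 0 → (x : ℂ) ∈ p.roots := fun x hx => by
    rw [Polynomial.mem_roots hp0, Polynomial.IsRoot, hp, ← Polynomial.eval₂_eq_eval_map, ← Polynomial.aeval_def,
      show (x : ℂ) = algebraMap ℝ ℂ x from rfl, Polynomial.aeval_algebraMap_apply, aeval_linePoly hF]
    rw [show (fun i => algebraMap k ℝ (u' i) + x * algebraMap k ℝ (w i)) = ιR u' + x • ιR w from rfl, hx, map_zero]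
  have hmemθ : ψ θ' ∈ p.roots := by
    rw [Polynomial.mem_roots hp0, Polynomial.IsRoot, hp, ← Polynomial.eval₂_eq_eval_map, ← Polynomial.aeval_def,
      Polynomial.aeval_algHom_apply, aeval_linePoly hF]
    exact (congrArg ψ hroot').trans (map_zero ψ)
  obtain ⟨x, hx⟩ : ∃ x : ℝ, ψ θ' = (x : ℂ) := by
    by_contra! hne
    have hcard : ({ψ θ', (x₁ : ℂ), (x₂ : ℂ), (x₃ : ℂ)} : Finset ℂ).card ≤ 3 := by
      refine (Finset.card_le_card (t := p.roots.toFinset) ?_).trans ((Multiset.toFinset_card_le _).trans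
        ((Polynomial.card_roots' p).trans (Polynomial.natDegree_map_le.trans (linePoly_natDegree_le u' w))))
      simp [Finset.insert_subset_iff, hmemθ, hmem _ z1, hmem _ z2, hmem _ z3]
    have e12 : (x₁ : ℂ) ≠ x₂ := Complex.ofReal_injective.ne (by linarith)
    have e13 : (x₁ : ℂ) ≠ x₃ := Complex.ofReal_injective.ne (by linarith)
    have e23 : (x₂ : ℂ) ≠ x₃ := Complex.ofReal_injective.ne (by linarith)
    rw [Finset.card_insert_of_notMem (by simp [hne]), Finset.card_insert_of_notMem (by simp [e12, e13]),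
      Finset.card_insert_of_notMem (by simp [e23]), Finset.card_singleton] at hcard
    omega
  refine pfaffian_real_of_root hF hirr hcone ψ u' w hwF θ' x hx (fun h => ?_) hroot' hgood'
  have hR : ιR u' + x • ιR w = 0 := funext fun i => by
    have := congrArg ψ (congrFun h i)
    rw [hψiv u' w θ' x hx i, Pi.zero_apply, map_zero] at this
    exact_mod_cast this
  have hu'0 : ιR u' = (-x) • ιR w := by rw [neg_smul]; exact eq_neg_of_add_eq_zero_left hR
  have hwG : eval (ιR w) G ≠ 0 := by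
    rw [hG', show eval (ιR w) (map (algebraMap k ℝ) F) = algebraMap k ℝ (eval w F) by
      rw [eval_map]; exact (eval₂_comp (algebraMap k ℝ) w F).symm]
    simpa using hwF
  rw [hu'0, ← add_smul, eval_smul_vec hG] at z1 z2
  simp [hwG] at z1 z2
  linarith

end Groth.Agent.H25Cubic
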