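import Groth.Agent.H25Cubic.Residual
import Mathlib.FieldTheory.IsAlgClosed.AlgebraicClosure
import Mathlib.Algebra.MvPolynomial.Funext

/-! Rational points in general position on a cubic surface. -/

set_option autoImplicit false
universe u

namespace Groth.Agent.H25Cubic
open MvPolynomial

variable {k : Type u} [Field k] [CharZero k] {K : Type u} [Field K] [CharZero K] [IsAlgClosed K] [Algebra k K]
variable {F : MvPolynomial (Fin 4) k}

/-- A vector with coordinates in `k`, seen over `K`. -/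
def iv (K : Type u) [Field K] [Algebra k K] (x : Fin 4 → k) : Fin 4 → K := fun i => algebraMap k K (x i)

omit [CharZero k] [CharZero K] [IsAlgClosed K] in
lemma iv_add (x y : Fin 4 → k) : iv K (x + y) = iv K x + iv K y := by funext i; simp [iv]

omit [CharZero k] [CharZero K] [IsAlgClosed K] in
lemma iv_smul (c : k) (x : Fin 4 → k) : iv K (c • x) = algebraMap k K c • iv K x := by funext i; simp [iv]

omit [CharZero k] [CharZero K] [IsAlgClosed K] in
lemma iv_single (i : Fin 4) : iv K (Pi.single i (1 : k)) = Pi.single i 1 := by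
  funext j
  by_cases h : j = i <;> simp [iv, h]

omit [CharZero k] [CharZero K] [IsAlgClosed K] in
lemma eval_iv (G : MvPolynomial (Fin 4) k) (x : Fin 4 → k) :
    eval (iv K x) (map (algebraMap k K) G) = algebraMap k K (eval x G) := by
  rw [eval_map]
  exact (eval₂_comp (algebraMap k K) x G).symm

omit [IsAlgClosed K] in
lemma tri_iv (hF : F.IsHomogeneous 3) (x y z : Fin 4 → k) :
    tri (map (algebraMap k K) F) (iv K x) (iv K y) (iv K z) = algebraMap k K (tri F x y z) := by
  refine mul_left_cancel₀ (show (6 : K) ≠ 0 by norm_num) ?_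
  rw [polar (hF.map _)]
  simp only [← iv_add, eval_iv, ← map_sub, ← map_add]
  rw [← polar hF, map_mul, map_ofNat]

omit [CharZero k] [CharZero K] [IsAlgClosed K] in
lemma sum_iv (x : Fin 4 → K) : x = ∑ i, x i • iv K (Pi.single i (1 : k)) := by
  funext j; simp [iv_single, Finset.sum_apply, Pi.single_apply]

/-- The projection onto the kernel of a functional, with `k`-rational image of `k`-points. -/
lemma exists_ker_family {g : (Fin 4 → K) →ₗ[K] K} (gk : (Fin 4 → k) →ₗ[k] k)
    (hg : ∀ x, g (iv K x) = algebraMap k K (gk x)) :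
    ∃ w : Fin 4 → (Fin 4 → k), (∀ j, gk (w j) = 0) ∧
      ∀ d, g d = 0 → ∃ z : Fin 4 → K, d = ∑ j, z j • iv K (w j) := by
  by_cases h0 : gk = 0
  · exact ⟨fun j => Pi.single j 1, fun j => by simp [h0], fun d _ => ⟨d, sum_iv d⟩⟩
  obtain ⟨v, hv⟩ : ∃ v, gk v = 1 := LinearMap.surjective h0 1
  refine ⟨fun j => Pi.single j 1 - gk (Pi.single j 1) • v, fun j => by simp [hv], fun d hd => ⟨d, ?_⟩⟩
  have e : g d = ∑ j, d j * algebraMap k K (gk (Pi.single j 1)) := by
    conv_lhs => rw [sum_iv (k := k) d]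
    simp only [map_sum, map_smul, hg, smul_eq_mul]
  simp only [sub_eq_add_neg, iv_add, ← neg_smul, iv_smul, smul_add, smul_smul, Finset.sum_add_distrib,
    ← Finset.sum_smul, map_neg, mul_neg, Finset.sum_neg_distrib, ← e, hd]
  simpa using sum_iv d

/-- Residual points over `k` off finitely many planes. -/
lemma exists_point_off (hF : F.IsHomogeneous 3) {b : Fin 4 → k} (hb : eval b F = 0)
    (w : Fin 4 → (Fin 4 → k)) (hw : ∀ j, tri F (w j) b b = 0)
    (Φ : Finset ((Fin 4 → k) →ₗ[k] k))
    (hΦ : ∀ φ ∈ Φ, ∃ (z : Fin 4 → K) (φK : (Fin 4 → K) →ₗ[K] K),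
      (∀ x, φK (iv K x) = algebraMap k K (φ x)) ∧
      φK (resid (map (algebraMap k K) F) (iv K b) (∑ j, z j • iv K (w j))) ≠ 0) :
    ∃ p : Fin 4 → k, eval p F = 0 ∧ ∀ φ ∈ Φ, φ p ≠ 0 := by
  classical
  haveI : Infinite k := Infinite.of_injective ((↑) : ℕ → k) Nat.cast_injective
  let L : Fin 4 → MvPolynomial (Fin 4) k := fun i => ∑ j, C (w j i) * X j
  let P : MvPolynomial (Fin 4) k := ∑ i, C (b i) * pderiv i F
  let lin : ((Fin 4 → k) →ₗ[k] k) → MvPolynomial (Fin 4) k := fun φ =>
    ∑ i, C (φ (Pi.single i 1)) * X i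
  let Q : ((Fin 4 → k) →ₗ[k] k) → MvPolynomial (Fin 4) k := fun φ =>
    -(aeval L F) * C (φ b) + aeval L P * aeval L (lin φ)
  have hdk : ∀ z : Fin 4 → k, (fun i => eval z (L i)) = ∑ j, z j • w j := fun z => by
    funext i; simp [L, Finset.sum_apply, mul_comm]
  have hsub : ∀ (z : Fin 4 → k) (G : MvPolynomial (Fin 4) k),
      eval z (aeval L G) = eval (∑ j, z j • w j) G := fun z G => by
    rw [← hdk]
    induction G using MvPolynomial.induction_on with
    | C a => simp
    | add p q hp hq => rw [map_add, map_add, hp, hq, map_add]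
    | mul_X p i hp => rw [map_mul, map_mul, hp, map_mul]; simp
  have hlin : ∀ φ x, eval x (lin φ) = φ x := fun φ x => by
    conv_rhs => rw [show x = ∑ i, x i • Pi.single i (1 : k) from by
      funext j; simp [Finset.sum_apply, Pi.single_apply]]
    simp only [lin, map_sum, map_mul, eval_C, eval_X, map_smul, smul_eq_mul]
    exact Finset.sum_congr rfl fun i _ => mul_comm _ _
  have hP : ∀ x, eval x P = 3 * tri F b x x := fun x => by
    simp [P, ← sum_eval_pderiv hF b x]
  have hQk : ∀ φ z, eval z (Q φ) = φ (resid F b (∑ j, z j • w j)) := fun φ z => by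
    simp only [Q, map_add, map_mul, map_neg, eval_C, hsub, hlin, hP, resid, map_smul, smul_eq_mul]
  have hQ0 : ∀ φ ∈ Φ, Q φ ≠ 0 := by
    intro φ hφ h0
    obtain ⟨z, φK, hφK, hne⟩ := hΦ φ hφ
    refine hne ?_
    have hmap : ∀ G : MvPolynomial (Fin 4) k, eval z (map (algebraMap k K) (aeval L G)) =
        eval (∑ j, z j • iv K (w j)) (map (algebraMap k K) G) := fun G => by
      induction G using MvPolynomial.induction_on with
      | C a => simp
      | add p q hp hq => rw [map_add, map_add, map_add, hp, hq, map_add, map_add]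
      | mul_X p i hp =>
        rw [map_mul, map_mul, map_mul, hp, map_mul, map_mul]
        simp [L, iv, Finset.sum_apply, mul_comm]
    have hlinK : ∀ x : Fin 4 → K, eval x (map (algebraMap k K) (lin φ)) = φK x := fun x => by
      conv_rhs => rw [sum_iv (k := k) x]
      simp only [lin, map_sum, map_mul, map_C, map_X, eval_C, eval_X, map_smul, hφK, smul_eq_mul]
      exact Finset.sum_congr rfl fun i _ => mul_comm _ _
    have hPK : ∀ x : Fin 4 → K, eval x (map (algebraMap k K) P) =
        3 * tri (map (algebraMap k K) F) (iv K b) x x := fun x => by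
      rw [← sum_eval_pderiv (hF.map _)]
      simp [P, pderiv_map, iv]
    have h := congrArg (fun G => eval z (map (algebraMap k K) G)) h0
    simp only [Q, map_add, map_mul, map_neg, map_zero, map_C, eval_C, hmap, hlinK, hPK] at h
    simp only [resid, map_add, map_smul, smul_eq_mul, hφK]
    exact h
  have hprod : ∏ φ ∈ Φ, Q φ ≠ 0 := Finset.prod_ne_zero_iff.mpr hQ0
  obtain ⟨z, hz⟩ : ∃ z, eval z (∏ φ ∈ Φ, Q φ) ≠ 0 := by
    by_contra! h; exact hprod (MvPolynomial.funext fun z => by rw [h, map_zero])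
  rw [map_prod, Finset.prod_ne_zero_iff] at hz
  refine ⟨resid F b (∑ j, z j • w j), ?_, fun φ hφ => hQk φ z ▸ hz φ hφ⟩
  have hd : tri F (∑ j, z j • w j) b b = 0 := by
    simp [hw]
  rw [resid, eval_add_smul hF]
  simp only [map_smul, LinearMap.smul_apply, smul_eq_mul]
  rw [eval_eq_tri hF] at hb
  rw [tri_swap13 F _ (∑ j, z j • w j) b, hb, hd, eval_eq_tri hF]
  ring

omit [CharZero k] [CharZero K] [IsAlgClosed K] in
lemma exists_extend (φ : (Fin 4 → k) →ₗ[k] k) :
    ∃ φK : (Fin 4 → K) →ₗ[K] K, ∀ x, φK (iv K x) = algebraMap k K (φ x) := by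
  refine ⟨Fintype.linearCombination K fun i => algebraMap k K (φ (Pi.single i 1)), fun x => ?_⟩
  conv_rhs => rw [show x = ∑ i, x i • Pi.single i (1 : k) from by
    funext j; simp [Finset.sum_apply, Pi.single_apply]]
  simp [Fintype.linearCombination_apply, iv, map_sum]

/-- **Rational points off finitely many planes.** -/
theorem exists_ratPoint_off (hF : F.IsHomogeneous 3) (hirr : Irreducible (map (algebraMap k K) F))
    (hcone : ∀ v : Fin 4 → k, v ≠ 0 → ∃ y, tri F v y y ≠ 0) {a : Fin 4 → k} (ha : a ≠ 0)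
    (hFa : eval a F = 0)
    (hns : grad (map (algebraMap k K) F) (iv K a) ≠ 0 →
      ¬ Split (map (algebraMap k K) F) (grad (map (algebraMap k K) F) (iv K a)))
    (Φ : Finset ((Fin 4 → k) →ₗ[k] k)) (hΦ : (0 : (Fin 4 → k) →ₗ[k] k) ∉ Φ) :
    ∃ p : Fin 4 → k, eval p F = 0 ∧ ∀ φ ∈ Φ, φ p ≠ 0 := by
  classical
  set f := map (algebraMap k K) F with hf'
  have hf : f.IsHomogeneous 3 := hF.map _
  have hinj : Function.Injective (algebraMap k K) := (algebraMap k K).injective
  have hgi : ∀ b x, grad f (iv K b) (iv K x) = algebraMap k K (tri F x b b) := fun b x => tri_iv hF x b b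
  choose ext hext using exists_extend (k := k) (K := K)
  have hext0 : ∀ φ ∈ Φ, ext φ ≠ 0 := fun φ hφ h0 => hΦ (by
    convert hφ using 1
    refine (LinearMap.ext fun x => ?_).symm
    have := hext φ x
    rw [h0] at this
    exact hinj (by simpa using this.symm))
  by_cases hg : grad f (iv K a) = 0
  · have ha0 : ∀ x, tri F x a a = 0 := fun x => hinj (by rw [← hgi, hg]; simp)
    obtain ⟨w, -, hwspan⟩ := exists_ker_family (k := k) (K := K) (g := 0) 0 (fun x => by simp)
    refine exists_point_off (K := K) hF hFa w (fun j => ha0 _) Φ fun φ hφ => ?_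
    obtain ⟨y, hy⟩ := hcone a ha
    obtain ⟨d, hd⟩ := exists_resid_singular hf hirr (b := iv K a)
      ⟨iv K y, fun h => hy (hinj (by rw [← tri_iv hF, h, map_zero]))⟩ (hext0 φ hφ)
    obtain ⟨z, rfl⟩ := hwspan d rfl
    exact ⟨z, ext φ, hext φ, hd⟩
  -- smooth non-T point: first move inside the tangent plane
  have hns' := hns hg
  set gk : (Fin 4 → k) →ₗ[k] k := grad F a with hgk
  obtain ⟨w, hw, hwspan⟩ := exists_ker_family (k := k) (K := K) (g := grad f (iv K a)) gk
    (fun x => hgi a x)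
  have hgk0 : gk ≠ 0 := fun h => hg (LinearMap.ext fun x => by
    obtain ⟨x, rfl⟩ : ∃ z : Fin 4 → K, z = x := ⟨x, rfl⟩
    conv_lhs => rw [sum_iv (k := k) x]
    simp only [map_sum, map_smul]
    refine Finset.sum_eq_zero fun i _ => ?_
    rw [hgi, show tri F (Pi.single i 1) a a = gk (Pi.single i 1) from rfl, h]
    simp)
  have hFa' : eval (iv K a) f = 0 := by rw [hf', eval_iv, hFa, map_zero]
  have haaa : tri F a a a = 0 := (eval_eq_tri hF a).symm.trans hFa
  have hker3 : Module.finrank k (LinearMap.ker gk) = 3 := by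
    have := LinearMap.finrank_range_add_finrank_ker gk
    rw [LinearMap.range_eq_top.2 (LinearMap.surjective hgk0)] at this
    simp at this
    omega
  have hqex : ∃ e, gk e = 0 ∧ tri F a e e ≠ 0 := by
    by_contra! hall
    refine hns' ?_
    obtain ⟨u, v, hu, hv, -, hspan⟩ := basis_ker hg (show iv K a ≠ 0 from fun h => ha (funext fun i => hinj (by
      simpa [iv] using congrFun h i))) (show grad f (iv K a) (iv K a) = 0 by rw [hgi, haaa, map_zero])
    have hz : ∀ d, grad f (iv K a) d = 0 → tri f (iv K a) d d = 0 := fun d hd => by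
      obtain ⟨z, rfl⟩ := hwspan d hd
      have hb : ∀ i j, tri F a (w i) (w j) = 0 := fun i j => by
        have := hall (w i + w j) (by rw [map_add, hw, hw, add_zero])
        simp [hall _ (hw i), hall _ (hw j), tri_swap23 F a (w j) (w i)] at this
        linear_combination this
      have hb' : ∀ i j, tri f (iv K a) (iv K (w i)) (iv K (w j)) = 0 := fun i j => by
        rw [hf', tri_iv hF, hb, map_zero]
      simp only [map_sum, map_smul, LinearMap.sum_apply, LinearMap.smul_apply, hb',
        smul_zero, Finset.sum_const_zero]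
    refine split_of_cone hf hg hu hv (show grad f (iv K a) (iv K a) = 0 by rw [hgi, haaa, map_zero])
      (fun x hx => by obtain ⟨r, s, t, rfl⟩ := hspan x hx; exact ⟨s, t, r, by abel⟩)
      (fun x hx => hx) (hz u hu) ?_ (hz v hv)
    have := hz (u + v) (by rw [map_add, hu, hv, add_zero])
    simp [hz u hu, hz v hv, tri_swap23 f (iv K a) v u] at this
    linear_combination this
  obtain ⟨e₂, he₂, hq₂⟩ := hqex
  have hae : LinearIndependent k ![a, e₂] := by
    rw [LinearIndependent.pair_iff' ha]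
    intro c hc
    refine hq₂ ?_
    rw [← hc]
    simp [haaa]
  obtain ⟨e₁, he₁, he₁'⟩ : ∃ e₁ ∈ LinearMap.ker gk, e₁ ∉ Submodule.span k {a, e₂} := by
    by_contra! h
    have h1 := Submodule.finrank_mono (show LinearMap.ker gk ≤ Submodule.span k {a, e₂} from h)
    have h2 : Module.finrank k ↥(Submodule.span k ({a, e₂} : Set (Fin 4 → k))) ≤ 2 := by
      rw [← Matrix.range_cons_cons_empty a e₂ (![] : Fin 0 → Fin 4 → k)]
      exact (finrank_range_le_card _).trans (by simp)
    omega
  rw [LinearMap.mem_ker] at he₁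
  have hspank : ∀ x, gk x = 0 → ∃ r s t : k, x = r • e₁ + s • e₂ + t • a := by
    have hli : LinearIndependent k ![e₁, a, e₂] := by
      refine linearIndependent_finCons.mpr ⟨hae, ?_⟩
      rwa [Matrix.range_cons_cons_empty]
    have hrange : Set.range ![e₁, a, e₂] = {e₁, e₂, a} := by
      ext z; simp; tauto
    have hle : Submodule.span k {e₁, e₂, a} ≤ LinearMap.ker gk := Submodule.span_le.mpr (by
      rintro z (rfl | rfl | rfl)
      exacts [he₁, he₂, haaa])
    have heq := Submodule.eq_of_le_of_finrank_eq hle (by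
      rw [hker3, ← hrange, finrank_span_eq_card hli]; simp)
    intro x hx
    obtain ⟨r, s, t, h⟩ := Submodule.mem_span_triple.mp (heq ▸ LinearMap.mem_ker.mpr hx : x ∈ _)
    exact ⟨r, s, t, h.symm⟩
  have D : Pencil f (iv K a) (iv K e₁) (iv K e₂) := by
    refine ⟨hf, hFa', hg, hns', ?_, ?_, fun d hd => ?_, fun h => hq₂ (hinj ?_)⟩
    · exact (tri_iv hF e₁ a a).trans (by rw [show tri F e₁ a a = 0 from he₁, map_zero])
    · exact (tri_iv hF e₂ a a).trans (by rw [show tri F e₂ a a = 0 from he₂, map_zero])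
    · obtain ⟨z, rfl⟩ := hwspan d hd
      choose r s t hrst using fun j => hspank (w j) (hw j)
      refine ⟨∑ j, z j * algebraMap k K (r j), ∑ j, z j * algebraMap k K (s j),
        ∑ j, z j * algebraMap k K (t j), ?_⟩
      simp only [hrst, iv_add, iv_smul, smul_add, smul_smul, Finset.sum_add_distrib, ← Finset.sum_smul]
    · rw [← tri_iv hF, h, map_zero]
  -- choose a rational parameter
  have hbad : ({t : K | pq f (iv K a) (iv K e₁) (iv K e₂) t = 0} ∪
      ({t : K | pq f (iv K a) (iv K e₁) (iv K e₂) t ≠ 0 ∧ Split f (grad f (pb f (iv K a) (iv K e₁) (iv K e₂) t))} ∪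
      ⋃ φ ∈ Φ, {t : K | pq f (iv K a) (iv K e₁) (iv K e₂) t ≠ 0 ∧
        Par (ext φ) (grad f (pb f (iv K a) (iv K e₁) (iv K e₂) t))})).Finite :=
    D.finite_pq_zero.union (D.finite_bad_split.union
      (Φ.finite_toSet.biUnion fun φ hφ => D.finite_bad_par (hext0 φ hφ)))
  haveI : Infinite k := Infinite.of_injective ((↑) : ℕ → k) Nat.cast_injective
  obtain ⟨t, ht⟩ := Infinite.exists_notMem_finset (hbad.preimage (hinj.injOn)).toFinset
  simp only [Set.Finite.mem_toFinset, Set.mem_preimage, Set.mem_union, Set.mem_iUnion, not_or,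
    Set.mem_ofPred_eq, not_exists, not_and] at ht
  obtain ⟨hq, hsp, hpar⟩ := ht
  set b : Fin 4 → k := (-tri F (e₁ + t • e₂) (e₁ + t • e₂) (e₁ + t • e₂)) • a +
    (3 * tri F a (e₁ + t • e₂) (e₁ + t • e₂)) • (e₁ + t • e₂) with hb
  have hbK : iv K b = pb f (iv K a) (iv K e₁) (iv K e₂) (algebraMap k K t) := by
    rw [hb, pb, pc, pq, ← iv_smul, ← iv_add, tri_iv hF, tri_iv hF]
    rw [iv_add, iv_smul, iv_smul, map_neg, map_mul, map_ofNat]
  have hFb : eval b F = 0 := hinj (by rw [← eval_iv, hbK, D.eval_pb, map_zero])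
  set gb : (Fin 4 → k) →ₗ[k] k := grad F b
  obtain ⟨w', hw', hwspan'⟩ := exists_ker_family (k := k) (K := K) (g := grad f (iv K b)) gb (fun x => hgi b x)
  refine exists_point_off (K := K) hF hFb w' (fun j => hw' j) Φ fun φ hφ => ?_
  have hgb : grad f (iv K b) ≠ 0 := fun h => by
    have := D.grad_pb_a (algebraMap k K t)
    rw [← hbK, ← grad_apply, h] at this
    simp [hq] at this
  obtain ⟨d, hd, hne⟩ := exists_resid_smooth hf (by rw [hf', eval_iv, hFb, map_zero]) hgb
    (hbK ▸ hsp hq) (φ := ext φ) (hbK ▸ hpar φ hφ hq)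
  obtain ⟨z, rfl⟩ := hwspan' d hd
  exact ⟨z, ext φ, hext φ, hne⟩

/-- **Five rational points in general position.** -/
theorem exists_five (hF : F.IsHomogeneous 3) (hirr : Irreducible (map (algebraMap k K) F))
    (hcone : ∀ v : Fin 4 → k, v ≠ 0 → ∃ y, tri F v y y ≠ 0) {a : Fin 4 → k} (ha : a ≠ 0)
    (hFa : eval a F = 0)
    (hns : grad (map (algebraMap k K) F) (iv K a) ≠ 0 →
      ¬ Split (map (algebraMap k K) F) (grad (map (algebraMap k K) F) (iv K a))) :
    ∃ p : Fin 5 → (Fin 4 → k), p 0 = a ∧ (∀ j : Fin 5, eval (p j) F = 0) ∧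
      ∀ j : Fin 5, LinearIndependent k (fun i : Fin 4 => p (j.succAbove i)) := by
  classical
  have hfun : ∀ {m : ℕ} (v : Fin m → (Fin 4 → k)), m < 4 →
      ∃ φ : (Fin 4 → k) →ₗ[k] k, φ ≠ 0 ∧ ∀ i, φ (v i) = 0 := by
    intro m v hm
    obtain ⟨x, hx⟩ : ∃ x, x ∉ Submodule.span k (Set.range v) := by
      by_contra! h
      have h1 := finrank_range_le_card (R := k) v
      rw [Set.finrank, Submodule.eq_top_iff'.mpr h, finrank_top, Module.finrank_fin_fun,
        Fintype.card_fin] at h1
      omega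
    obtain ⟨φ, hφx, hφ⟩ := Submodule.exists_le_ker_of_notMem hx
    exact ⟨φ, fun h => hφx (by rw [h]; rfl), fun i => hφ (Submodule.subset_span (Set.mem_range_self i))⟩
  have hoff : ∀ {φ : (Fin 4 → k) →ₗ[k] k} {m : ℕ} {v : Fin m → (Fin 4 → k)} {x : Fin 4 → k},
      (∀ i, φ (v i) = 0) → φ x ≠ 0 → LinearIndependent k v → LinearIndependent k (Fin.cons x v : Fin (m + 1) → _) := by
    intro φ m v x hv hx hli
    refine linearIndependent_finCons.mpr ⟨hli, fun hm => hx ?_⟩
    exact LinearMap.mem_ker.mp (Submodule.span_le.mpr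
      (by rintro _ ⟨i, rfl⟩; exact LinearMap.mem_ker.mpr (hv i)) hm)
  have step := exists_ratPoint_off (K := K) hF hirr hcone ha hFa hns
  have l1 : LinearIndependent k ![a] := linearIndependent_unique_iff.mpr (by simpa using ha)
  obtain ⟨φ₁, h10, h1⟩ := hfun ![a] (by omega)
  obtain ⟨p₁, z1, n1⟩ := step {φ₁} (by simpa using h10.symm)
  have l2 : LinearIndependent k ![p₁, a] := hoff h1 (n1 φ₁ (by simp)) l1
  obtain ⟨φ₂, h20, h2⟩ := hfun ![p₁, a] (by omega)
  obtain ⟨p₂, z2, n2⟩ := step {φ₂} (by simpa using h20.symm)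
  have l3 : LinearIndependent k ![p₂, p₁, a] := hoff h2 (n2 φ₂ (by simp)) l2
  obtain ⟨φ₃, h30, h3⟩ := hfun ![p₂, p₁, a] (by omega)
  obtain ⟨p₃, z3, n3⟩ := step {φ₃} (by simpa using h30.symm)
  let V : Fin 4 → (Fin 4 → k) := ![p₃, p₂, p₁, a]
  have l4 : LinearIndependent k V := hoff h3 (n3 φ₃ (by simp)) l3
  choose ψ hψ0 hψ using fun i : Fin 4 => hfun (fun l : Fin 3 => V (i.succAbove l)) (by omega)
  obtain ⟨p₄, z4, n4⟩ := step (Finset.univ.image ψ) (by simpa using hψ0)
  have key : ∀ i : Fin 4, LinearIndependent k (Fin.cons p₄ (fun l : Fin 3 => V (i.succAbove l)) : Fin 4 → _) :=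
    fun i => hoff (hψ i) (n4 _ (Finset.mem_image_of_mem _ (Finset.mem_univ i)))
      (l4.comp _ Fin.succAbove_right_injective)
  refine ⟨![a, p₁, p₂, p₃, p₄], rfl, fun j => ?_, fun j => ?_⟩
  · fin_cases j <;> assumption
  induction j using Fin.lastCases with
  | last =>
    have := l4.comp Fin.rev Fin.rev_injective
    convert this using 1
    funext i
    fin_cases i <;> rfl
  | cast i =>
    fin_cases i
    · convert (key 3).comp ![3, 2, 1, 0] (by decide) using 1; funext l; fin_cases l <;> rfl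
    · convert (key 2).comp ![3, 2, 1, 0] (by decide) using 1; funext l; fin_cases l <;> rfl
    · convert (key 1).comp ![3, 2, 1, 0] (by decide) using 1; funext l; fin_cases l <;> rfl
    · convert (key 0).comp ![3, 2, 1, 0] (by decide) using 1; funext l; fin_cases l <;> rfl

end Groth.Agent.H25Cubic
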