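import Groth.Agent.H25Cubic.TPoint

/-! Residual points: T-points in a tangent plane, and spreading out from a point. -/

set_option autoImplicit false

namespace Groth.Agent.H25Cubic
open MvPolynomial

variable {K : Type*} [Field K] [CharZero K] [IsAlgClosed K]
variable {f : MvPolynomial (Fin 4) K}

/-- Proportional functionals. -/
def Par (φ g : (Fin 4 → K) →ₗ[K] K) : Prop := ∀ x y, g x * φ y = g y * φ x

/-- A non-T point and a frame of its tangent plane. -/
structure Pencil (f : MvPolynomial (Fin 4) K) (a e₁ e₂ : Fin 4 → K) : Prop where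
  hf : f.IsHomogeneous 3
  fa : eval a f = 0
  ga : grad f a ≠ 0
  ns : ¬ Split f (grad f a)
  h1 : tri f e₁ a a = 0
  h2 : tri f e₂ a a = 0
  span : ∀ x, tri f x a a = 0 → ∃ r s t : K, x = r • e₁ + s • e₂ + t • a
  hq : tri f a e₂ e₂ ≠ 0

/-- `q(t)` -/
noncomputable def pq (f : MvPolynomial (Fin 4) K) (a e₁ e₂ : Fin 4 → K) (t : K) : K :=
  tri f a (e₁ + t • e₂) (e₁ + t • e₂)

/-- `c(t)` -/
noncomputable def pc (f : MvPolynomial (Fin 4) K) (e₁ e₂ : Fin 4 → K) (t : K) : K :=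
  tri f (e₁ + t • e₂) (e₁ + t • e₂) (e₁ + t • e₂)

/-- Residual point of the line through `a` in direction `t`. -/
noncomputable def pb (f : MvPolynomial (Fin 4) K) (a e₁ e₂ : Fin 4 → K) (t : K) : Fin 4 → K :=
  (-pc f e₁ e₂ t) • a + (3 * pq f a e₁ e₂ t) • (e₁ + t • e₂)

variable {a e₁ e₂ : Fin 4 → K}

omit [CharZero K] [IsAlgClosed K] in
lemma id_mem_polys : (fun t : K => t) ∈ polys K := ⟨Polynomial.X, by simp⟩

omit [CharZero K] [IsAlgClosed K] in
lemma const_mem_polys (c : K) : (fun _ : K => c) ∈ polys K := Subalgebra.algebraMap_mem (polys K) c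

omit [CharZero K] [IsAlgClosed K] in
lemma line_mem_polys (u w : Fin 4 → K) (i : Fin 4) : (fun t : K => (u + t • w) i) ∈ polys K := by
  have : (fun t : K => (u + t • w) i) = (fun _ => u i) + (fun t => t) * fun _ => w i := by funext t; simp
  rw [this]
  exact add_mem (const_mem_polys _) (mul_mem id_mem_polys (const_mem_polys _))

omit [CharZero K] [IsAlgClosed K] in
lemma comb_mem_polys {α β : K → K} {u : Fin 4 → K} {Y : K → Fin 4 → K} (hα : α ∈ polys K)
    (hβ : β ∈ polys K) (hY : ∀ i, (fun t => Y t i) ∈ polys K) (i : Fin 4) :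
    (fun t => (α t • u + β t • Y t) i) ∈ polys K := by
  have : (fun t => (α t • u + β t • Y t) i) = α * (fun _ => u i) + β * fun t => Y t i := by funext t; simp
  rw [this]
  exact add_mem (mul_mem hα (const_mem_polys _)) (mul_mem hβ (hY i))

omit [CharZero K] [IsAlgClosed K] in
lemma pq_eq (t : K) : pq f a e₁ e₂ t =
    tri f a e₂ e₂ * t ^ 2 + 2 * tri f a e₁ e₂ * t + tri f a e₁ e₁ := by
  simp [pq, tri_swap23 f a e₂ e₁]; ring

omit [CharZero K] [IsAlgClosed K] in
lemma pc_eq (t : K) : pc f e₁ e₂ t = tri f e₂ e₂ e₂ * t ^ 3 + 3 * tri f e₁ e₂ e₂ * t ^ 2 +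
    3 * tri f e₁ e₁ e₂ * t + tri f e₁ e₁ e₁ := by
  simp [pc, tri_swap12 f e₂ e₁ e₂, tri_swap13 f e₂ e₂ e₁, tri_swap13 f e₂ e₁ e₁, tri_swap23 f e₁ e₂ e₁]
  ring

section P
variable (D : Pencil f a e₁ e₂)
include D

omit [IsAlgClosed K] in
lemma Pencil.aaa : tri f a a a = 0 := (eval_eq_tri D.hf a).symm.trans D.fa

omit [IsAlgClosed K] in
lemma Pencil.a_ne : a ≠ 0 := fun h => D.ga (LinearMap.ext fun x => by simp [h])

lemma Pencil.eval_plane (r s t : K) :
    eval (r • e₁ + s • e₂ + t • a) f = 3 * t * (r ^ 2 * tri f a e₁ e₁ + 2 * r * s * tri f a e₁ e₂ +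
      s ^ 2 * tri f a e₂ e₂) + (r ^ 3 * tri f e₁ e₁ e₁ + 3 * r ^ 2 * s * tri f e₁ e₁ e₂ +
      3 * r * s ^ 2 * tri f e₁ e₂ e₂ + s ^ 3 * tri f e₂ e₂ e₂) := by
  rw [eval_eq_tri D.hf]
  have := eval_three D.hf e₁ e₂ a D.aaa D.h1 D.h2 r s t
  rwa [eval_eq_tri D.hf] at this

lemma Pencil.exists_roots : ∃ r₁ r₂ : K, ∀ t, pq f a e₁ e₂ t = tri f a e₂ e₂ * (t - r₁) * (t - r₂) := by
  obtain ⟨α, β, γ, δ, e1, e2, e3⟩ :=
    binary_quad_factor (tri f a e₂ e₂) (2 * tri f a e₁ e₂) (tri f a e₁ e₁)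
  have hα : α ≠ 0 := fun h => D.hq (by rw [e1, h, zero_mul])
  have hγ : γ ≠ 0 := fun h => D.hq (by rw [e1, h, mul_zero])
  refine ⟨-β / α, -δ / γ, fun t => ?_⟩
  rw [pq_eq, e1, e2, e3]; field_simp; ring

/-- The residual curve passes through `a`. -/
lemma Pencil.exists_curve : ∃ (γ : K → Fin 4 → K) (h : K → K) (t₀ c₀ : K),
    (∀ i, (fun t => γ t i) ∈ polys K) ∧ (∀ t, pb f a e₁ e₂ t = h t • γ t) ∧ c₀ ≠ 0 ∧ γ t₀ = c₀ • a := by
  obtain ⟨r₁, r₂, hr⟩ := D.exists_roots
  have hY := line_mem_polys e₁ e₂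
  have hq' : pq f a e₁ e₂ ∈ polys K := tri_mem_polys (fun i => const_mem_polys (a i)) hY hY
  have hc' : pc f e₁ e₂ ∈ polys K := tri_mem_polys hY hY hY
  have hb : ∀ i, (fun t => pb f a e₁ e₂ t i) ∈ polys K :=
    comb_mem_polys (neg_mem hc') (mul_mem (const_mem_polys (3 : K)) hq') hY
  have hz : ∀ r, pq f a e₁ e₂ r = 0 → pc f e₁ e₂ r ≠ 0 → ∃ (γ : K → Fin 4 → K) (h : K → K) (t₀ c₀ : K),
      (∀ i, (fun t => γ t i) ∈ polys K) ∧ (∀ t, pb f a e₁ e₂ t = h t • γ t) ∧ c₀ ≠ 0 ∧ γ t₀ = c₀ • a :=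
    fun r h0 hc => ⟨pb f a e₁ e₂, fun _ => 1, r, -pc f e₁ e₂ r, hb, fun t => (one_smul _ _).symm,
      neg_ne_zero.mpr hc, by rw [pb, h0, mul_zero, zero_smul, add_zero]⟩
  by_cases h1 : pc f e₁ e₂ r₁ ≠ 0
  · exact hz r₁ (by rw [hr]; ring) h1
  by_cases h2 : pc f e₁ e₂ r₂ ≠ 0
  · exact hz r₂ (by rw [hr]; ring) h2
  push_neg at h1 h2
  let c₂ : K → K := fun t => tri f e₂ e₂ e₂ * (t ^ 2 + t * r₁ + r₁ ^ 2) +
    3 * tri f e₁ e₂ e₂ * (t + r₁) + 3 * tri f e₁ e₁ e₂
  have hc₂ : ∀ t, pc f e₁ e₂ t = (t - r₁) * c₂ t := fun t => by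
    rw [pc_eq] at h1 ⊢; simp only [c₂]; linear_combination h1
  have hsplit : c₂ r₂ = 0 → False := fun h0 => by
    refine D.ns ?_
    obtain ⟨X, Y, Z, hc⟩ := exists_coord D.ga (u := e₁) (w := e₂) (p := a)
      (fun x hx => D.span x hx) D.h1 D.h2 D.aaa
    refine ⟨Y - r₁ • X, Y - r₂ • X, (3 * tri f a e₂ e₂) • Z + tri f e₂ e₂ e₂ • Y +
      (3 * tri f e₁ e₂ e₂ + tri f e₂ e₂ e₂ * (r₁ + r₂)) • X, fun x hx => ?_⟩
    conv_lhs => rw [hc x hx, D.eval_plane]
    have k0 := hr 0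
    have k1 := hr 1
    rw [pq_eq] at k0 k1
    rw [pc_eq] at h1
    simp only [c₂] at h0
    simp only [LinearMap.add_apply, LinearMap.sub_apply, LinearMap.smul_apply, smul_eq_mul]
    linear_combination (3 * Z x * X x ^ 2) * k0 + (3 * Z x * X x * Y x) * (k1 - k0) +
      (X x ^ 2 * Y x) * h0 + X x ^ 3 * (h1 - r₁ * h0)
  by_cases hr12 : r₁ = r₂
  · subst hr12
    refine ⟨fun t => (-c₂ t) • a + (3 * tri f a e₂ e₂ * (t - r₁)) • (e₁ + t • e₂), fun t => t - r₁, r₁,
      -c₂ r₁, comb_mem_polys ?_ ?_ hY, fun t => ?_, neg_ne_zero.mpr hsplit, by simp⟩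
    · have : (fun t => -c₂ t) = -((fun _ => tri f e₂ e₂ e₂) * ((fun t : K => t) ^ 2 + (fun t : K => t) *
          (fun _ => r₁) + fun _ => r₁ ^ 2) + (fun _ => 3 * tri f e₁ e₂ e₂) * ((fun t : K => t) + fun _ => r₁) +
          fun _ => 3 * tri f e₁ e₁ e₂) := by funext t; simp [c₂]
      rw [this]
      exact neg_mem (add_mem (add_mem (mul_mem (const_mem_polys _) (add_mem (add_mem (pow_mem id_mem_polys 2)
        (mul_mem id_mem_polys (const_mem_polys _))) (const_mem_polys _))) (mul_mem (const_mem_polys _)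
        (add_mem id_mem_polys (const_mem_polys _)))) (const_mem_polys _))
    · exact mul_mem (const_mem_polys _) (sub_mem id_mem_polys (const_mem_polys _))
    · rw [pb, hc₂, hr]; module
  · exfalso
    refine hsplit ?_
    have := hc₂ r₂
    rw [h2, eq_comm, mul_eq_zero] at this
    exact this.resolve_left (sub_ne_zero.mpr (Ne.symm hr12))

lemma Pencil.grad_pb_a (t : K) : tri f a (pb f a e₁ e₂ t) (pb f a e₁ e₂ t) = 9 * pq f a e₁ e₂ t ^ 3 := by
  have e1 : tri f a a (e₁ + t • e₂) = 0 := by rw [tri_swap13]; simp [D.h1, D.h2]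
  have e2 : tri f a (e₁ + t • e₂) a = 0 := by rw [tri_swap12]; simp [D.h1, D.h2]
  have e3 : tri f a (e₁ + t • e₂) (e₁ + t • e₂) = pq f a e₁ e₂ t := rfl
  rw [pb]
  generalize e₁ + t • e₂ = Y at e1 e2 e3 ⊢
  simp [D.aaa, e1, e2, e3]; ring

lemma Pencil.eval_pb (t : K) : eval (pb f a e₁ e₂ t) f = 0 := by
  have : pb f a e₁ e₂ t = (3 * pq f a e₁ e₂ t) • e₁ + (3 * pq f a e₁ e₂ t * t) • e₂ +
      (-pc f e₁ e₂ t) • a := by rw [pb]; module
  rw [this, D.eval_plane, pq_eq, pc_eq]; ring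

lemma Pencil.finite_bad_split : {t : K | pq f a e₁ e₂ t ≠ 0 ∧ Split f (grad f (pb f a e₁ e₂ t))}.Finite := by
  obtain ⟨γ, h, t₀, c₀, hγ, hb, hc₀, h0⟩ := D.exists_curve
  have hg : grad f (γ t₀) ≠ 0 := by
    rw [h0, grad_smul]; exact smul_ne_zero (pow_ne_zero 2 hc₀) D.ga
  have hns : ¬ Split f (grad f (γ t₀)) := by rw [h0, split_grad_smul hc₀]; exact D.ns
  refine (finite_split D.hf hγ hg hns).subset fun t ⟨hq, ht⟩ => ?_
  have hht : h t ≠ 0 := fun e => by
    have := D.grad_pb_a t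
    rw [hb, e, zero_smul] at this
    simp [hq] at this
  rw [hb, split_grad_smul hht] at ht
  exact ht

lemma Pencil.finite_bad_par {φ : (Fin 4 → K) →ₗ[K] K} (hφ : φ ≠ 0) :
    {t : K | pq f a e₁ e₂ t ≠ 0 ∧ Par φ (grad f (pb f a e₁ e₂ t))}.Finite := by
  by_cases hφa : φ a = 0
  · refine Set.Finite.subset Set.finite_empty fun t ⟨hq, ht⟩ => hφ (LinearMap.ext fun y => ?_)
    have := ht a y
    rw [hφa, mul_zero, grad_apply, D.grad_pb_a] at this
    simpa [hq] using this
  obtain ⟨γ, h, t₀, c₀, hγ, hb, hc₀, h0⟩ := D.exists_curve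
  by_contra hinf
  obtain ⟨x, hx⟩ : ∃ x, tri f x a a ≠ 0 := by
    by_contra! h; exact D.ga (LinearMap.ext h)
  let d : K → K := fun t => tri f x (γ t) (γ t) * φ a - tri f a (γ t) (γ t) * φ x
  have hd : d ∈ polys K := sub_mem (mul_mem (tri_mem_polys (fun i => const_mem_polys (x i)) hγ hγ)
    (const_mem_polys (φ a))) (mul_mem (tri_mem_polys (fun i => const_mem_polys (a i)) hγ hγ)
    (const_mem_polys (φ x)))
  have := eq_zero_of_polys hd hinf (fun t ⟨hq, ht⟩ => by
    have hht : h t ≠ 0 := fun e => by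
      have := D.grad_pb_a t
      rw [hb, e, zero_smul] at this
      simp [hq] at this
    have h2 := ht x a
    simp only [hb, grad_apply, map_smul, LinearMap.smul_apply, smul_eq_mul] at h2
    simp only [d]
    refine mul_left_cancel₀ (pow_ne_zero 2 hht) ?_
    linear_combination h2) t₀
  simp [d, h0, D.aaa, hx, hφa, hc₀] at this

lemma Pencil.finite_pq_zero : {t : K | pq f a e₁ e₂ t = 0}.Finite := by
  obtain ⟨r₁, r₂, hr⟩ := D.exists_roots
  refine ((Set.finite_singleton r₂).insert r₁).subset fun t ht => ?_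
  rw [Set.mem_ofPred_eq, hr] at ht
  simpa [D.hq, sub_eq_zero] using ht

/-- **Finitely many T-points in a tangent plane.** -/
theorem Pencil.finite_Tpoints :
    Set.Finite {U : Submodule K (Fin 4 → K) | Module.finrank K ↥U = 1 ∧ U ≤ LinearMap.ker (grad f a) ∧
      ∀ b ∈ U, b ≠ 0 → eval b f = 0 ∧ Split f (grad f b)} := by
  obtain ⟨r₁, r₂, hr⟩ := D.exists_roots
  let Y : K → Fin 4 → K := fun r => e₁ + r • e₂
  have hδ : ∀ r, {u : K | Split f (grad f (a + u • Y r))}.Finite := fun r =>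
    finite_split D.hf (line_mem_polys a (Y r)) (t₀ := 0) (by rw [zero_smul, add_zero]; exact D.ga)
      (by rw [zero_smul, add_zero]; exact D.ns)
  refine (((D.finite_bad_split.image fun t => K ∙ pb f a e₁ e₂ t).union
    (((hδ r₁).image fun u => K ∙ (a + u • Y r₁)).union ((hδ r₂).image fun u => K ∙ (a + u • Y r₂)))).union
    (((Set.finite_singleton (K ∙ Y r₂)).insert (K ∙ Y r₁)).insert
      (K ∙ ((-tri f e₂ e₂ e₂) • a + (3 * tri f a e₂ e₂) • e₂)))).subset ?_
  rintro U ⟨hU1, hUH, hUT⟩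
  obtain ⟨b, hbU, hb0⟩ : ∃ b ∈ U, b ≠ 0 := Submodule.exists_mem_ne_zero_of_ne_bot fun e => by
    rw [e, finrank_bot] at hU1; omega
  have hUb : ∀ (z : Fin 4 → K) (c : K), c ≠ 0 → b = c • z → U = K ∙ z := fun z c hc hz => by
    have hz0 : z ≠ 0 := fun e => hb0 (by rw [hz, e, smul_zero])
    refine (Submodule.eq_of_le_of_finrank_eq ?_ (by rw [finrank_span_singleton hz0, hU1])).symm
    rw [Submodule.span_singleton_le_iff_mem]
    exact (U.smul_mem_iff hc).mp (hz ▸ hbU)
  obtain ⟨hfb, hTb⟩ := hUT b hbU hb0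
  obtain ⟨x, y, s, hb⟩ := D.span b (LinearMap.mem_ker.mp (hUH hbU))
  rw [hb, D.eval_plane] at hfb
  by_cases hx : x = 0
  · subst hx
    by_cases hy : y = 0
    · exfalso
      subst hy
      have hs : s ≠ 0 := fun h => hb0 (by rw [hb, h]; simp)
      rw [show b = s • a by rw [hb]; simp, split_grad_smul hs] at hTb
      exact D.ns hTb
    refine Or.inr (Or.inl (hUb _ (y / (3 * tri f a e₂ e₂))
      (div_ne_zero hy (mul_ne_zero three_ne_zero D.hq)) ?_))
    have hs : s = -(y * tri f e₂ e₂ e₂) / (3 * tri f a e₂ e₂) := by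
      rw [eq_div_iff (mul_ne_zero three_ne_zero D.hq)]
      refine mul_left_cancel₀ (pow_ne_zero 2 hy) ?_
      linear_combination hfb
    have h3 : y / (3 * tri f a e₂ e₂) * (3 * tri f a e₂ e₂) = y :=
      div_mul_cancel₀ _ (mul_ne_zero three_ne_zero D.hq)
    rw [hb, smul_add, smul_smul, smul_smul, h3, hs, zero_smul, zero_add, add_comm (y • e₂)]
    congr 1
    congr 1
    ring
  set t := y / x with ht
  set s' := s / x with hs'
  have hb' : b = x • (s' • a + Y t) := by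
    have e1 : x * t = y := mul_div_cancel₀ y hx
    have e2 : x * s' = s := mul_div_cancel₀ s hx
    rw [hb, ← e1, ← e2]; simp only [Y]; module
  have hrel : 3 * s' * pq f a e₁ e₂ t + pc f e₁ e₂ t = 0 := by
    rw [pq_eq, pc_eq, ht, hs']
    field_simp
    linear_combination hfb
  by_cases hq : pq f a e₁ e₂ t = 0
  · have ht' : t = r₁ ∨ t = r₂ := by
      rw [hr] at hq; simpa [D.hq, sub_eq_zero] using hq
    by_cases hs0 : s' = 0
    · rw [hs0, zero_smul, zero_add] at hb'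
      refine Or.inr (Or.inr ?_)
      rcases ht' with h | h
      · exact Or.inl (hUb _ x hx (h ▸ hb'))
      · exact Or.inr (hUb _ x hx (h ▸ hb'))
    · have hb'' : b = (x * s') • (a + s'⁻¹ • Y t) := by
        rw [hb']
        generalize Y t = Z
        rw [smul_add, smul_add, smul_smul, smul_smul, mul_inv_cancel_right₀ hs0]
      have hT : Split f (grad f (a + s'⁻¹ • Y t)) := by
        rwa [hb'', split_grad_smul (mul_ne_zero hx hs0)] at hTb
      refine Or.inl (Or.inr ?_)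
      rcases ht' with h | h
      · exact Or.inl ⟨s'⁻¹, h ▸ hT, (h ▸ hUb _ _ (mul_ne_zero hx hs0) hb'').symm⟩
      · exact Or.inr ⟨s'⁻¹, h ▸ hT, (h ▸ hUb _ _ (mul_ne_zero hx hs0) hb'').symm⟩
  · have hb'' : b = (x / (3 * pq f a e₁ e₂ t)) • pb f a e₁ e₂ t := by
      have h3 : x / (3 * pq f a e₁ e₂ t) * (3 * pq f a e₁ e₂ t) = x :=
        div_mul_cancel₀ _ (mul_ne_zero three_ne_zero hq)
      have hc : x / (3 * pq f a e₁ e₂ t) * -pc f e₁ e₂ t = x * s' := by
        field_simp; linear_combination -hrel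
      rw [hb', pb, show Y t = e₁ + t • e₂ from rfl]
      generalize e₁ + t • e₂ = Z
      rw [smul_add, smul_add, smul_smul, smul_smul, smul_smul, hc, h3]
    have hc := div_ne_zero hx (mul_ne_zero three_ne_zero hq)
    refine Or.inl (Or.inl ⟨t, ⟨hq, ?_⟩, (hUb _ _ hc hb'').symm⟩)
    rwa [hb'', split_grad_smul hc] at hTb

end P

/-- The residual point on the line joining `b` and `d`. -/
noncomputable def resid (f : MvPolynomial (Fin 4) K) (b d : Fin 4 → K) : Fin 4 → K :=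
  (-eval d f) • b + (3 * tri f b d d) • d

omit [IsAlgClosed K] in
lemma eval_resid (hf : f.IsHomogeneous 3) {b d : Fin 4 → K} (hb : eval b f = 0)
    (hd : tri f d b b = 0) : eval (resid f b d) f = 0 := by
  rw [resid, eval_add_smul hf]
  simp only [map_smul, LinearMap.smul_apply, smul_eq_mul]
  rw [eval_eq_tri hf] at hb
  rw [tri_swap13 f d d b, hb, hd, eval_eq_tri hf]
  ring

omit [IsAlgClosed K] in
lemma quad_zero {φ : (Fin 4 → K) →ₗ[K] K} {b d₁ : Fin 4 → K} (hφ1 : φ d₁ ≠ 0) (W : Submodule K (Fin 4 → K))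
    (h1 : d₁ ∈ W) (h : ∀ d ∈ W, tri f b d d * φ d = 0) (d : Fin 4 → K) (hd : d ∈ W) : tri f b d d = 0 := by
  by_cases hφd : φ d = 0
  · have key : ∀ t : K, t ≠ 0 →
        tri f b d d + t * (2 * tri f b d d₁) + t ^ 2 * tri f b d₁ d₁ = 0 := fun t ht => by
      have h2 := h (d + t • d₁) (add_mem hd (W.smul_mem t h1))
      simp [hφd, ht, hφ1, tri_swap23 f b d₁ d] at h2
      linear_combination h2
    linear_combination key 1 one_ne_zero + (1 / 3 : K) * key (-1) (by norm_num) -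
      (1 / 3 : K) * key 2 two_ne_zero
  · simpa [hφd] using h d hd

/-- From a smooth non-T point, residual points leave every other plane. -/
theorem exists_resid_smooth (hf : f.IsHomogeneous 3) {b : Fin 4 → K} (hb : eval b f = 0)
    (hg : grad f b ≠ 0) (hns : ¬ Split f (grad f b)) {φ : (Fin 4 → K) →ₗ[K] K}
    (hpar : ¬ Par φ (grad f b)) : ∃ d, tri f d b b = 0 ∧ φ (resid f b d) ≠ 0 := by
  by_contra! h
  refine hns ?_
  have hbbb : tri f b b b = 0 := (eval_eq_tri hf b).symm.trans hb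
  have hb0 : b ≠ 0 := fun e => hg (LinearMap.ext fun x => by simp [e])
  have hrel : ∀ d, tri f d b b = 0 → eval d f * φ b = 3 * tri f b d d * φ d := fun d hd => by
    have := h d hd
    simp [resid] at this
    linear_combination -this
  obtain ⟨u, w, hu, hw, -, hspan⟩ := basis_ker hg hb0 (show grad f b b = 0 from hbbb)
  have hspan' : ∀ x, grad f b x = 0 → ∃ r s t : K, x = r • u + s • w + t • b := fun x hx => by
    obtain ⟨r, s, t, rfl⟩ := hspan x hx
    exact ⟨s, t, r, by abel⟩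
  by_cases hφb : φ b = 0
  · obtain ⟨d₁, hd₁, hφd₁⟩ : ∃ d, grad f b d = 0 ∧ φ d ≠ 0 := by
      by_contra! h'
      refine hpar fun x y => ?_
      have := h' (grad f b x • y - grad f b y • x) (by simp; ring)
      simp only [map_sub, map_smul, smul_eq_mul] at this
      linear_combination this
    have hz := quad_zero (f := f) (b := b) hφd₁ (LinearMap.ker (grad f b)) hd₁ (fun d hd => by
      have := hrel d (LinearMap.mem_ker.mp hd)
      rw [hφb, mul_zero] at this
      linear_combination (-1 / 3 : K) * this)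
    refine split_of_cone hf hg hu hw hbbb hspan' (fun x hx => hx) (hz u hu) ?_ (hz w hw)
    have := hz (u + w) (add_mem (LinearMap.mem_ker.mpr hu) (LinearMap.mem_ker.mpr hw))
    simp [hz u hu, hz w hw, tri_swap23 f b w u] at this
    linear_combination this
  · obtain ⟨X, Y, Z, hc⟩ := exists_coord hg hspan' hu hw hbbb
    obtain ⟨α, β, γ, δ, e1, e2, e3⟩ := binary_quad_factor (tri f b u u) (2 * tri f b u w) (tri f b w w)
    refine ⟨α • X + β • Y, γ • X + δ • Y, (3 / φ b) • φ, fun x hx => ?_⟩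
    have h1 := hrel x hx
    have hq : tri f b x x = (α * X x + β * Y x) * (γ * X x + δ * Y x) := by
      conv_lhs => rw [hc x hx]
      simp only [map_add, map_smul, LinearMap.add_apply, LinearMap.smul_apply, smul_eq_mul,
        (show tri f b u b = 0 by rw [tri_swap12]; exact hu),
        (show tri f b w b = 0 by rw [tri_swap12]; exact hw),
        (show tri f b b u = 0 by rw [tri_swap13]; exact hu),
        (show tri f b b w = 0 by rw [tri_swap13]; exact hw), hbbb, tri_swap23 f b w u]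
      linear_combination X x ^ 2 * e1 + X x * Y x * e2 + Y x ^ 2 * e3
    simp only [LinearMap.add_apply, LinearMap.smul_apply, smul_eq_mul]
    field_simp
    rw [hq] at h1
    linear_combination h1

/-- From a singular point that is not a vertex, residual points leave every plane. -/
theorem exists_resid_singular (hf : f.IsHomogeneous 3) (hirr : Irreducible f) {b : Fin 4 → K}
    (hcone : ∃ y, tri f b y y ≠ 0)
    {φ : (Fin 4 → K) →ₗ[K] K} (hφ : φ ≠ 0) : ∃ d, φ (resid f b d) ≠ 0 := by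
  by_contra! h
  have hrel : ∀ d, eval d f * φ b = 3 * tri f b d d * φ d := fun d => by
    have := h d
    simp [resid] at this
    linear_combination -this
  by_cases hφb : φ b = 0
  · obtain ⟨d₁, hd₁⟩ : ∃ d, φ d ≠ 0 := by
      by_contra! h'; exact hφ (LinearMap.ext h')
    obtain ⟨y, hy⟩ := hcone
    refine hy (quad_zero (f := f) hd₁ ⊤ trivial (fun d _ => ?_) y trivial)
    have := hrel d
    rw [hφb, mul_zero] at this
    linear_combination (-1 / 3 : K) * this
  · haveI : Infinite K := Infinite.of_injective ((↑) : ℕ → K) Nat.cast_injective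
    set P : MvPolynomial (Fin 4) K := ∑ i, C (b i / φ b) * pderiv i f with hP
    have hPe : ∀ x, eval x P = 3 * tri f b x x / φ b := fun x => by
      simp only [hP, map_sum, map_mul, eval_C, ← sum_eval_pderiv hf b x, Finset.sum_div]
      exact Finset.sum_congr rfl fun i _ => by ring
    have hfac : f = P * lf φ := MvPolynomial.funext fun x => by
      rw [map_mul, hPe, eval_lf]
      field_simp
      linear_combination hrel x
    have h0 : eval (0 : Fin 4 → K) P = 0 := by rw [hPe]; simp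
    have h1 : eval (0 : Fin 4 → K) (lf φ) = 0 := by rw [eval_lf, map_zero]
    rcases (hfac ▸ hirr).isUnit_or_isUnit rfl with hu | hu
    · exact not_isUnit_zero (h0 ▸ hu.map (eval (0 : Fin 4 → K)))
    · exact not_isUnit_zero (h1 ▸ hu.map (eval (0 : Fin 4 → K)))

end Groth.Agent.H25Cubic
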