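import Groth.Agent.H25Cubic.TPoint

/-! T-points stated through ideals and products of linear forms. -/

set_option autoImplicit false

namespace Groth.Agent.H25Cubic
open MvPolynomial

variable {K : Type*} [Field K] [CharZero K] [IsAlgClosed K]
variable {f : MvPolynomial (Fin 4) K}

omit [CharZero K] [IsAlgClosed K] in
lemma exists_functional {L : MvPolynomial (Fin 4) K} (hL : L.IsHomogeneous 1) :
    ∃ l : (Fin 4 → K) →ₗ[K] K, ∀ x, eval x L = l x := by
  refine ⟨Fintype.linearCombination K fun i => constantCoeff (pderiv i L), fun x => ?_⟩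
  have hc : ∀ i, eval x (pderiv i L) = constantCoeff (pderiv i L) := fun i => by
    have h : (pderiv i L).IsHomogeneous 0 := by simpa using hL.pderiv (i := i)
    rw [← totalDegree_zero_iff_isHomogeneous, totalDegree_eq_zero_iff_eq_C] at h
    rw [h, eval_C, constantCoeff_C]
  have := euler_eval hL x
  simp only [hc, Nat.cast_one, one_mul] at this
  simp [Fintype.linearCombination_apply, ← this]

omit [IsAlgClosed K] in
lemma eval_tangentForm (hf : f.IsHomogeneous 3) (b x : Fin 4 → K) :
    eval x (∑ i : Fin 4, C (eval b (pderiv i f)) * X i) = 3 * tri f x b b := by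
  rw [← sum_eval_pderiv hf x b]
  simp [mul_comm]

omit [IsAlgClosed K] in
lemma grad_ne_zero_iff (hf : f.IsHomogeneous 3) (b : Fin 4 → K) :
    grad f b ≠ 0 ↔ ∃ i : Fin 4, eval b (pderiv i f) ≠ 0 := by
  classical
  constructor
  · intro h
    by_contra! h0
    refine h (LinearMap.ext fun x => ?_)
    have := sum_eval_pderiv hf x b
    simp [h0] at this
    simpa using this
  · rintro ⟨i, hi⟩ h
    refine hi ?_
    have := sum_eval_pderiv hf (Pi.single i 1) b
    rw [show tri f (Pi.single i (1 : K)) b b = grad f b (Pi.single i 1) from rfl, h] at this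
    simpa [Pi.single_apply] using this

/-- `Split` is the condition of being congruent to a product of three linear forms. -/
theorem split_iff (hf : f.IsHomogeneous 3) {b : Fin 4 → K} (hg : grad f b ≠ 0) :
    Split f (grad f b) ↔ ∃ L₁ L₂ L₃ : MvPolynomial (Fin 4) K, L₁.IsHomogeneous 1 ∧ L₂.IsHomogeneous 1 ∧
      L₃.IsHomogeneous 1 ∧
        f - L₁ * L₂ * L₃ ∈ Ideal.span {∑ i : Fin 4, C (eval b (pderiv i f)) * X i} := by
  constructor
  · rintro ⟨l, m, n, h⟩
    refine ⟨lf l, lf m, lf n, lf_isHomogeneous l, lf_isHomogeneous m, lf_isHomogeneous n, ?_⟩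
    refine mem_span_of_vanish _ ((3 : K) • grad f b) (smul_ne_zero three_ne_zero hg) _
      (fun x => by rw [eval_tangentForm hf]; rfl) fun x hx => ?_
    rw [map_sub, map_mul, map_mul, eval_lf, eval_lf, eval_lf, h x (by simpa using hx), sub_self]
  · rintro ⟨L, M, N, hL, hM, hN, hmem⟩
    obtain ⟨l, hl⟩ := exists_functional hL
    obtain ⟨m, hm⟩ := exists_functional hM
    obtain ⟨n, hn⟩ := exists_functional hN
    refine ⟨l, m, n, fun x hx => ?_⟩
    obtain ⟨g, hg'⟩ := Ideal.mem_span_singleton.mp hmem
    have := congrArg (eval x) hg'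
    rw [map_sub, map_mul, map_mul, map_mul, eval_tangentForm hf, show tri f x b b = 0 from hx,
      mul_zero, zero_mul, hl, hm, hn, sub_eq_zero] at this
    exact this

end Groth.Agent.H25Cubic
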