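import Groth.Agent.H25Cubic.Lines

/-! Plane cubics which are unions of lines: a Hessian criterion, and T-points. -/

set_option autoImplicit false

namespace Groth.Agent.H25Cubic
open MvPolynomial

variable {K : Type*} [Field K] [CharZero K] [IsAlgClosed K]
variable {f : MvPolynomial (Fin 4) K}

/-- The restriction of `f` to `ker φ` is a product of three linear forms. -/
def Split (f : MvPolynomial (Fin 4) K) (φ : (Fin 4 → K) →ₗ[K] K) : Prop :=
  ∃ l₁ l₂ l₃ : (Fin 4 → K) →ₗ[K] K, ∀ x, φ x = 0 → eval x f = l₁ x * l₂ x * l₃ x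

/-- The Hessian determinant in three given directions. -/
noncomputable def hdet (f : MvPolynomial (Fin 4) K) (y : Fin 3 → Fin 4 → K) (x : Fin 4 → K) : K :=
  (Matrix.of fun i j => tri f (y i) (y j) x).det

omit [CharZero K] [IsAlgClosed K] in
lemma hdet_eq (f : MvPolynomial (Fin 4) K) (y : Fin 3 → Fin 4 → K) (x : Fin 4 → K) :
    hdet f y x = tri f (y 0) (y 0) x * tri f (y 1) (y 1) x * tri f (y 2) (y 2) x
      + 2 * (tri f (y 0) (y 1) x * tri f (y 0) (y 2) x * tri f (y 1) (y 2) x)
      - tri f (y 0) (y 0) x * tri f (y 1) (y 2) x ^ 2 - tri f (y 1) (y 1) x * tri f (y 0) (y 2) x ^ 2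
      - tri f (y 2) (y 2) x * tri f (y 0) (y 1) x ^ 2 := by
  rw [hdet, Matrix.det_fin_three]
  simp only [Matrix.of_apply]
  rw [tri_swap12 f (y 1) (y 0), tri_swap12 f (y 2) (y 0), tri_swap12 f (y 2) (y 1)]
  ring

/-- The Hessian of the restriction is proportional to it. -/
def HessProp (f : MvPolynomial (Fin 4) K) (φ : (Fin 4 → K) →ₗ[K] K) : Prop :=
  ∀ (y : Fin 3 → Fin 4 → K) (x x' : Fin 4 → K), (∀ i, φ (y i) = 0) → φ x = 0 → φ x' = 0 →
    hdet f y x * eval x' f = hdet f y x' * eval x f

omit [IsAlgClosed K] in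
lemma HessProp.of_split (hf : f.IsHomogeneous 3) {φ : (Fin 4 → K) →ₗ[K] K} (h : Split f φ) :
    HessProp f φ := by
  obtain ⟨l, m, n, hl⟩ := h
  intro y x x' hy hx hx'
  have key : ∀ u v w, φ u = 0 → φ v = 0 → φ w = 0 → tri f u v w =
      (l u * m v * n w + l u * m w * n v + l v * m u * n w + l v * m w * n u +
        l w * m u * n v + l w * m v * n u) / 6 := fun u v w hu hv hw => by
    rw [eq_div_iff (show (6 : K) ≠ 0 by norm_num), mul_comm, polar hf,
      hl _ (by simp [hu, hv, hw]), hl _ (by simp [hu, hv]), hl _ (by simp [hu, hw]),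
      hl _ (by simp [hv, hw]), hl _ hu, hl _ hv, hl _ hw]
    simp only [map_add]
    ring
  rw [hdet_eq, hdet_eq, hl x hx, hl x' hx']
  simp only [key _ _ _ (hy _) (hy _) hx, key _ _ _ (hy _) (hy _) hx']
  ring

/-- Coordinates on a plane spanned by three independent vectors. -/
lemma exists_coord {φ : (Fin 4 → K) →ₗ[K] K} (hφ : φ ≠ 0) {u w p : Fin 4 → K}
    (hspan : ∀ x, φ x = 0 → ∃ r s t : K, x = r • u + s • w + t • p)
    (hu : φ u = 0) (hw : φ w = 0) (hp : φ p = 0) :
    ∃ X Y Z : (Fin 4 → K) →ₗ[K] K, ∀ x, φ x = 0 → x = X x • u + Y x • w + Z x • p := by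
  obtain ⟨z, hz⟩ := LinearMap.surjective hφ 1
  let A : (Fin 4 → K) →ₗ[K] (Fin 4 → K) := Fintype.linearCombination K ![u, w, p, z]
  have hA : Function.Surjective A := fun x => by
    obtain ⟨r, s, t, h⟩ := hspan (x - φ x • z) (by simp [hz])
    exact ⟨![r, s, t, φ x], by
      simp [A, Fintype.linearCombination_apply, Fin.sum_univ_four]; rw [← h]; abel⟩
  have hAinj : Function.Injective A :=
    (LinearMap.injective_iff_surjective_of_finrank_eq_finrank rfl).mpr hA
  let E := LinearEquiv.ofBijective A ⟨hAinj, hA⟩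
  refine ⟨(LinearMap.proj 0).comp E.symm.toLinearMap, (LinearMap.proj 1).comp E.symm.toLinearMap,
    (LinearMap.proj 2).comp E.symm.toLinearMap, fun x hx => ?_⟩
  have h := E.apply_symm_apply x
  change A (E.symm x) = x at h
  simp [A, Fintype.linearCombination_apply, Fin.sum_univ_four] at h
  have h3 := congrArg φ h
  simp [hu, hw, hp, hz, hx] at h3
  rw [h3, zero_smul, add_zero] at h
  exact h.symm

lemma eval_three (hf : f.IsHomogeneous 3) (u w p : Fin 4 → K) (hp : tri f p p p = 0)
    (hu : tri f u p p = 0) (hw : tri f w p p = 0) (r s t : K) :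
    eval (r • u + s • w + t • p) f = 3 * t * (r ^ 2 * tri f p u u + 2 * r * s * tri f p u w +
      s ^ 2 * tri f p w w) + (r ^ 3 * tri f u u u + 3 * r ^ 2 * s * tri f u u w +
      3 * r * s ^ 2 * tri f u w w + s ^ 3 * tri f w w w) := by
  rw [eval_eq_tri hf]
  simp only [map_add, map_smul, LinearMap.add_apply, LinearMap.smul_apply, smul_eq_mul, hp, hu, hw,
    (show tri f p p u = 0 by rw [tri_swap13]; exact hu),
    (show tri f p p w = 0 by rw [tri_swap13]; exact hw),
    (show tri f p u p = 0 by rw [tri_swap12]; exact hu),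
    (show tri f p w p = 0 by rw [tri_swap12]; exact hw),
    tri_swap12 f u p u, tri_swap13 f u u p, tri_swap12 f w p w, tri_swap13 f w w p,
    tri_swap23 f p w u, tri_swap12 f u p w, tri_swap12 f w p u, tri_rot f u w p, tri_rot f w u p,
    tri_swap12 f w p u, tri_swap12 f u w u, tri_swap13 f w u u, tri_swap12 f w u w, tri_swap13 f w w u]
  ring

/-- `r u + s w + t p` avoids `p`: a plane cubic which is a cone is three lines. -/
lemma split_of_cone (hf : f.IsHomogeneous 3) {φ : (Fin 4 → K) →ₗ[K] K} (hφ : φ ≠ 0)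
    {u w p : Fin 4 → K} (hu : φ u = 0) (hw : φ w = 0) (hp : φ p = 0)
    (hspan : ∀ x, φ x = 0 → ∃ r s t : K, x = r • u + s • w + t • p)
    (hsing : ∀ x, φ x = 0 → tri f x p p = 0) (h0 : tri f p u u = 0) (h1 : tri f p u w = 0)
    (h2 : tri f p w w = 0) : Split f φ := by
  obtain ⟨X, Y, Z, hc⟩ := exists_coord hφ hspan hu hw hp
  obtain ⟨α, β, γ, δ, ε, η, hfac⟩ := binary_cubic_factor (tri f u u u) (3 * tri f u u w)
    (3 * tri f u w w) (tri f w w w)
  refine ⟨α • X + β • Y, γ • X + δ • Y, ε • X + η • Y, fun x hx => ?_⟩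
  conv_lhs => rw [hc x hx, eval_three hf u w p (hsing p hp) (hsing u hu) (hsing w hw)]
  simp only [h0, h1, h2, LinearMap.add_apply, LinearMap.smul_apply, smul_eq_mul]
  linear_combination hfac (X x) (Y x)

/-- A plane cubic with proportional Hessian and a singular point is three lines. -/
lemma HessProp.split_of_singular (hf : f.IsHomogeneous 3) {φ : (Fin 4 → K) →ₗ[K] K} (hφ : φ ≠ 0)
    (H : HessProp f φ) {p : Fin 4 → K} (hp0 : p ≠ 0) (hp : φ p = 0)
    (hsing : ∀ x, φ x = 0 → tri f x p p = 0) : Split f φ := by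
  obtain ⟨a, b, ha, hb, hli, hsp⟩ := basis_ker hφ hp0 hp
  obtain ⟨i, j, hij, hiso⟩ := binary_isotropic (tri f p a a) (2 * tri f p a b) (tri f p b b)
  -- an isotropic direction and a complement
  obtain ⟨u, w, hu, hw, hspan, huu⟩ : ∃ u w, φ u = 0 ∧ φ w = 0 ∧
      (∀ x, φ x = 0 → ∃ r s t : K, x = r • u + s • w + t • p) ∧ tri f p u u = 0 := by
    have hquu : tri f p (i • a + j • b) (i • a + j • b) = 0 := by
      simp [tri_swap23 f p b a]; linear_combination hiso
    by_cases hi : i = 0
    · have hj : j ≠ 0 := by simpa [hi] using hij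
      refine ⟨i • a + j • b, a, by simp [ha, hb], ha, fun x hx => ?_, hquu⟩
      obtain ⟨r, s, t, rfl⟩ := hsp x hx
      exact ⟨t / j, s, r, by subst hi; rw [zero_smul, zero_add, smul_smul, div_mul_cancel₀ _ hj]; abel⟩
    · refine ⟨i • a + j • b, b, by simp [ha, hb], hb, fun x hx => ?_, hquu⟩
      obtain ⟨r, s, t, rfl⟩ := hsp x hx
      refine ⟨s / i, t - s / i * j, r, ?_⟩
      rw [smul_add, smul_smul, smul_smul, div_mul_cancel₀ _ hi]; module
  have hppp := hsing p hp
  -- the Hessian in the basis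
  have hH : ∀ (u w : Fin 4 → K), φ u = 0 → φ w = 0 → ∀ r s t : K,
      hdet f ![u, w, p] (r • u + s • w + t • p) =
        (r * tri f u u u + s * tri f u u w + t * tri f p u u) * (r * tri f u w w + s * tri f w w w + t * tri f p w w) * 0
        + 2 * ((r * tri f u u w + s * tri f u w w + t * tri f p u w) * (r * tri f p u u + s * tri f p u w) *
          (r * tri f p u w + s * tri f p w w))
        - (r * tri f u u u + s * tri f u u w + t * tri f p u u) * (r * tri f p u w + s * tri f p w w) ^ 2
        - (r * tri f u w w + s * tri f w w w + t * tri f p w w) * (r * tri f p u u + s * tri f p u w) ^ 2 := by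
    intro u w hu hw r s t
    have e1 := hsing u hu
    have e2 := hsing w hw
    rw [hdet_eq]
    simp only [Matrix.cons_val_zero, Matrix.cons_val_one, Matrix.cons_val_two, Matrix.head_cons,
      Matrix.tail_cons, Matrix.cons_val, map_add, map_smul, smul_eq_mul, hppp,
      (show tri f u p p = 0 from e1), (show tri f w p p = 0 from e2),
      (show tri f p p u = 0 by rw [tri_swap13]; exact e1),
      (show tri f p p w = 0 by rw [tri_swap13]; exact e2),
      tri_swap13 f u u p, tri_swap12 f u p u, tri_swap13 f w w p, tri_swap12 f w p w,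
      tri_rot f u w p, tri_swap12 f w p u, tri_swap23 f p w u, tri_swap12 f u p w,
      tri_swap12 f w p u, tri_swap13 f w u u, tri_swap12 f u w u, tri_swap12 f w u w, tri_swap13 f w w u]
    ring
  have hev := fun u w (hu : φ u = 0) (hw : φ w = 0) => eval_three hf u w p hppp (hsing u hu) (hsing w hw)
  by_cases huw : tri f p u w = 0
  · by_cases hww : tri f p w w = 0
    · exact split_of_cone hf hφ hu hw hp hspan hsing huu huw hww
    -- double line
    have hmem : ∀ r s t : K, φ (r • u + s • w + t • p) = 0 := fun r s t => by simp [hu, hw, hp]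
    have hy : ∀ i, φ (![u, w, p] i) = 0 := fun i => by fin_cases i <;> simp [hu, hw, hp]
    have k1 := H ![u, w, p] _ _ hy (hmem 1 1 0) (hmem 0 1 0)
    have k2 := H ![u, w, p] _ _ hy (hmem 1 1 0) (hmem 0 1 1)
    have k3 := H ![u, w, p] _ _ hy (hmem (-1) 1 0) (hmem 0 1 0)
    have k4 := H ![u, w, p] _ _ hy (hmem (-1) 1 0) (hmem 0 1 1)
    simp only [hH u w hu hw, hev u w hu hw, huu, huw] at k1 k2 k3 k4
    have hab : tri f u u u + tri f u u w = 0 := by
      have h : (tri f u u u + tri f u u w) * (3 * tri f p w w ^ 3) = 0 := by linear_combination k1 - k2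
      simpa [hww] using h
    have hab' : -tri f u u u + tri f u u w = 0 := by
      have h : (-tri f u u u + tri f u u w) * (3 * tri f p w w ^ 3) = 0 := by linear_combination k3 - k4
      simpa [hww] using h
    have hb0 : tri f u u w = 0 := by linear_combination (hab + hab') / 2
    have ha0 : tri f u u u = 0 := by linear_combination hab - hb0
    obtain ⟨X, Y, Z, hc⟩ := exists_coord hφ hspan hu hw hp
    refine ⟨Y, Y, (3 * tri f u w w) • X + tri f w w w • Y + (3 * tri f p w w) • Z, fun x hx => ?_⟩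
    conv_lhs => rw [hc x hx, hev u w hu hw]
    simp only [huu, huw, ha0, hb0, LinearMap.add_apply, LinearMap.smul_apply, smul_eq_mul]
    ring
  · -- two lines: make both directions isotropic
    set w' := w - (tri f p w w / (2 * tri f p u w)) • u with hw'
    have hw'0 : φ w' = 0 := by simp [hw', hw, hu]
    have huw' : tri f p u w' ≠ 0 := by simp [hw', huu, huw]
    have hww' : tri f p w' w' = 0 := by
      simp [hw', huu, tri_swap23 f p w u]; field_simp; ring
    have hspan' : ∀ x, φ x = 0 → ∃ r s t : K, x = r • u + s • w' + t • p := fun x hx => by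
      obtain ⟨r, s, t, rfl⟩ := hspan x hx
      exact ⟨r + s * (tri f p w w / (2 * tri f p u w)), s, t, by rw [hw']; module⟩
    have hmem : ∀ r s t : K, φ (r • u + s • w' + t • p) = 0 := fun r s t => by simp [hu, hw'0, hp]
    have hy : ∀ i, φ (![u, w', p] i) = 0 := fun i => by fin_cases i <;> simp [hu, hw'0, hp]
    have k1 := H ![u, w', p] _ _ hy (hmem 1 0 0) (hmem 1 1 0)
    have k2 := H ![u, w', p] _ _ hy (hmem 1 0 0) (hmem 1 1 1)
    have k3 := H ![u, w', p] _ _ hy (hmem 0 1 0) (hmem 1 1 0)
    have k4 := H ![u, w', p] _ _ hy (hmem 0 1 0) (hmem 1 1 1)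
    simp only [hH u w' hu hw'0, hev u w' hu hw'0, huu, hww'] at k1 k2 k3 k4
    have ha0 : tri f u u u = 0 := by
      have h : tri f u u u * (8 * tri f p u w' ^ 3) = 0 := by linear_combination k1 - k2
      simpa [huw'] using h
    have hd0 : tri f w' w' w' = 0 := by
      have h : tri f w' w' w' * (8 * tri f p u w' ^ 3) = 0 := by linear_combination k3 - k4
      simpa [huw'] using h
    obtain ⟨X, Y, Z, hc⟩ := exists_coord hφ hspan' hu hw'0 hp
    refine ⟨X, Y, (3 * tri f u u w') • X + (3 * tri f u w' w') • Y + (6 * tri f p u w') • Z, fun x hx => ?_⟩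
    conv_lhs => rw [hc x hx, hev u w' hu hw'0]
    simp only [huu, hww', ha0, hd0, LinearMap.add_apply, LinearMap.smul_apply, smul_eq_mul]
    ring

/-- **Hessian criterion.** -/
theorem HessProp.split (hf : f.IsHomogeneous 3) {φ : (Fin 4 → K) →ₗ[K] K} (hφ : φ ≠ 0)
    (H : HessProp f φ) : Split f φ := by
  obtain ⟨v, hv, hv0⟩ : ∃ v ∈ LinearMap.ker φ, v ≠ 0 := Submodule.exists_mem_ne_zero_of_ne_bot
    fun e => by have h3 := ker_three hφ; rw [e, finrank_bot] at h3; omega
  rw [LinearMap.mem_ker] at hv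
  obtain ⟨a, b, ha, hb, hli, -⟩ := basis_ker hφ hv0 hv
  obtain ⟨p, hp0, hp, hfp⟩ : ∃ p, p ≠ 0 ∧ φ p = 0 ∧ eval p f = 0 := by
    obtain ⟨α, β, γ, δ, ε, η, hfac⟩ := binary_cubic_factor (tri f v v v) (3 * tri f a v v)
      (3 * tri f a a v) (tri f a a a)
    by_cases hα : α = 0
    · refine ⟨v, hv0, hv, ?_⟩
      have := hfac 1 0
      rw [eval_eq_tri hf]
      simpa [hα] using this
    · refine ⟨β • v + (-α) • a, fun h0 => ?_, by simp [hv, ha], ?_⟩
      · exact hα (neg_eq_zero.mp (hli β (-α) 0 (by rw [h0, zero_smul, add_zero])).2.1)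
      · have h := hfac β (-α)
        rw [show (α * β + β * -α) = 0 by ring, zero_mul, zero_mul] at h
        rw [eval_add_smul hf]
        simp only [map_smul, LinearMap.smul_apply, smul_eq_mul]
        linear_combination h
  by_cases hsing : ∀ x, φ x = 0 → tri f x p p = 0
  · exact H.split_of_singular hf hφ hp0 hp hsing
  push_neg at hsing
  obtain ⟨e, he, hee⟩ := hsing
  rw [eval_eq_tri hf] at hfp
  obtain ⟨a', b', ha', hb', hli', hsp'⟩ := basis_ker hφ hp0 hp
  -- a tangent direction
  obtain ⟨d, hd, hdd, hspan⟩ : ∃ d, φ d = 0 ∧ tri f d p p = 0 ∧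
      ∀ x, φ x = 0 → ∃ r s t : K, x = r • p + s • d + t • e := by
    obtain ⟨r₀, s₀, t₀, rfl⟩ := hsp' e he
    simp only [map_add, map_smul, LinearMap.add_apply, LinearMap.smul_apply, smul_eq_mul, hfp,
      mul_zero, zero_add] at hee
    set A := tri f a' p p
    set B := tri f b' p p
    refine ⟨B • a' - A • b', by simp [ha', hb'], by simp [A, B]; ring, fun x hx => ?_⟩
    obtain ⟨r, s, t, rfl⟩ := hsp' x hx
    set D := s₀ * A + t₀ * B
    refine ⟨r - (s * A + t * B) / D * r₀, (s * t₀ - t * s₀) / D, (s * A + t * B) / D, ?_⟩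
    have e2 : s = (s * t₀ - t * s₀) / D * B + (s * A + t * B) / D * s₀ := by
      field_simp; simp only [D]; ring
    have e3 : t = -((s * t₀ - t * s₀) / D * A) + (s * A + t * B) / D * t₀ := by
      field_simp; simp only [D]; ring
    conv_lhs => rw [e2, e3]
    module
  have hy : ∀ i, φ (![d, e, p] i) = 0 := fun i => by fin_cases i <;> simp [hd, he, hp]
  have hH : ∀ r t : K, hdet f ![d, e, p] (r • p + t • d) =
      (r * tri f d d p + t * tri f d d d) * (r * tri f e e p + t * tri f d e e) * 0 +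
      2 * ((r * tri f d e p + t * tri f d d e) * (t * tri f d d p) * (r * tri f e p p + t * tri f d e p))
      - (r * tri f d d p + t * tri f d d d) * (r * tri f e p p + t * tri f d e p) ^ 2
      - (r * tri f e e p + t * tri f d e e) * (t * tri f d d p) ^ 2 := by
    intro r t
    rw [hdet_eq]
    simp only [Matrix.cons_val_zero, Matrix.cons_val_one, Matrix.cons_val_two, Matrix.head_cons,
      Matrix.tail_cons, Matrix.cons_val, map_add, map_smul, smul_eq_mul, hfp, hdd,
      (show tri f p p d = 0 by rw [tri_swap13]; exact hdd), tri_swap23 f d p d, tri_rot f e e d,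
      tri_swap23 f d e d, tri_rot f d p e, tri_swap23 f e p d, tri_swap12 f e d p, tri_rot f p e d,
      tri_swap12 f e d e, tri_swap23 f e d e]
    ring
  have hev : ∀ r t : K, eval (r • p + t • d) f = 3 * r * t ^ 2 * tri f d d p + t ^ 3 * tri f d d d := by
    intro r t
    rw [eval_eq_tri hf]
    simp only [map_add, map_smul, LinearMap.add_apply, LinearMap.smul_apply, smul_eq_mul, hfp, hdd,
      (show tri f p p d = 0 by rw [tri_swap13]; exact hdd),
      (show tri f p d p = 0 by rw [tri_swap12]; exact hdd), tri_swap12 f p d d, tri_swap23 f d p d]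
    ring
  have hmem : ∀ r t : K, φ (r • p + t • d) = 0 := fun r t => by simp [hd, hp]
  have hev3 : ∀ z, φ z = 0 → eval z f = tri f z z z := fun z _ => eval_eq_tri hf z
  have hp_pt : eval ((1 : K) • p + (0 : K) • d) f = 0 := by rw [hev]; ring
  -- a point of the plane off the cubic
  obtain ⟨z, hz, hfz⟩ : ∃ z, φ z = 0 ∧ eval z f ≠ 0 := by
    by_contra! hall
    refine hee ?_
    have := tri_eq_zero_of_eval hf (H := LinearMap.ker φ) (fun u hu => hall u (LinearMap.mem_ker.mp hu))
      (x := e) (y := p) (z := p) (LinearMap.mem_ker.mpr he) (LinearMap.mem_ker.mpr hp) (LinearMap.mem_ker.mpr hp)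
    exact this
  have h0 := H ![d, e, p] _ z hy (hmem 1 0) hz
  rw [hp_pt, mul_zero, hH] at h0
  have hddp : tri f d d p = 0 := by
    have : tri f d d p * tri f e p p ^ 2 * eval z f = 0 := by linear_combination -h0
    simpa [hfz, hee] using this
  have hddd : tri f d d d = 0 := by
    by_contra hA
    have k1 := H ![d, e, p] _ _ hy (hmem 1 1) (hmem 0 1)
    have k2 := H ![d, e, p] _ _ hy (hmem (-1) 1) (hmem 0 1)
    simp only [hH, hev, hddp] at k1 k2
    have h : tri f d d d * tri f d d d * (2 * tri f e p p ^ 2) = 0 := by linear_combination -(k1 + k2)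
    simp [hA, hee] at h
  -- the line `p d` lies in the cubic; it carries a singular point
  obtain ⟨r, t, hrt, hq⟩ := binary_isotropic (tri f e p p) (2 * tri f d e p) (tri f d d e)
  refine H.split_of_singular hf hφ (p := r • p + t • d) ?_ (hmem r t) fun x hx => ?_
  · intro h0
    have h1 := congrArg (fun v => tri f e p v) h0
    by_cases ht : t = 0
    · have hr : r ≠ 0 := by simpa [ht] using hrt
      simp [ht, hr] at h0
      exact hp0 h0
    · have hd' : d = (-r / t) • p := by
        rw [← inv_smul_smul₀ ht d, eq_neg_of_add_eq_zero_right h0]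
        module
      obtain ⟨r₁, s₁, t₁, hab⟩ : ∃ r₁ s₁ t₁ : K, d = r₁ • p + s₁ • a' + t₁ • b' := hsp' d hd
      have k3 := ker_three hφ
      have : LinearMap.ker φ ≤ Submodule.span K {p, e} := fun x hx => by
        obtain ⟨r₂, s₂, t₂, rfl⟩ := hspan x (LinearMap.mem_ker.mp hx)
        exact Submodule.mem_span_pair.mpr ⟨r₂ + s₂ * (-r / t), t₂, by rw [hd']; module⟩
      have h2 := Submodule.finrank_mono this
      have h3 : Module.finrank K ↥(Submodule.span K ({p, e} : Set (Fin 4 → K))) ≤ 2 := by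
        rw [← Matrix.range_cons_cons_empty p e (![] : Fin 0 → Fin 4 → K)]
        exact (finrank_range_le_card _).trans (by simp)
      omega
  · obtain ⟨r', s', t', rfl⟩ := hspan x hx
    simp only [map_add, map_smul, LinearMap.add_apply, LinearMap.smul_apply, smul_eq_mul, hfp, hdd,
      (show tri f p p d = 0 by rw [tri_swap13]; exact hdd),
      (show tri f p d p = 0 by rw [tri_swap12]; exact hdd),
      (show tri f p d d = 0 by rw [tri_swap13]; exact hddp),
      (show tri f d p d = 0 by rw [tri_swap23]; exact hddp), hddp, hddd,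
      tri_rot f e d d, tri_swap23 f e p d, tri_swap12 f e d p]
    linear_combination t' * hq

/-- Functions on `K` given by polynomials. -/
noncomputable def polys (K : Type*) [Field K] : Subalgebra K (K → K) :=
  (Polynomial.aeval (fun t : K => t : K → K)).range

omit [CharZero K] [IsAlgClosed K] in
lemma eq_zero_of_polys {h : K → K} (hh : h ∈ polys K) {s : Set K} (hs : s.Infinite)
    (h0 : ∀ t ∈ s, h t = 0) (t : K) : h t = 0 := by
  obtain ⟨P, rfl⟩ := hh
  have e : ∀ x : K, Polynomial.aeval (fun t : K => t : K → K) P x = P.eval x := fun x => by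
    change Pi.evalAlgHom K (fun _ : K => K) x (Polynomial.aeval (fun t : K => t : K → K) P) = _
    rw [← Polynomial.aeval_algHom_apply]
    simp
  have hP : P = 0 := Polynomial.eq_zero_of_infinite_isRoot P
    (hs.mono fun x hx => show P.eval x = 0 from (e x) ▸ h0 x hx)
  show Polynomial.aeval (fun t : K => t : K → K) P t = 0
  rw [hP, map_zero, Pi.zero_apply]

omit [CharZero K] [IsAlgClosed K] in
lemma tri_mem_polys {A B C : K → Fin 4 → K} (hA : ∀ i, (fun t => A t i) ∈ polys K)
    (hB : ∀ i, (fun t => B t i) ∈ polys K) (hC : ∀ i, (fun t => C t i) ∈ polys K) :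
    (fun t => tri f (A t) (B t) (C t)) ∈ polys K := by
  have e : (fun t => tri f (A t) (B t) (C t)) = ∑ i, ∑ j, ∑ l, coef f i j l •
      ((fun t => A t i) * ((fun t => B t j) * fun t => C t l)) := by
    funext t; simp [tri_apply, Finset.sum_apply]
  rw [e]
  exact sum_mem fun i _ => sum_mem fun j _ => sum_mem fun l _ =>
    Subalgebra.smul_mem _ (mul_mem (hA i) (mul_mem (hB j) (hC l))) _

/-- The tangent functional at `b`. -/
noncomputable def grad (f : MvPolynomial (Fin 4) K) (b : Fin 4 → K) : (Fin 4 → K) →ₗ[K] K where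
  toFun x := tri f x b b
  map_add' x y := by simp
  map_smul' c x := by simp

omit [CharZero K] [IsAlgClosed K] in
@[simp] lemma grad_apply (f : MvPolynomial (Fin 4) K) (b x : Fin 4 → K) : grad f b x = tri f x b b := rfl

omit [CharZero K] [IsAlgClosed K] in
lemma grad_smul (b : Fin 4 → K) (c : K) : grad f (c • b) = c ^ 2 • grad f b := by
  refine LinearMap.ext fun x => ?_
  simp; ring

omit [CharZero K] [IsAlgClosed K] in
lemma split_grad_smul {b : Fin 4 → K} {c : K} (hc : c ≠ 0) :
    Split f (grad f (c • b)) ↔ Split f (grad f b) := by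
  simp [Split, grad_smul, hc]

/-- **T-points form a closed set along a parametrised curve.** -/
theorem finite_split (hf : f.IsHomogeneous 3) {γ : K → Fin 4 → K}
    (hγ : ∀ i, (fun t => γ t i) ∈ polys K) {t₀ : K} (h0 : grad f (γ t₀) ≠ 0)
    (hns : ¬ Split f (grad f (γ t₀))) : {t : K | Split f (grad f (γ t))}.Finite := by
  by_contra hinf
  refine hns (HessProp.split hf h0 ?_)
  obtain ⟨v, hv⟩ : ∃ v, grad f (γ t₀) v ≠ 0 := by
    by_contra! h; exact h0 (LinearMap.ext h)
  let π : (Fin 4 → K) → K → Fin 4 → K := fun x t => tri f v (γ t) (γ t) • x - tri f x (γ t) (γ t) • v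
  have hπ0 : ∀ x t, grad f (γ t) (π x t) = 0 := fun x t => by simp [π]; ring
  have hc : ∀ c : K, (fun _ : K => c) ∈ polys K := fun c => Subalgebra.algebraMap_mem (polys K) c
  have hπ : ∀ x i, (fun t => π x t i) ∈ polys K := fun x i => by
    have e : (fun t => π x t i) = (fun t => tri f v (γ t) (γ t)) * (fun _ => x i) -
        (fun t => tri f x (γ t) (γ t)) * fun _ => v i := by funext t; simp [π]
    rw [e]
    exact sub_mem (mul_mem (tri_mem_polys (fun i => hc _) hγ hγ) (hc _))
      (mul_mem (tri_mem_polys (fun i => hc _) hγ hγ) (hc _))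
  intro y x x' hy hx hx'
  let h : K → K := fun t => hdet f (fun i => π (y i) t) (π x t) * tri f (π x' t) (π x' t) (π x' t) -
    hdet f (fun i => π (y i) t) (π x' t) * tri f (π x t) (π x t) (π x t)
  have hh : h ∈ polys K := by
    have hd : ∀ x, (fun t => hdet f (fun i => π (y i) t) (π x t)) ∈ polys K := fun x => by
      let m : Fin 3 → Fin 3 → K → K := fun i j t => tri f (π (y i) t) (π (y j) t) (π x t)
      have hm : ∀ i j, m i j ∈ polys K := fun i j => tri_mem_polys (hπ _) (hπ _) (hπ _)
      have e : (fun t => hdet f (fun i => π (y i) t) (π x t)) = m 0 0 * m 1 1 * m 2 2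
          + (2 : K) • (m 0 1 * m 0 2 * m 1 2) - m 0 0 * (m 1 2) ^ 2 - m 1 1 * (m 0 2) ^ 2
          - m 2 2 * (m 0 1) ^ 2 := by
        funext t; simp [hdet_eq, m]
      rw [e]
      exact sub_mem (sub_mem (sub_mem (add_mem (mul_mem (mul_mem (hm _ _) (hm _ _)) (hm _ _))
        (Subalgebra.smul_mem _ (mul_mem (mul_mem (hm _ _) (hm _ _)) (hm _ _)) _))
        (mul_mem (hm _ _) (pow_mem (hm _ _) 2))) (mul_mem (hm _ _) (pow_mem (hm _ _) 2)))
        (mul_mem (hm _ _) (pow_mem (hm _ _) 2))
    exact sub_mem (mul_mem (hd x) (tri_mem_polys (hπ _) (hπ _) (hπ _)))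
      (mul_mem (hd x') (tri_mem_polys (hπ _) (hπ _) (hπ _)))
  have h0' := eq_zero_of_polys hh hinf (fun t ht => by
    have := HessProp.of_split hf ht (fun i => π (y i) t) (π x t) (π x' t) (fun i => hπ0 _ t) (hπ0 _ t) (hπ0 _ t)
    simp only [h]
    rw [← eval_eq_tri hf, ← eval_eq_tri hf, this, sub_self]) t₀
  set c := tri f v (γ t₀) (γ t₀) with hc'
  have hc0 : c ≠ 0 := hv
  have hπx : ∀ z, grad f (γ t₀) z = 0 → π z t₀ = c • z := fun z hz => by
    simp [π, ← hc', show tri f z (γ t₀) (γ t₀) = 0 from hz]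
  simp only [h, hπx _ hx, hπx _ hx', hπx _ (hy _), hdet_eq, map_smul, LinearMap.smul_apply,
    smul_eq_mul] at h0'
  rw [eval_eq_tri hf, eval_eq_tri hf, hdet_eq, hdet_eq]
  refine mul_left_cancel₀ (pow_ne_zero 12 hc0) ?_
  linear_combination h0'

end Groth.Agent.H25Cubic
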