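import Groth.Agent.H25Cubic.Tri
import Groth.Agent.H29Ci.Zero
import Mathlib.FieldTheory.IsAlgClosed.Basic

/-! Lines in planes, and lines meeting two meeting lines, on smooth cubic threefolds. -/

set_option autoImplicit false
universe u

namespace Groth.Agent.H25Cubic
open MvPolynomial

variable {K : Type u} [Field K] [CharZero K] [IsAlgClosed K] {f : MvPolynomial (Fin 5) K}

/-- A smooth cubic threefold contains no plane. -/
lemma threefold_no_plane (hf : f.IsHomogeneous 3)
    (hsm : ∀ v : Fin 5 → K, v ≠ 0 → eval v f = 0 → ∃ i, eval v (pderiv i f) ≠ 0)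
    {P : Submodule K (Fin 5 → K)} (hP : Module.finrank K P = 3) : ∃ g ∈ P, eval g f ≠ 0 := by
  classical
  by_contra! h
  let e := Module.finBasisOfFinrankEq K P hP
  obtain ⟨Q, hPQ⟩ := Submodule.exists_isCompl P
  have hQ : Module.finrank K Q = 2 := by
    have := Submodule.finrank_add_eq_of_isCompl hPQ
    rw [hP, Module.finrank_fin_fun] at this
    omega
  let e' := Module.finBasisOfFinrankEq K Q hQ
  let L : Fin 5 → MvPolynomial (Fin 3) K := fun i => ∑ j, C ((e j : Fin 5 → K) i) * X j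
  let q : Fin 2 → MvPolynomial (Fin 3) K := fun m =>
    aeval L (∑ i, C ((e' m : Fin 5 → K) i) * pderiv i f)
  have hq : ∀ m z, eval z (q m) = 3 * tri f (e' m : Fin 5 → K) (∑ j, z j • (e j : Fin 5 → K))
      (∑ j, z j • (e j : Fin 5 → K)) := fun m z => by
    have e1 : ∀ G : MvPolynomial (Fin 5) K, eval z (aeval L G) = eval (∑ j, z j • (e j : Fin 5 → K)) G :=
      fun G => by
        induction G using MvPolynomial.induction_on with
        | C a => simp
        | add p q hp hq => rw [map_add, map_add, hp, hq, map_add]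
        | mul_X p i hp =>
          rw [map_mul, map_mul, hp, map_mul]
          simp [L, Finset.sum_apply, mul_comm]
    rw [e1, ← sum_eval_pderiv hf]
    simp [map_sum]
  obtain ⟨z, hz, hz0⟩ := H29Ci.exists_ne_zero_common_zero q
    (fun m => by rw [hq]; simp) (by omega)
  set b : Fin 5 → K := ∑ j, z j • (e j : Fin 5 → K) with hb
  have hbP : b ∈ P := sum_mem fun j _ => P.smul_mem _ (e j).2
  have hb0 : b ≠ 0 := fun h0 => hz (funext (Fintype.linearIndependent_iff.mp e.linearIndependent z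
    (Subtype.ext (by simpa [hb] using h0))))
  obtain ⟨i, hi⟩ := hsm b hb0 (h b hbP)
  refine hi ?_
  have hzero : ∀ x ∈ P, tri f x b b = 0 := fun x hx => by
    have h6 := polar hf x b b
    rw [h _ (add_mem hx (add_mem hbP hbP)), h _ (add_mem hx hbP), h _ (add_mem hbP hbP), h _ hx,
      h _ hbP] at h6
    simpa using h6
  have hall : ∀ x, tri f x b b = 0 := fun x => by
    obtain ⟨p, hp, r, hr, rfl⟩ := Submodule.mem_sup.mp
      (show x ∈ P ⊔ Q by rw [hPQ.sup_eq_top]; trivial)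
    have hr' : r = ∑ m, e'.repr ⟨r, hr⟩ m • (e' m : Fin 5 → K) := by
      have := congrArg Subtype.val (e'.sum_repr ⟨r, hr⟩)
      simp only [Submodule.coe_sum, Submodule.coe_smul] at this
      exact this.symm
    rw [hr']
    simp only [map_add, LinearMap.add_apply, hzero p hp, zero_add, map_sum, map_smul, LinearMap.sum_apply,
      LinearMap.smul_apply, smul_eq_mul]
    refine Finset.sum_eq_zero fun m _ => ?_
    have := hz0 m
    rw [hq, ← hb] at this
    rw [(mul_eq_zero.mp this).resolve_left three_ne_zero, mul_zero]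
  have := sum_eval_pderiv hf (Pi.single i 1) b
  rw [hall, mul_zero] at this
  simpa [Pi.single_apply] using this

/-- A plane not contained in the cubic contains at most three lines of it. -/
lemma finite_lines_in_plane {σ : Type*} [Fintype σ] {f : MvPolynomial σ K} (hf : f.IsHomogeneous 3)
    {P : Submodule K (σ → K)} (hP : Module.finrank K P = 3) {g : σ → K} (hg : g ∈ P)
    (hfg : eval g f ≠ 0) :
    {U : Submodule K (σ → K) | Module.finrank K U = 2 ∧ U ≤ P ∧ ∀ u ∈ U, eval u f = 0}.Finite := by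
  classical
  have hg0 : g ≠ 0 := fun h => hfg (by rw [h, eval_eq_tri hf]; simp)
  obtain ⟨h₀, hh₀, hh₀'⟩ : ∃ h ∈ P, h ∉ K ∙ g := by
    by_contra! h
    have := Submodule.finrank_mono (show P ≤ K ∙ g from h)
    rw [hP, finrank_span_singleton hg0] at this
    omega
  obtain ⟨h₁, hh₁, hh₁'⟩ : ∃ h ∈ P, h ∉ Submodule.span K ({g, h₀} : Set (σ → K)) := by
    by_contra! h
    have := Submodule.finrank_mono (show P ≤ Submodule.span K {g, h₀} from h)
    have h2 : Module.finrank K ↥(Submodule.span K ({g, h₀} : Set (σ → K))) ≤ 2 := by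
      rw [← Matrix.range_cons_cons_empty g h₀ (![] : Fin 0 → σ → K)]
      exact (finrank_range_le_card _).trans (by simp)
    omega
  have hli : LinearIndependent K ![h₁, g, h₀] := by
    refine linearIndependent_finCons.mpr ⟨?_, ?_⟩
    · rw [LinearIndependent.pair_iff' hg0]
      exact fun c hc => hh₀' (hc ▸ Submodule.smul_mem _ c (Submodule.mem_span_singleton_self g))
    · rwa [Matrix.range_cons_cons_empty]
  -- each line is a graph
  have hgraph : ∀ U : Submodule K (σ → K), (Module.finrank K U = 2 ∧ U ≤ P ∧ ∀ u ∈ U, eval u f = 0) →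
      ∃ a b : K, U = Submodule.span K {h₀ + a • g, h₁ + b • g} := by
    rintro U ⟨hU, hUP, hUf⟩
    have hgU : g ∉ U := fun h => hfg (hUf g h)
    have hsup : U ⊔ K ∙ g = P := by
      refine Submodule.eq_of_le_of_finrank_le (sup_le hUP ((Submodule.span_singleton_le_iff_mem _ _).mpr hg)) ?_
      have h := Submodule.finrank_sup_add_finrank_inf_eq U (K ∙ g)
      have h0 : U ⊓ K ∙ g = ⊥ := eq_bot_iff.mpr fun x hx => by
        obtain ⟨hxU, hxg⟩ := Submodule.mem_inf.mp hx
        obtain ⟨c, rfl⟩ := Submodule.mem_span_singleton.mp hxg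
        by_cases hc : c = 0
        · simp [hc]
        · exact absurd ((U.smul_mem_iff hc).mp hxU) hgU
      rw [h0, finrank_bot, hU, finrank_span_singleton hg0] at h
      omega
    have hdec : ∀ x ∈ P, ∃ a : K, x + a • g ∈ U := fun x hx => by
      rw [← hsup] at hx
      obtain ⟨u, hu, z, hz, rfl⟩ := Submodule.mem_sup.mp hx
      obtain ⟨c, rfl⟩ := Submodule.mem_span_singleton.mp hz
      exact ⟨-c, by rwa [neg_smul, add_neg_cancel_right]⟩
    obtain ⟨a, ha⟩ := hdec h₀ hh₀
    obtain ⟨b, hb⟩ := hdec h₁ hh₁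
    refine ⟨a, b, (Submodule.eq_of_le_of_finrank_eq
      (Submodule.span_le.mpr (by rintro x (rfl | rfl) <;> assumption)) ?_).symm⟩
    rw [hU, ← Matrix.range_cons_cons_empty (h₀ + a • g) (h₁ + b • g) (![] : Fin 0 → σ → K),
      finrank_span_eq_card]
    · simp
    · refine LinearIndependent.pair_iff.mpr fun r s hrs => ?_
      have := Fintype.linearIndependent_iff.mp hli ![s, r * a + s * b, r]
        (by simp [Fin.sum_univ_three]; rw [← hrs]; module)
      exact ⟨this 2, this 0⟩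
  choose! A B hAB using hgraph
  set S := {U : Submodule K (σ → K) | Module.finrank K U = 2 ∧ U ≤ P ∧ ∀ u ∈ U, eval u f = 0}
  by_contra hinf
  obtain ⟨T, hTS, hTcard⟩ := Set.Infinite.exists_subset_card_eq hinf 4
  haveI : Infinite K := Infinite.of_injective ((↑) : ℕ → K) Nat.cast_injective
  obtain ⟨t, ht⟩ := Infinite.exists_notMem_finset
    ((T ×ˢ T).image fun UV => -(A UV.1 - A UV.2) / (B UV.1 - B UV.2))
  let p : Polynomial K := Polynomial.C (eval g f) * Polynomial.X ^ 3 +
    Polynomial.C (3 * tri f g g (h₀ + t • h₁)) * Polynomial.X ^ 2 +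
    Polynomial.C (3 * tri f g (h₀ + t • h₁) (h₀ + t • h₁)) * Polynomial.X +
    Polynomial.C (eval (h₀ + t • h₁) f)
  have hp : p.natDegree = 3 := by
    refine Polynomial.natDegree_eq_of_le_of_coeff_ne_zero (by simp only [p]; compute_degree) ?_
    simp only [p, Polynomial.coeff_add, Polynomial.coeff_C_mul, Polynomial.coeff_X_pow, Polynomial.coeff_X,
      Polynomial.coeff_C]
    norm_num [hfg]
  have hp0 : p ≠ 0 := fun h => by rw [h] at hp; simp at hp
  have hroots : T.image (fun U => A U + t * B U) ⊆ p.roots.toFinset := by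
    intro x hx
    obtain ⟨U, hU, rfl⟩ := Finset.mem_image.mp hx
    rw [Multiset.mem_toFinset, Polynomial.mem_roots hp0]
    have hmem : (h₀ + t • h₁) + (A U + t * B U) • g ∈ U := by
      have h1 : (h₀ + A U • g) + t • (h₁ + B U • g) ∈ Submodule.span K {h₀ + A U • g, h₁ + B U • g} :=
        Submodule.mem_span_pair.mpr ⟨1, t, by rw [one_smul]⟩
      rw [← hAB U (hTS hU)] at h1
      rwa [show (h₀ + t • h₁) + (A U + t * B U) • g = (h₀ + A U • g) + t • (h₁ + B U • g) by module]
    have := (hTS hU).2.2 _ hmem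
    rw [eval_add_smul hf, ← eval_eq_tri hf, ← eval_eq_tri hf] at this
    simp only [p, Polynomial.IsRoot, Polynomial.eval_add, Polynomial.eval_mul, Polynomial.eval_C,
      Polynomial.eval_X, Polynomial.eval_pow]
    linear_combination this
  have hinj : Set.InjOn (fun U => A U + t * B U) ↑T := fun U hU V hV he => by
    by_contra hne
    by_cases hB : B U = B V
    · have hA : A U = A V := by simpa [hB] using he
      exact hne ((hAB U (hTS hU)).trans (hA ▸ hB ▸ (hAB V (hTS hV)).symm))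
    · refine ht (Finset.mem_image.mpr ⟨(U, V), Finset.mem_product.mpr ⟨hU, hV⟩, ?_⟩)
      rw [div_eq_iff (sub_ne_zero.mpr hB)]
      simp only at he
      linear_combination -he
  have := (Finset.card_le_card hroots).trans ((Multiset.toFinset_card_le _).trans
    ((Polynomial.card_roots' p).trans hp.le))
  rw [Finset.card_image_of_injOn hinj, hTcard] at this
  omega

/-- **Lines meeting two meeting lines of a smooth cubic threefold.** -/
theorem exists_finite_meeting (hf : f.IsHomogeneous 3)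
    (hsm : ∀ v : Fin 5 → K, v ≠ 0 → eval v f = 0 → ∃ i, eval v (pderiv i f) ≠ 0)
    (L₁ L₂ : Submodule K (Fin 5 → K)) (h₁ : Module.finrank K ↥L₁ = 2) (h₂ : Module.finrank K ↥L₂ = 2)
    (hne : L₁ ≠ L₂) (hmeet : L₁ ⊓ L₂ ≠ ⊥) :
    ∃ G : Set (Submodule K (Fin 5 → K)), G.Finite ∧ (∀ g ∈ G, Module.finrank K ↥g = 1 ∧ g ≤ L₁) ∧
      ∀ L : Submodule K (Fin 5 → K), Module.finrank K ↥L = 2 → (∀ u ∈ L, eval u f = 0) →
        L ⊓ L₁ ≠ ⊥ → L ⊓ L₂ ≠ ⊥ → ∃ g ∈ G, g ≤ L := by
  have inf1 : ∀ {U V : Submodule K (Fin 5 → K)}, Module.finrank K U = 2 → Module.finrank K V = 2 →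
      U ≠ V → U ⊓ V ≠ ⊥ → Module.finrank K ↥(U ⊓ V) = 1 := by
    intro U V hU hV hne hm
    have h1 : 0 < Module.finrank K ↥(U ⊓ V) := Nat.pos_of_ne_zero fun e => hm (Submodule.finrank_eq_zero.mp e)
    by_contra h2
    have e1 := Submodule.eq_of_le_of_finrank_le (inf_le_left : U ⊓ V ≤ U) (by omega)
    exact hne (Submodule.eq_of_le_of_finrank_eq (e1 ▸ inf_le_right) (hU.trans hV.symm))
  have hpt := inf1 h₁ h₂ hne hmeet
  have hP3 : Module.finrank K ↥(L₁ ⊔ L₂) = 3 := by
    have := Submodule.finrank_sup_add_finrank_inf_eq L₁ L₂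
    omega
  obtain ⟨g, hg, hfg⟩ := threefold_no_plane hf hsm hP3
  refine ⟨insert (L₁ ⊓ L₂) ((fun L => L ⊓ L₁) '' {L | (Module.finrank K L = 2 ∧ L ≤ L₁ ⊔ L₂ ∧
    ∀ u ∈ L, eval u f = 0) ∧ L ≠ L₁ ∧ L ⊓ L₁ ≠ ⊥}), ?_, ?_, fun L hL hLf hm₁ hm₂ => ?_⟩
  · exact (((finite_lines_in_plane hf hP3 hg hfg).subset fun L hL => hL.1).image _).insert _
  · rintro z (rfl | ⟨L, ⟨⟨hL, -, -⟩, hne', hm⟩, rfl⟩)
    · exact ⟨hpt, inf_le_left⟩
    · exact ⟨inf1 hL h₁ hne' hm, inf_le_right⟩
  by_cases hLL : L = L₁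
  · exact ⟨_, Set.mem_insert _ _, hLL ▸ inf_le_left⟩
  by_cases hm : L ⊓ L₁ ≤ L₂
  · refine ⟨_, Set.mem_insert _ _, ?_⟩
    have e := Submodule.eq_of_le_of_finrank_eq (le_inf inf_le_right hm) ((inf1 hL h₁ hLL hm₁).trans hpt.symm)
    exact e ▸ inf_le_left
  refine ⟨L ⊓ L₁, Set.mem_insert_of_mem _ ⟨L, ⟨⟨hL, ?_, hLf⟩, hLL, hm₁⟩, rfl⟩, inf_le_left⟩
  have hsub : L ⊓ L₁ ⊔ L ⊓ L₂ = L := by
    refine Submodule.eq_of_le_of_finrank_le (sup_le inf_le_left inf_le_left) ?_
    have h := Submodule.finrank_sup_add_finrank_inf_eq (L ⊓ L₁) (L ⊓ L₂)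
    have h0 : Module.finrank K ↥(L ⊓ L₁ ⊓ (L ⊓ L₂)) = 0 := by
      by_contra h0
      have e := Submodule.eq_of_le_of_finrank_le (inf_le_left : L ⊓ L₁ ⊓ (L ⊓ L₂) ≤ L ⊓ L₁)
        (by rw [inf1 hL h₁ hLL hm₁]; omega)
      exact hm (e ▸ inf_le_right.trans inf_le_right)
    have h' : 0 < Module.finrank K ↥(L ⊓ L₂) :=
      Nat.pos_of_ne_zero fun e => hm₂ (Submodule.finrank_eq_zero.mp e)
    rw [inf1 hL h₁ hLL hm₁, h0] at h
    omega
  rw [← hsub]
  exact sup_le_sup inf_le_right inf_le_right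

end Groth.Agent.H25Cubic
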