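import Mathlib.Tactic
import Mathlib.Algebra.MvPolynomial.PDeriv
import Mathlib.Algebra.MvPolynomial.Funext
import Mathlib.RingTheory.Derivation.Lie
import Mathlib.RingTheory.MvPolynomial.EulerIdentity
import Mathlib.LinearAlgebra.Matrix.ToLin

/-! Homogeneous cubic forms as symmetric trilinear forms. -/

set_option autoImplicit false

namespace Groth.Agent.H25Cubic
open MvPolynomial

variable {σ K : Type*} [Fintype σ] [Field K]

omit [Fintype σ] in
lemma pderiv_comm (i j : σ) (p : MvPolynomial σ K) :
    pderiv i (pderiv j p) = pderiv j (pderiv i p) := by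
  classical
  have h : ⁅(pderiv i : Derivation K (MvPolynomial σ K) (MvPolynomial σ K)),
      (pderiv j : Derivation K (MvPolynomial σ K) (MvPolynomial σ K))⁆ = 0 := by
    refine derivation_ext fun k => ?_
    rw [Derivation.commutator_apply, pderiv_X, pderiv_X]
    simp [Pi.single_apply, apply_ite]
  exact sub_eq_zero.1 (by simpa [Derivation.commutator_apply] using Derivation.congr_fun h p)

noncomputable def coef (f : MvPolynomial σ K) (i j l : σ) : K :=
  constantCoeff (pderiv i (pderiv j (pderiv l f))) / 6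

omit [Fintype σ] in
lemma coef_swap12 (f : MvPolynomial σ K) (i j l : σ) : coef f i j l = coef f j i l := by
  rw [coef, coef, pderiv_comm]

omit [Fintype σ] in
lemma coef_swap23 (f : MvPolynomial σ K) (i j l : σ) : coef f i j l = coef f i l j := by
  rw [coef, coef, pderiv_comm j l]

/-- The polar form of a cubic. -/
noncomputable def tri (f : MvPolynomial σ K) :
    (σ → K) →ₗ[K] (σ → K) →ₗ[K] (σ → K) →ₗ[K] K :=
  ∑ i, ∑ j, ∑ l, coef f i j l •
    (LinearMap.proj i : (σ → K) →ₗ[K] K).smulRight
      ((LinearMap.proj j : (σ → K) →ₗ[K] K).smulRight (LinearMap.proj l : (σ → K) →ₗ[K] K))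

lemma tri_apply (f : MvPolynomial σ K) (x y z : σ → K) :
    tri f x y z = ∑ i, ∑ j, ∑ l, coef f i j l * (x i * (y j * z l)) := by
  simp [tri]

attribute [irreducible] tri

lemma tri_swap12 (f : MvPolynomial σ K) (x y z : σ → K) : tri f x y z = tri f y x z := by
  rw [tri_apply, tri_apply, Finset.sum_comm]
  refine Finset.sum_congr rfl fun i _ => Finset.sum_congr rfl fun j _ =>
    Finset.sum_congr rfl fun l _ => ?_
  rw [coef_swap12]; ring

lemma tri_swap23 (f : MvPolynomial σ K) (x y z : σ → K) : tri f x y z = tri f x z y := by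
  rw [tri_apply, tri_apply]
  refine Finset.sum_congr rfl fun i _ => ?_
  rw [Finset.sum_comm]
  refine Finset.sum_congr rfl fun j _ => Finset.sum_congr rfl fun l _ => ?_
  rw [coef_swap23]; ring

lemma tri_swap13 (f : MvPolynomial σ K) (x y z : σ → K) : tri f x y z = tri f z y x := by
  rw [tri_swap12, tri_swap23, tri_swap12]

lemma tri_rot (f : MvPolynomial σ K) (x y z : σ → K) : tri f x y z = tri f y z x := by
  rw [tri_swap12, tri_swap23]

variable {f : MvPolynomial σ K}

lemma euler_eval {n : ℕ} (hf : f.IsHomogeneous n) (x : σ → K) :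
    ∑ i, x i * eval x (pderiv i f) = n * eval x f := by
  have h := congrArg (eval x) hf.sum_X_mul_pderiv
  simpa [nsmul_eq_mul] using h

variable [CharZero K]

omit [Fintype σ] in
lemma eval_pderiv3 (hf : f.IsHomogeneous 3) (x : σ → K) (i j l : σ) :
    eval x (pderiv i (pderiv j (pderiv l f))) = 6 * coef f i j l := by
  have h : (pderiv i (pderiv j (pderiv l f))).IsHomogeneous 0 := by
    simpa using ((hf.pderiv (i := l)).pderiv (i := j)).pderiv (i := i)
  rw [← totalDegree_zero_iff_isHomogeneous, totalDegree_eq_zero_iff_eq_C] at h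
  rw [coef, h, eval_C, constantCoeff_C]
  ring

lemma sum_eval_pderiv (hf : f.IsHomogeneous 3) (w x : σ → K) :
    ∑ i, w i * eval x (pderiv i f) = 3 * tri f w x x := by
  have h1 : ∀ i, 2 * eval x (pderiv i f) = ∑ j, x j * ∑ l, x l * (6 * coef f i j l) := fun i => by
    have := euler_eval (hf.pderiv (i := i)) x
    rw [show ((3 - 1 : ℕ) : K) = 2 by norm_num] at this
    rw [← this]
    refine Finset.sum_congr rfl fun j _ => congrArg (x j * ·) ?_
    have := euler_eval ((hf.pderiv (i := i)).pderiv (i := j)) x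
    rw [show ((3 - 1 - 1 : ℕ) : K) = 1 by norm_num, one_mul] at this
    rw [← this]
    refine Finset.sum_congr rfl fun l _ => ?_
    rw [eval_pderiv3 hf, coef_swap23 f l, coef_swap12 f l, coef_swap23 f i]
  have h2 : 2 * ∑ i, w i * eval x (pderiv i f) = 2 * (3 * tri f w x x) := by
    simp only [tri_apply, Finset.mul_sum]
    refine Finset.sum_congr rfl fun i _ => ?_
    rw [show 2 * (w i * eval x (pderiv i f)) = w i * (2 * eval x (pderiv i f)) by ring, h1]
    simp only [Finset.mul_sum]
    exact Finset.sum_congr rfl fun j _ => Finset.sum_congr rfl fun l _ => by ring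
  exact mul_left_cancel₀ two_ne_zero h2

lemma eval_eq_tri (hf : f.IsHomogeneous 3) (x : σ → K) : eval x f = tri f x x x := by
  have h := (euler_eval hf x).symm.trans (sum_eval_pderiv hf x x)
  exact mul_left_cancel₀ three_ne_zero (by simpa using h)

lemma exists_tri_ne_zero (hf : f.IsHomogeneous 3) {v : σ → K}
    (h : ∃ i, eval v (pderiv i f) ≠ 0) : ∃ y, tri f y v v ≠ 0 := by
  classical
  obtain ⟨i, hi⟩ := h
  refine ⟨Pi.single i 1, fun h0 => hi ?_⟩
  simpa [h0, Pi.single_apply] using sum_eval_pderiv hf (Pi.single i 1) v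

lemma eval_add (hf : f.IsHomogeneous 3) (x y : σ → K) :
    eval (x + y) f = tri f x x x + 3 * tri f y x x + 3 * tri f y y x + tri f y y y := by
  rw [eval_eq_tri hf]
  simp only [map_add, LinearMap.add_apply]
  rw [tri_swap12 f x y x, tri_swap13 f x x y, tri_swap13 f x y y, tri_swap23 f y x y]
  ring

lemma eval_add_smul (hf : f.IsHomogeneous 3) (x y : σ → K) (s : K) :
    eval (x + s • y) f =
      tri f x x x + 3 * s * tri f y x x + 3 * s ^ 2 * tri f y y x + s ^ 3 * tri f y y y := by
  rw [eval_add hf]
  simp only [map_smul, LinearMap.smul_apply, smul_eq_mul]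
  ring

lemma eval_smul_vec (hf : f.IsHomogeneous 3) (x : σ → K) (s : K) :
    eval (s • x) f = s ^ 3 * eval x f := by
  simp only [eval_eq_tri hf, map_smul, LinearMap.smul_apply, smul_eq_mul]
  ring

lemma polar (hf : f.IsHomogeneous 3) (x y z : σ → K) :
    6 * tri f x y z = eval (x + (y + z)) f - eval (x + y) f - eval (x + z) f - eval (y + z) f
      + eval x f + eval y f + eval z f := by
  rw [eval_add hf x (y + z), eval_add hf x y, eval_add hf x z, eval_add hf y z,
    eval_eq_tri hf x, eval_eq_tri hf y, eval_eq_tri hf z]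
  simp only [map_add, LinearMap.add_apply]
  simp only [tri_rot f x y z, tri_swap12 f y z x, tri_swap12 f y z y, tri_swap12 f y z z,
    tri_swap13 f y y z, tri_swap23 f z y z]
  ring

omit [CharZero K] in
lemma eval_subst (A : Matrix σ σ K) (g : MvPolynomial σ K) (x : σ → K) :
    eval x (aeval (fun i => ∑ j, C (A i j) * X j) g) = eval (A.mulVec x) g := by
  induction g using MvPolynomial.induction_on with
  | C a => simp
  | add p q hp hq => rw [map_add, map_add, hp, hq, map_add]
  | mul_X p i hp => rw [map_mul, map_mul, hp, map_mul]; simp [Matrix.mulVec, dotProduct]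

lemma subst_eq_iff (A : Matrix σ σ K) (g h : MvPolynomial σ K) (c : K) :
    aeval (fun i => ∑ j, C (A i j) * X j) g = C c * h ↔
      ∀ x, eval (A.mulVec x) g = c * eval x h := by
  have : Infinite K := Infinite.of_injective ((↑) : ℕ → K) Nat.cast_injective
  refine ⟨fun e x => ?_, fun e => MvPolynomial.funext fun x => ?_⟩
  · rw [← eval_subst, e, eval_mul, eval_C]
  · rw [eval_subst, eval_mul, eval_C, e]

lemma tri_map {g : MvPolynomial σ K} (hf : f.IsHomogeneous 3) (hg : g.IsHomogeneous 3)
    {A : Matrix σ σ K} {c : K} (h : ∀ x, eval (A.mulVec x) f = c * eval x g) (x y z : σ → K) :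
    tri f (A.mulVec x) (A.mulVec y) (A.mulVec z) = c * tri g x y z := by
  apply mul_left_cancel₀ (show (6 : K) ≠ 0 by norm_num)
  rw [polar hf, ← mul_assoc, mul_comm 6 c, mul_assoc, polar hg]
  simp only [← Matrix.mulVec_add, h]
  ring

end Groth.Agent.H25Cubic
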